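import Cfsg.Agent.Ru8.BadC
import Cfsg.Agent.RuB.QSylD

/-!
# `|R| = 8`, bad case, part D: the final contradiction (helper143)
-/

set_option autoImplicit false

namespace Cfsg.Agent.Ru8.BadD

open Subgroup
open Cfsg.Agent.ThreePrime Cfsg.Agent.RuB Cfsg.Agent.Ru8 Cfsg.Agent.Ru8.Core8 Cfsg.Agent.Ru8.Count8 Cfsg.Agent.Ru8.BadA
open Cfsg.Agent.Ru8.BadB Cfsg.Agent.Ru8.BadC
open Cfsg.Agent.RuB.QSyl (pairsD card_pairsD K8_allD)

/-- a permutation of `K8` whose order divides `449` is trivial -/
theorem perm_one {σ : Equiv.Perm K8} (h : σ ^ 449 = 1) : σ = 1 := by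
  have h1 : orderOf σ ∣ 449 := orderOf_dvd_of_pow_eq_one h
  have h2 : orderOf σ ∣ 40320 := by
    have := orderOf_dvd_natCard σ
    rw [Nat.card_perm, K8.natCard] at this
    exact this
  exact orderOf_eq_one_iff.1 (Nat.eq_one_of_dvd_coprimes (by norm_num : Nat.Coprime 449 40320) h1 h2)

/-- a permutation of `K8` with two fixed points does not have order `7` -/
theorem perm_seven {σ : Equiv.Perm K8} (h0 : σ 0 = 0) (h1 : σ 1 = 1) : orderOf σ ≠ 7 := by
  intro h
  obtain ⟨n, hn⟩ := Equiv.Perm.cycleType_prime_order (σ := σ) (by rw [h]; norm_num)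
  have h2 := Equiv.Perm.sum_cycleType σ
  rw [hn, h, Multiset.sum_replicate, smul_eq_mul] at h2
  have h3 : σ.support ⊆ (Finset.univ : Finset K8).filter (fun x => x ≠ 0 ∧ x ≠ 1) := by
    intro x hx
    rw [Finset.mem_filter]
    refine ⟨Finset.mem_univ _, ?_, ?_⟩
    · rintro rfl
      exact (Equiv.Perm.mem_support.1 hx) h0
    · rintro rfl
      exact (Equiv.Perm.mem_support.1 hx) h1
  have h4 := Finset.card_le_card h3
  have h5 : ((Finset.univ : Finset K8).filter (fun x => x ≠ 0 ∧ x ≠ 1)).card = 6 := by decide +kernel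
  rw [h5, ← h2] at h4
  omega

variable {G : Type*} [Group G] {C : Core8 G} [Finite G]

/-- no non-trivial element of order dividing `449` commutes with a `v b` -/
theorem no449 {b : K8} (hb : b ≠ 0) {x : G} (hx : x ^ 449 = 1) (h : C.v b * x = x * C.v b) : x = 1 := by
  have hp : Fact (Nat.Prime 449) := ⟨by norm_num⟩
  -- action on the involutions of `L`
  have hz : ∀ g ∈ zpowers x, g * C.v b = C.v b * g := by
    intro g hg
    obtain ⟨n, rfl⟩ := mem_zpowers_iff.1 hg
    have h1 : Commute x (C.v b) := h.symm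
    exact (h1.zpow_left n).eq
  have hcj : ∀ g ∈ zpowers x, ∀ l, InvL C l → InvL C (g * l * g⁻¹) := by
    intro g hg l hl
    refine ⟨C.norm b hb g (hz g hg) l hl.1, ?_, ?_⟩
    · calc g * l * g⁻¹ * (g * l * g⁻¹) = g * (l * l) * g⁻¹ := by group
        _ = 1 := by rw [hl.2.1]; group
    · intro h2
      apply hl.2.2
      calc l = g⁻¹ * (g * l * g⁻¹) * g := by group
        _ = 1 := by rw [h2]; group
  let _ : MulAction (zpowers x) {l : G // InvL C l} :=
    { smul := fun g l => ⟨g * l * (g : G)⁻¹, hcj g g.2 l l.2⟩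
      one_smul := fun l => Subtype.ext (by
        show (1 : G) * l * (1 : G)⁻¹ = l
        group)
      mul_smul := fun a b l => Subtype.ext (by
        show ((a * b : zpowers x) : G) * l * ((a * b : zpowers x) : G)⁻¹ = a * (b * l * (b : G)⁻¹) * (a : G)⁻¹
        rw [Subgroup.coe_mul]; group) }
  have hsmul : ∀ (g : zpowers x) (l : {l : G // InvL C l}), ((g • l : {l : G // InvL C l}) : G) = g * l * (g : G)⁻¹ :=
    fun g l => rfl
  have hP : IsPGroup 449 (zpowers x) := by
    rintro ⟨g, hg⟩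
    refine ⟨1, Subtype.ext ?_⟩
    obtain ⟨n, rfl⟩ := mem_zpowers_iff.1 hg
    show (x ^ n) ^ 449 ^ 1 = 1
    rw [pow_one, ← zpow_natCast, ← zpow_mul, mul_comm, zpow_mul]
    have : x ^ ((449 : ℕ) : ℤ) = 1 := by rw [zpow_natCast, hx]
    rw [this, one_zpow]
  obtain ⟨l, hl⟩ := hP.nonempty_fixed_point_of_prime_not_dvd_card {l : G // InvL C l} (by
    rw [card_InvL]; norm_num)
  have hl1 : x * l * x⁻¹ = l := by
    have := congrArg Subtype.val (hl ⟨x, mem_zpowers x⟩)
    exact this
  obtain ⟨m, hm, hml⟩ := exists_conj_L l.2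
  set x' := m⁻¹ * x * m with hx'
  have hx1 : x' ^ 449 = 1 := by
    have h1 : x' = m⁻¹ * x * m⁻¹⁻¹ := by rw [hx', inv_inv]
    rw [h1, conj_pow, hx]; group
  have hxz : x' * C.z 1 = C.z 1 * x' := by
    rw [← hml] at hl1
    have h1 := mul_inv_eq_iff_eq_mul.1 hl1
    rw [hx']
    calc m⁻¹ * x * m * C.z 1 = m⁻¹ * (x * (m * C.z 1 * m⁻¹)) * m := by group
      _ = _ := by rw [h1]; group
  have hxv : x' * C.v b = C.v b * x' := by
    have h1 := C.v_comm b m hm
    have h2 := C.v_comm b m⁻¹ (inv_mem hm)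
    rw [hx']
    calc m⁻¹ * x * m * C.v b = m⁻¹ * x * (m * C.v b) := by group
      _ = m⁻¹ * (x * C.v b) * m := by rw [← h1]; group
      _ = (m⁻¹ * C.v b) * x * m := by rw [← h]; group
      _ = _ := by rw [← h2]; group
  have hr : ∀ e, ∃ f, x' * C.z e * x'⁻¹ = C.z f := by
    intro e
    have h1 : x' * C.z e * x'⁻¹ ∈ C.L := C.norm b hb x' hxv _ (C.z_mem e)
    have h2 : x' * C.z e * x'⁻¹ * C.z 1 = C.z 1 * (x' * C.z e * x'⁻¹) := by
      have h3 : x'⁻¹ * C.z 1 = C.z 1 * x'⁻¹ := by
        rw [inv_mul_eq_iff_eq_mul, ← mul_assoc, hxz, mul_inv_cancel_right]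
      calc x' * C.z e * x'⁻¹ * C.z 1 = x' * C.z e * (x'⁻¹ * C.z 1) := by group
        _ = x' * (C.z e * C.z 1) * x'⁻¹ := by rw [h3]; group
        _ = (x' * C.z 1) * C.z e * x'⁻¹ := by rw [C.z_comm]; group
        _ = _ := by rw [hxz]; group
    obtain ⟨a, f, h3⟩ := mem_T_of_comm h1 h2
    have h4 : x' * C.z e * x'⁻¹ * (x' * C.z e * x'⁻¹) = 1 := by
      calc x' * C.z e * x'⁻¹ * (x' * C.z e * x'⁻¹) = x' * (C.z e * C.z e) * x'⁻¹ := by group
        _ = 1 := by rw [C.z_sq]; group
    rw [h3, C.U_sq] at h4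
    have h5 := pow5_eq_zero _ (C.z_eq_one h4)
    subst h5
    exact ⟨f, h3⟩
  choose r hr using hr
  have hrinj : Function.Injective r := by
    intro e f hef
    have h1 := hr e
    rw [hef, ← hr f] at h1
    exact C.z_inj (mul_left_cancel (mul_right_cancel h1))
  let σ : Equiv.Perm K8 := Equiv.ofBijective r (Finite.injective_iff_bijective.1 hrinj)
  have hσ : ∀ (n : ℕ) e, x' ^ n * C.z e * (x' ^ n)⁻¹ = C.z ((σ ^ n) e) := by
    intro n
    induction n with
    | zero => intro e; rw [pow_zero, pow_zero]; show (1 : G) * C.z e * 1⁻¹ = C.z e; group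
    | succ n ih =>
      intro e
      rw [pow_succ', pow_succ']
      show _ = C.z (r ((σ ^ n) e))
      rw [← hr, ← ih]
      group
  have hσ1 : σ = 1 := by
    apply perm_one
    ext e
    apply C.z_inj
    rw [← hσ, hx1]
    show 1 * C.z e * 1⁻¹ = C.z e
    group
  have hxz' : ∀ e, x' * C.z e = C.z e * x' := by
    intro e
    have h1 := hσ 1 e
    rw [pow_one, pow_one, hσ1] at h1
    exact mul_inv_eq_iff_eq_mul.1 h1
  obtain ⟨b', a, e, h1⟩ := eq_of_comm hb hxv hxz'
  have h2 : x' ^ 4 = 1 := by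
    have h3 : x' * x' = C.z (a ^ 5) := by rw [h1, T_sq]
    have h4 : x' ^ 4 = (x' * x') * (x' * x') := by rw [show (4 : ℕ) = 2 + 2 from rfl, pow_add, pow_two]
    rw [h4, h3, C.z_sq]
  have h3 : orderOf x' = 1 :=
    Nat.eq_one_of_dvd_coprimes (by norm_num : Nat.Coprime 4 449) (orderOf_dvd_of_pow_eq_one h2) (orderOf_dvd_of_pow_eq_one hx1)
  have h4 := orderOf_eq_one_iff.1 h3
  calc x = m * x' * m⁻¹ := by rw [hx']; group
    _ = 1 := by rw [h4]; group

/-- the finite check -/
theorem checkE : ∀ e ∈ [1, 3, 5, 9, 15], ∀ d ∈ Nat.divisors (455 * e), ∀ i < 13, d * 2 ^ i % 449 = 1 →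
    d * 2 ^ i = 1 := by
  decide +kernel

theorem mem_listE {e : ℕ} (he : e ∣ 315) (he2 : e ≤ 24) (he7 : ¬ 7 ∣ e) : e ∈ [1, 3, 5, 9, 15] := by
  have h : ∀ e ≤ 24, e ∣ 315 → ¬ 7 ∣ e → e ∈ [1, 3, 5, 9, 15] := by decide +kernel
  exact h e he2 he he7

theorem eq_one_of_modE {e n : ℕ} (he : e ∣ 315) (he2 : e ≤ 24) (he7 : ¬ 7 ∣ e) (hn : n ∣ 455 * (4096 * e))
    (hm : n % 449 = 1) : n = 1 := by
  have h1 : 455 * (4096 * e) = (455 * e) * 2 ^ 12 := by ring
  rw [h1, Nat.dvd_mul] at hn
  obtain ⟨d, y, hd, hy, rfl⟩ := hn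
  rw [Nat.dvd_prime_pow Nat.prime_two] at hy
  obtain ⟨i, hi, rfl⟩ := hy
  have he0 : e ≠ 0 := by
    rintro rfl
    exact absurd he (by decide)
  exact checkE e (mem_listE he he2 he7) d (Nat.mem_divisors.2 ⟨hd, by positivity⟩) i (by omega) hm

theorem false_of_card8 (C : Core8 G) {e : ℕ} (he : e ∣ 315) (he2 : e ≤ 24) (he7 : ¬ 7 ∣ e)
    (hG : Nat.card G = 455 * 449 * (4096 * e)) : False := by
  have hp : Nat.Prime 449 := by norm_num
  have : Fact (Nat.Prime 449) := ⟨hp⟩
  have he0 : e ≠ 0 := by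
    rintro rfl
    exact absurd he (by decide)
  have hG' : Nat.card G = 449 * (455 * (4096 * e)) := by rw [hG]; ring
  have hnd : ¬ 449 ∣ 455 * (4096 * e) := by
    intro h
    rcases hp.dvd_mul.1 h with h1 | h1
    · exact absurd h1 (by norm_num)
    · rcases hp.dvd_mul.1 h1 with h2 | h2
      · exact absurd h2 (by norm_num)
      · have := Nat.le_of_dvd (Nat.pos_of_ne_zero he0) h2
        omega
  obtain ⟨P⟩ : Nonempty (Sylow 449 G) := inferInstance
  have hcP : Nat.card P = 449 := by
    have h1 := P.card_eq_multiplicity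
    have h2 : (Nat.card G).factorization 449 = 1 := by
      have hm0 : 455 * (4096 * e) ≠ 0 := by positivity
      rw [hG', Nat.factorization_mul hp.ne_zero hm0, Finsupp.add_apply, hp.factorization_self,
        Nat.factorization_eq_zero_of_not_dvd hnd]
    rw [h2, pow_one] at h1
    exact h1
  have hidx : (P : Subgroup G).index = 455 * (4096 * e) := by
    have h1 := (P : Subgroup G).card_mul_index
    have h1' : 449 * (P : Subgroup G).index = 449 * (455 * (4096 * e)) := by
      rw [← hG', ← h1, hcP]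
    exact Nat.eq_of_mul_eq_mul_left (by norm_num) h1'
  have hn1 : Nat.card (Sylow 449 G) = 1 := by
    have h1 := P.card_dvd_index
    rw [hidx] at h1
    have h2 : Nat.card (Sylow 449 G) % 449 = 1 % 449 := card_sylow_modEq_one 449 G
    exact eq_one_of_modE he he2 he7 h1 h2
  have hss : Subsingleton (Sylow 449 G) := (Nat.card_eq_one_iff_unique.1 hn1).1
  have hnorm : (P : Subgroup G).Normal := P.normal_of_subsingleton
  -- no fixed points
  have hfix : ∀ b : K8, b ≠ 0 → ∀ x ∈ (P : Subgroup G), C.v b * x = x * C.v b → x = 1 := by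
    intro b hb x hx hc
    have h1 : orderOf x ∣ 449 := by
      have := orderOf_dvd_natCard (⟨x, hx⟩ : (P : Subgroup G))
      rw [Subgroup.orderOf_mk] at this
      rwa [hcP] at this
    exact no449 hb (orderOf_dvd_iff_pow_eq_one.1 h1) hc
  have hi1 := CGZ.inverts (N := (P : Subgroup G)) (C.v_sq 1) (hfix _ one_ne_zero)
  have hi2 := CGZ.inverts (N := (P : Subgroup G)) (C.v_sq K8.al) (hfix _ al_ne)
  have htriv : ∀ x ∈ (P : Subgroup G), x = 1 := by
    intro x hx
    apply hfix (1 + K8.al) al_ne' x hx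
    have h4 : C.v 1 * (C.v K8.al * x * (C.v K8.al)⁻¹) * (C.v 1)⁻¹ = x := by
      rw [hi2 x hx, hi1 _ (inv_mem hx), inv_inv]
    rw [C.v_add]
    calc C.v 1 * C.v K8.al * x
        = (C.v 1 * (C.v K8.al * x * (C.v K8.al)⁻¹) * (C.v 1)⁻¹) * (C.v 1 * C.v K8.al) := by group
      _ = x * (C.v 1 * C.v K8.al) := by rw [h4]
  have hbot : (P : Subgroup G) = ⊥ := by
    rw [eq_bot_iff]
    intro x hx
    rw [mem_bot]
    exact htriv x hx
  have h5 : Nat.card (P : Subgroup G) = 1 := by rw [hbot, Subgroup.card_bot]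
  rw [hcP] at h5
  exact absurd h5 (by norm_num)

omit [Finite G] in
theorem card_cent_z8 (C : Core8 G)
    (hZ : ∀ g, g * C.z 1 = C.z 1 * g → ∀ e, ∃ e1, g * C.z e * g⁻¹ = C.z e1)
    (hC : ∀ g, (∀ e, g * C.z e = C.z e * g) → g ∈ C.QQ)
    (hodd : ∃ m, Odd m ∧ Nat.card (centralizer ({C.z 1} : Set G)) = 4096 * m) :
    ∃ e, e ∣ 315 ∧ e ≤ 24 ∧ ¬ 7 ∣ e ∧ Nat.card (centralizer ({C.z 1} : Set G)) = 4096 * e := by
  classical
  obtain ⟨m, hm, hcard⟩ := hodd
  have hH : ∀ g : centralizer ({C.z 1} : Set G), (g : G) * C.z 1 = C.z 1 * g :=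
    fun g => mem_centralizer_singleton_iff.1 g.2
  let r : centralizer ({C.z 1} : Set G) → K8 → K8 := fun g e => (hZ g (hH g) e).choose
  have hr : ∀ (g : centralizer ({C.z 1} : Set G)) (e : K8), (g : G) * C.z e * (g : G)⁻¹ = C.z (r g e) :=
    fun g e => (hZ g (hH g) e).choose_spec
  let act : MulAction (centralizer ({C.z 1} : Set G)) K8 :=
    { smul := r
      one_smul := fun e => by
        apply C.z_inj
        show C.z (r 1 e) = C.z e
        rw [← hr]
        show (1 : G) * C.z e * (1 : G)⁻¹ = C.z e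
        group
      mul_smul := fun g h e => by
        apply C.z_inj
        show C.z (r (g * h) e) = C.z (r g (r h e))
        rw [← hr, ← hr, ← hr]
        show ((g : G) * h) * C.z e * ((g : G) * h)⁻¹ = _
        group }
  let φ : centralizer ({C.z 1} : Set G) →* Equiv.Perm K8 := MulAction.toPermHom _ K8
  have hφ : ∀ g e, φ g e = r g e := fun _ _ => rfl
  -- the kernel
  have hker : ∀ g, g ∈ φ.ker ↔ (g : G) ∈ C.QQ := by
    intro g
    rw [MonoidHom.mem_ker]
    constructor
    · intro h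
      apply hC
      intro e
      have h1 : r g e = e := by rw [← hφ, h]; rfl
      have h2 := hr g e
      rw [h1, mul_inv_eq_iff_eq_mul] at h2
      exact h2
    · intro h
      ext e
      rw [hφ]
      show r g e = e
      apply C.z_inj
      rw [← hr, Core8.zcomm h, mul_inv_cancel_right]
  have hkc : Nat.card φ.ker = 4096 := by
    rw [← card_QQ C]
    refine Nat.card_congr ⟨fun g => ⟨g.1, (hker _).1 g.2⟩,
      fun q => ⟨⟨q.1, mem_centralizer_singleton_iff.2 (Core8.zcomm q.2 1)⟩, (hker _).2 q.2⟩, fun g => ?_, fun q => ?_⟩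
    · rfl
    · rfl
  have hrange : Nat.card φ.range = m := by
    have h1 := Subgroup.card_eq_card_quotient_mul_card_subgroup φ.ker
    rw [Nat.card_congr (QuotientGroup.quotientKerEquivRange φ).toEquiv, hkc, hcard, mul_comm] at h1
    exact (Nat.eq_of_mul_eq_mul_right (by norm_num) h1).symm
  -- additivity
  have hadd : ∀ g a b, r g (a + b) = r g a + r g b := by
    intro g a b
    apply C.z_inj
    rw [← hr, C.z_add, C.z_add, ← hr, ← hr]
    group
  have h1 : ∀ g, r g 1 = 1 := by
    intro g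
    apply C.z_inj
    rw [← hr, hH, mul_inv_cancel_right]
  have h0 : ∀ g, r g 0 = 0 := by
    intro g
    have := hadd g 0 0
    rw [add_zero] at this
    linear_combination -this
  refine ⟨m, ?_, ?_, ?_, hcard⟩
  · have h1 : m ∣ 40320 := by
      rw [← hrange]
      have h2 := Subgroup.card_subgroup_dvd_card φ.range
      rw [Nat.card_perm, K8.natCard] at h2
      exact h2
    have h2 : Nat.Coprime m (2 ^ 7) := by
      apply Nat.Coprime.pow_right
      rw [Nat.coprime_comm, Nat.Prime.coprime_iff_not_dvd Nat.prime_two]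
      intro h
      exact (Nat.not_even_iff_odd.2 hm) (even_iff_two_dvd.2 h)
    have h3 : (40320 : ℕ) = 2 ^ 7 * 315 := by norm_num
    rw [h3] at h1
    exact h2.dvd_of_dvd_mul_left h1
  · rw [← hrange, ← card_pairsD]
    have hinj : ∀ g a b, r g a = r g b → a = b := by
      intro g a b h
      rw [← hφ, ← hφ] at h
      exact (φ g).injective h
    let F : φ.range → pairsD := fun σ => ⟨(σ.1 K8.al, σ.1 (K8.al ^ 2)), by
      obtain ⟨g, hg⟩ := σ.2
      rw [← hg, hφ, hφ]
      unfold pairsD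
      rw [Finset.mem_filter]
      refine ⟨Finset.mem_univ _, ?_, ?_, ?_, ?_, ?_, ?_⟩
      · intro h
        have := hinj g _ _ (h.trans (h0 g).symm)
        exact absurd this (by decide +kernel)
      · intro h
        have := hinj g _ _ (h.trans (h1 g).symm)
        exact absurd this (by decide +kernel)
      · intro h
        have := hinj g _ _ (h.trans (h0 g).symm)
        exact absurd this (by decide +kernel)
      · intro h
        have := hinj g _ _ (h.trans (h1 g).symm)
        exact absurd this (by decide +kernel)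
      · intro h
        have := hinj g _ _ h
        exact absurd this (by decide +kernel)
      · intro h
        have h2 : r g (K8.al ^ 2) = r g (1 + K8.al) := by
          rw [hadd, h1]
          exact h
        have := hinj g _ _ h2
        exact absurd this (by decide +kernel)⟩
    have hF : Function.Injective F := by
      rintro ⟨σ, g, rfl⟩ ⟨τ, h, rfl⟩ hst
      have h2 := congrArg Subtype.val hst
      have h3 : r g K8.al = r h K8.al := congrArg Prod.fst h2
      have h4 : r g (K8.al ^ 2) = r h (K8.al ^ 2) := congrArg Prod.snd h2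
      apply Subtype.ext
      ext x
      show r g x = r h x
      rcases K8_allD x with rfl | rfl | rfl | rfl | rfl | rfl | rfl | rfl
      · rw [h0, h0]
      · rw [h1, h1]
      · rw [h3]
      · rw [hadd, hadd, h1, h1, h3]
      · rw [h4]
      · rw [hadd, hadd, h1, h1, h4]
      · rw [hadd, hadd, h3, h4]
      · rw [hadd, hadd, hadd, hadd, h1, h1, h3, h4]
    have h5 := Nat.card_le_card_of_injective F hF
    rw [Nat.card_eq_fintype_card (α := pairsD), Fintype.card_coe] at h5
    exact h5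
  · intro h7
    have : Fact (Nat.Prime 7) := ⟨by norm_num⟩
    rw [← hrange] at h7
    obtain ⟨σ, hσ⟩ := exists_prime_orderOf_dvd_card' (G := φ.range) 7 h7
    obtain ⟨g, hg⟩ := σ.2
    rw [← Subgroup.orderOf_coe, ← hg] at hσ
    exact perm_seven (h0 g) (h1 g) hσ

/-- the bad case is impossible -/
theorem false_of_bad (C : Core8 G) (hbad : Bad C) : False := by
  obtain ⟨e, he1, he2, he7, he3⟩ := card_cent_z8 C (fun g hg e => cent_z_norm hbad hg e) (fun g hg => cent_Z hbad hg)
    (card_odd_part hbad)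
  refine false_of_card8 C he1 he2 he7 ?_
  rw [card_G' hbad, he3]

/-- all squares of elements of `Q` lie in `Z` -/
theorem good (C : Core8 G) : C.Good := by
  rcases dichotomy (C := C) with h | h
  · exact h
  · exact (false_of_bad C h).elim

/-- coordinates -/
theorem nonempty_coord (C : Core8 G) : Nonempty (Coord8 C) := exists_coord (good C)

end Cfsg.Agent.Ru8.BadD
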