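import Mathlib
import Cfsg.Agent.RuRed.PairBasic

/-!
# Strongly closed centre: the basic lemmas for the counting argument

`Z` elementary abelian of order 8 in the centre of a 2-subgroup `P` into which every 2-subgroup of `G` is
conjugate, `D` = conjugates of elements of `Z#`, `D ∩ P = Z#`, and an element of `D` commuting with an element of
`Z#` lies in `Z`.
-/

set_option autoImplicit false
set_option linter.unusedSectionVars false

namespace Cfsg.Agent.Ru8

open Subgroup
open Cfsg.Agent.RuRed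

variable {G : Type*} [Group G]

/-- the situation -/
structure SCtx (Z P : Subgroup G) : Prop where
  card : Nat.card Z = 8
  sq : ∀ z ∈ Z, z * z = 1
  le : Z ≤ P
  two : IsPGroup 2 P
  cent : ∀ x ∈ P, ∀ z ∈ Z, x * z = z * x
  syl : ∀ W : Subgroup G, IsPGroup 2 W → ∃ g : G, ∀ w ∈ W, g * w * g⁻¹ ∈ P
  fus : ∀ g : G, ∀ z ∈ Z, z ≠ 1 → g * z * g⁻¹ ∈ P → g * z * g⁻¹ ∈ Z
  ti : ∀ g : G, ∀ z ∈ Z, z ≠ 1 → ∀ y ∈ Z, y ≠ 1 → g * z * g⁻¹ * y = y * (g * z * g⁻¹) → g * z * g⁻¹ ∈ Z

/-- the conjugate `g Z g⁻¹` -/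
def pt (Z : Subgroup G) (g : G) : Subgroup G := Z.map (MulAut.conj g).toMonoidHom

theorem mem_pt {Z : Subgroup G} {g x : G} : x ∈ pt Z g ↔ g⁻¹ * x * g ∈ Z := by
  constructor
  · rintro ⟨a, ha, rfl⟩
    have : g⁻¹ * (MulAut.conj g).toMonoidHom a * g = a := by
      show g⁻¹ * (g * a * g⁻¹) * g = a
      group
    rw [this]; exact ha
  · intro h
    refine ⟨g⁻¹ * x * g, h, ?_⟩
    show g * (g⁻¹ * x * g) * g⁻¹ = x
    group

theorem conj_mem_pt {Z : Subgroup G} {g z : G} (h : z ∈ Z) : g * z * g⁻¹ ∈ pt Z g := by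
  rw [mem_pt]
  have : g⁻¹ * (g * z * g⁻¹) * g = z := by group
  rwa [this]

theorem pt_conj {Z : Subgroup G} {c g x : G} : x ∈ pt Z (c * g) ↔ c⁻¹ * x * c ∈ pt Z g := by
  rw [mem_pt, mem_pt]
  have : (c * g)⁻¹ * x * (c * g) = g⁻¹ * (c⁻¹ * x * c) * g := by group
  rw [this]

/-- the class -/
def DD (Z : Subgroup G) (x : G) : Prop := ∃ g : G, ∃ z ∈ Z, z ≠ 1 ∧ x = g * z * g⁻¹

/-- 2-elements -/
def T2 (x : G) : Prop := ∃ k : ℕ, x ^ 2 ^ k = 1

theorem T2.of_sq {x : G} (h : x * x = 1) : T2 x := ⟨1, by rw [pow_one, pow_two, h]⟩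

theorem T2.conj {x : G} (h : T2 x) (g : G) : T2 (g * x * g⁻¹) := by
  obtain ⟨k, hk⟩ := h
  exact ⟨k, by rw [conj_pow, hk]; group⟩

theorem DD.conj {Z : Subgroup G} {x : G} (h : DD Z x) (c : G) : DD Z (c * x * c⁻¹) := by
  obtain ⟨g, z, hz, h1, rfl⟩ := h
  exact ⟨c * g, z, hz, h1, by group⟩

theorem DD.ne_one {Z : Subgroup G} {x : G} (h : DD Z x) : x ≠ 1 := by
  obtain ⟨g, z, hz, h1, rfl⟩ := h
  intro h2
  apply h1
  have : z = g⁻¹ * (g * z * g⁻¹) * g := by group
  rw [this, h2]; group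

theorem DD_of_pt {Z : Subgroup G} {g x : G} (h : x ∈ pt Z g) (h1 : x ≠ 1) : DD Z x := by
  rw [mem_pt] at h
  refine ⟨g, _, h, ?_, by group⟩
  intro h2
  apply h1
  have : x = g * (g⁻¹ * x * g) * g⁻¹ := by group
  rw [this, h2]; group

theorem DD_iff {Z : Subgroup G} {x : G} : DD Z x ↔ ∃ g, x ∈ pt Z g ∧ x ≠ 1 := by
  constructor
  · intro h
    have h1 := h.ne_one
    obtain ⟨g, z, hz, -, rfl⟩ := h
    exact ⟨g, conj_mem_pt hz, h1⟩
  · rintro ⟨g, h, h1⟩
    exact DD_of_pt h h1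

theorem DD_of_mem {Z : Subgroup G} {x : G} (h : x ∈ Z) (h1 : x ≠ 1) : DD Z x := ⟨1, x, h, h1, by group⟩

theorem mem_pt_one {Z : Subgroup G} {x : G} : x ∈ pt Z 1 ↔ x ∈ Z := by
  rw [mem_pt, inv_one, one_mul, mul_one]

namespace SCtx

variable {Z P : Subgroup G} (S : SCtx Z P)

include S

theorem sq_DD {x : G} (h : DD Z x) : x * x = 1 := by
  obtain ⟨g, z, hz, -, rfl⟩ := h
  have : g * z * g⁻¹ * (g * z * g⁻¹) = g * (z * z) * g⁻¹ := by group
  rw [this, S.sq z hz]; group

theorem pt_sq {g x : G} (h : x ∈ pt Z g) : x * x = 1 := by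
  rw [mem_pt] at h
  have h1 := S.sq _ h
  have : x * x = g * (g⁻¹ * x * g * (g⁻¹ * x * g)) * g⁻¹ := by group
  rw [this, h1]; group

theorem pt_comm {g x y : G} (hx : x ∈ pt Z g) (hy : y ∈ pt Z g) : x * y = y * x := by
  have h1 := S.pt_sq hx
  have h2 := S.pt_sq hy
  have h3 := S.pt_sq (mul_mem hx hy)
  calc x * y = x * y * (y * x * (x * y)) * 1 := by
        have : y * x * (x * y) = 1 := by
          calc y * x * (x * y) = y * (x * x) * y := by group
            _ = 1 := by rw [h1, mul_one, h2]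
        rw [this, mul_one, mul_one]
    _ = (x * y) * (y * x) * (x * y) := by group
    _ = (x * (y * y) * x) * (x * y) := by group
    _ = x * y := by rw [h2, mul_one, h1, one_mul]
    _ = (x * y) * 1 := by rw [mul_one]
    _ = y * x * ((x * y) * (x * y)) := by
        rw [h3, mul_one, mul_one]
        have h4 : (x * y) * (x * y) = 1 := h3
        have h5 : y * x = (x * y)⁻¹ := by
          rw [mul_inv_rev, inv_eq_of_mul_eq_one_right h1, inv_eq_of_mul_eq_one_right h2]
        rw [h5]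
        exact (inv_eq_of_mul_eq_one_right h4).symm
    _ = y * x := by rw [h3, mul_one]

/-- commuting elements of the class lie in the same conjugate of `Z` -/
theorem same {g x y : G} (hx : x ∈ pt Z g) (hx1 : x ≠ 1) (hy : DD Z y) (h : x * y = y * x) : y ∈ pt Z g := by
  rw [mem_pt] at hx ⊢
  obtain ⟨k, z, hz, hz1, rfl⟩ := hy
  have h1 := S.ti (g⁻¹ * k) z hz hz1 (g⁻¹ * x * g) hx (by
    intro h2
    apply hx1
    have : x = g * (g⁻¹ * x * g) * g⁻¹ := by group
    rw [this, h2]; group) (by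
    calc g⁻¹ * k * z * (g⁻¹ * k)⁻¹ * (g⁻¹ * x * g) = g⁻¹ * ((k * z * k⁻¹) * x) * g := by group
      _ = g⁻¹ * (x * (k * z * k⁻¹)) * g := by rw [h]
      _ = _ := by group)
  have e : g⁻¹ * (k * z * k⁻¹) * g = g⁻¹ * k * z * (g⁻¹ * k)⁻¹ := by group
  rw [e]
  exact h1

/-- an element of the class is central in every 2-subgroup containing it -/
theorem central {W : Subgroup G} (hW : IsPGroup 2 W) {x w : G} (hx : DD Z x) (hxW : x ∈ W) (hw : w ∈ W) :
    w * x = x * w := by
  obtain ⟨h, hh⟩ := S.syl W hW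
  obtain ⟨g, z, hz, hz1, rfl⟩ := hx
  have h1 := hh _ hxW
  have e : h * (g * z * g⁻¹) * h⁻¹ = h * g * z * (h * g)⁻¹ := by group
  rw [e] at h1
  have h2 := S.fus (h * g) z hz hz1 h1
  have h3 := S.cent _ (hh w hw) _ h2
  rw [← e] at h3
  calc w * (g * z * g⁻¹) = h⁻¹ * (h * w * h⁻¹ * (h * (g * z * g⁻¹) * h⁻¹)) * h := by group
    _ = _ := by rw [h3]; group

theorem pt_two (g : G) : IsPGroup 2 (pt Z g) := by
  rintro ⟨x, hx⟩
  refine ⟨1, Subtype.ext ?_⟩
  show x ^ 2 ^ 1 = 1
  rw [pow_one, pow_two, S.pt_sq hx]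

/-- a 2-element commuting with a nontrivial element of `pt g` centralises `pt g` -/
theorem cent_pt [Finite G] {g x w : G} (hw : T2 w) (hx : x ∈ pt Z g) (hx1 : x ≠ 1) (h : w * x = x * w) {b : G}
    (hb : b ∈ pt Z g) : w * b = b * w := by
  by_cases hb1 : b = 1
  · rw [hb1, one_mul, mul_one]
  have hn : w ∈ normalizer (pt Z g : Set G) := by
    refine mem_norm_of_conj_le fun y hy => ?_
    by_cases hy1 : y = 1
    · rw [hy1, mul_one, mul_inv_cancel]; exact one_mem _
    · refine S.same hx hx1 ((DD_of_pt hy hy1).conj w) ?_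
      have h1 := S.pt_comm hx hy
      calc x * (w * y * w⁻¹) = (x * w) * y * w⁻¹ := by group
        _ = w * (x * y) * w⁻¹ := by rw [← h]; group
        _ = w * y * (x * w⁻¹) := by rw [h1]; group
        _ = w * y * (w⁻¹ * x) := by
            have : x * w⁻¹ = w⁻¹ * x := by
              rw [eq_inv_mul_iff_mul_eq, ← mul_assoc, h, mul_inv_cancel_right]
            rw [this]
        _ = _ := by group
  have h2 : IsPGroup 2 (zpowers w ⊔ pt Z g : Subgroup G) :=
    IsPGroup.to_sup_of_normal_right' (isPGroup_zpowers hw) (S.pt_two g) (by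
      rw [zpowers_le]; exact hn)
  exact S.central h2 (DD_of_pt hb hb1) (mem_sup_right hb) (mem_sup_left (mem_zpowers w))

end SCtx

/-! ### dihedral groups -/

theorem dih_inv {x y : G} (hx : x * x = 1) (hy : y * y = 1) (k : ℕ) : x * (x * y) ^ k * x⁻¹ = ((x * y) ^ k)⁻¹ := by
  have ix : x⁻¹ = x := inv_eq_of_mul_eq_one_left hx
  have iy : y⁻¹ = y := inv_eq_of_mul_eq_one_left hy
  have c1 : x * (x * y) * x⁻¹ = (x * y)⁻¹ := by
    rw [mul_inv_rev, ix, iy, ← mul_assoc, hx, one_mul]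
  rw [← conj_pow, c1, inv_pow]

/-- `(x y) ^ (2 j + 1) = x y'` with `y'` conjugate to `y` -/
theorem dih_pow {x y : G} (hx : x * x = 1) (hy : y * y = 1) (j : ℕ) :
    (x * y) ^ (2 * j + 1) = x * (((x * y) ^ j)⁻¹ * y * (((x * y) ^ j)⁻¹)⁻¹) := by
  have h1 := dih_inv hx hy j
  have ix : x⁻¹ = x := inv_eq_of_mul_eq_one_left hx
  rw [ix] at h1
  have h2 : x * ((x * y) ^ j)⁻¹ = (x * y) ^ j * x := by
    rw [← h1]
    calc x * (x * (x * y) ^ j * x) = (x * x) * (x * y) ^ j * x := by group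
      _ = _ := by rw [hx, one_mul]
  rw [inv_inv]
  calc (x * y) ^ (2 * j + 1) = (x * y) ^ j * (x * y) * (x * y) ^ j := by
        have e : 2 * j + 1 = j + 1 + j := by omega
        rw [e, pow_add, pow_add, pow_one]
    _ = ((x * y) ^ j * x) * y * (x * y) ^ j := by group
    _ = (x * ((x * y) ^ j)⁻¹) * y * (x * y) ^ j := by rw [h2]
    _ = _ := by group

theorem dih_two {x r : G} (hx : x * x = 1) (hr : T2 r) (h : x * r * x⁻¹ = r⁻¹) :
    IsPGroup 2 (zpowers x ⊔ zpowers r : Subgroup G) := by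
  refine IsPGroup.to_sup_of_normal_right' (isPGroup_zpowers (T2.of_sq hx)) (isPGroup_zpowers hr) ?_
  rw [zpowers_le, mem_normalizer_iff]
  have h1 : ∀ y, y ∈ zpowers r → x * y * x⁻¹ ∈ zpowers r := by
    rintro _ ⟨k, rfl⟩
    show x * r ^ k * x⁻¹ ∈ _
    rw [← conj_zpow, h]
    exact zpow_mem (inv_mem (mem_zpowers r)) k
  intro y
  refine ⟨h1 y, fun hy => ?_⟩
  have h2 := h1 _ hy
  have ix : x⁻¹ = x := inv_eq_of_mul_eq_one_left hx
  have e : x * (x * y * x⁻¹) * x⁻¹ = y := by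
    rw [ix]
    calc x * (x * y * x) * x = (x * x) * y * (x * x) := by group
      _ = y := by rw [hx, one_mul, mul_one]
  rwa [e] at h2

namespace SCtx

variable {Z P : Subgroup G} (S : SCtx Z P)

include S

/-- the key lemma on an involution `u` and an element `x` of the class: with `m` the odd part of the order of
`u x`, `(u x) ^ m = u x'` with `x'` in the class commuting with `u`. -/
theorem dih_aux [Finite G] {u x : G} (hu : u * u = 1) (hx : DD Z x) : ∃ (m : ℕ) (x' : G), Odd m ∧ DD Z x' ∧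
    (u * x) ^ m = u * x' ∧ x' * u = u * x' ∧ (∃ k, orderOf (u * x) = 2 ^ k * m) := by
  obtain ⟨k, m, hm, hkm⟩ := Nat.exists_eq_two_pow_mul_odd (n := orderOf (u * x)) (orderOf_pos _).ne'
  obtain ⟨j, hj⟩ := id hm
  have hxx := S.sq_DD hx
  have h1 := dih_pow hu hxx j
  rw [← hj] at h1
  set x' := ((u * x) ^ j)⁻¹ * x * (((u * x) ^ j)⁻¹)⁻¹ with hx'
  have hD : DD Z x' := hx.conj _
  have hT : T2 ((u * x) ^ m) := ⟨k, by rw [← pow_mul, mul_comm, ← hkm, pow_orderOf_eq_one]⟩
  have hinv : u * (u * x) ^ m * u⁻¹ = ((u * x) ^ m)⁻¹ := dih_inv hu hxx m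
  have hW := dih_two hu hT hinv
  have hxW : x' ∈ zpowers u ⊔ zpowers ((u * x) ^ m) := by
    have e : x' = u⁻¹ * (u * x) ^ m := by rw [h1]; group
    rw [e]
    exact mul_mem (inv_mem (mem_sup_left (mem_zpowers u))) (mem_sup_right (mem_zpowers _))
  have hc := S.central hW hD hxW (mem_sup_left (mem_zpowers u))
  exact ⟨m, x', hm, hD, h1, hc.symm, k, hkm⟩

/-- the order of `u x` for an involution `u` outside the class -/
theorem dih_out [Finite G] {u x : G} (hu : u * u = 1) (huD : ¬ DD Z u) (hu1 : u ≠ 1) (hx : DD Z x) :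
    ∃ (m : ℕ) (x' : G), Odd m ∧ orderOf (u * x) = 2 * m ∧ DD Z x' ∧ (u * x) ^ m = u * x' ∧ x' * u = u * x' ∧
      u * x' ≠ 1 ∧ (u * x') * (u * x') = 1 ∧ (u * x') * x = x * (u * x') ∧ ¬ DD Z (u * x') := by
  obtain ⟨m, x', hm, hD, h1, hc, k, hk⟩ := S.dih_aux hu hx
  have hxx := S.sq_DD hx
  have hxx' := S.sq_DD hD
  have hj2 : (u * x') * (u * x') = 1 := by
    calc (u * x') * (u * x') = u * (x' * u) * x' := by group
      _ = (u * u) * (x' * x') := by rw [hc]; group
      _ = 1 := by rw [hu, hxx', one_mul]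
  have hj1 : u * x' ≠ 1 := by
    intro h
    apply huD
    have : u = x' := by
      have h2 : u = u * x' * x' := by rw [mul_assoc, hxx', mul_one]
      rw [h2, h, one_mul]
    rw [this]; exact hD
  have hord : orderOf ((u * x) ^ m) = 2 := by
    rw [h1]
    exact orderOf_eq_two hj2 hj1
  have hk1 : 2 ^ k = 2 := by
    have h2 : orderOf ((u * x) ^ m) = 2 ^ k := by
      rw [orderOf_pow_of_dvd (by
        intro h; rw [h] at hm; exact absurd hm (by decide)) (Dvd.intro_left _ hk.symm), hk,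
        Nat.mul_div_cancel _ (by
          rcases Nat.eq_zero_or_pos m with h | h
          · rw [h] at hm; exact absurd hm (by decide)
          · exact h)]
    rw [← h2, hord]
  have hjr : (u * x') * (u * x) = (u * x) * (u * x') := by
    rw [← h1, ← pow_succ, ← pow_succ']
  have hju : (u * x') * u = u * (u * x') := by
    rw [mul_assoc, hc]
  have hjx : (u * x') * x = x * (u * x') := by
    have e : x = u * (u * x) := by rw [← mul_assoc, hu, one_mul]
    calc (u * x') * x = ((u * x') * u) * (u * x) := by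
          conv_lhs => rw [e]
          group
      _ = u * ((u * x') * (u * x)) := by rw [hju]; group
      _ = (u * (u * x)) * (u * x') := by rw [hjr]; group
      _ = _ := by rw [← e]
  refine ⟨m, x', hm, by rw [hk, hk1], hD, h1, hc, hj1, hj2, hjx, ?_⟩
  intro hjD
  -- `j`, `x'` commute, so `u` is in the class
  obtain ⟨g, hg, hg1⟩ := DD_iff.1 hjD
  have h2 := S.same hg hg1 hD (by
    calc u * x' * x' = u * (x' * x') := by group
      _ = (u * x') * x' := by group
      _ = (x' * u) * x' := by rw [hc]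
      _ = x' * (u * x') := by group)
  apply huD
  have h3 : u ∈ pt Z g := by
    have e : u = (u * x') * x' := by rw [mul_assoc, hxx', mul_one]
    rw [e]
    exact mul_mem hg h2
  exact DD_of_pt h3 hu1

/-- two noncommuting elements of the class have a product of odd order -/
theorem dih_in [Finite G] {x y : G} (hx : DD Z x) (hy : DD Z y) (hne : x * y ≠ y * x) : Odd (orderOf (x * y)) := by
  obtain ⟨m, y', hm, hD, h1, hc, k, hk⟩ := S.dih_aux (S.sq_DD hx) hy
  have hxx := S.sq_DD hx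
  have hyy := S.sq_DD hy
  have hyy' := S.sq_DD hD
  by_cases hj1 : x * y' = 1
  · have h2 : orderOf (x * y) ∣ m := orderOf_dvd_of_pow_eq_one (by rw [h1, hj1])
    exact Odd.of_dvd_nat hm h2
  · exfalso
    have hj2 : (x * y') * (x * y') = 1 := by
      calc (x * y') * (x * y') = x * (y' * x) * y' := by group
        _ = (x * x) * (y' * y') := by rw [hc]; group
        _ = 1 := by rw [hxx, hyy', one_mul]
    obtain ⟨g, hg, hg1⟩ := DD_iff.1 hx
    have h2 := S.same hg hg1 hD hc.symm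
    have h3 : x * y' ∈ pt Z g := mul_mem hg h2
    have hjr : (x * y') * (x * y) = (x * y) * (x * y') := by
      rw [← h1, ← pow_succ, ← pow_succ']
    have hju : (x * y') * x = x * (x * y') := by
      rw [mul_assoc, hc]
    have hjy : (x * y') * y = y * (x * y') := by
      have e : y = x * (x * y) := by rw [← mul_assoc, hxx, one_mul]
      calc (x * y') * y = ((x * y') * x) * (x * y) := by
            conv_lhs => rw [e]
            group
        _ = x * ((x * y') * (x * y)) := by rw [hju]; group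
        _ = (x * (x * y)) * (x * y') := by rw [hjr]; group
        _ = _ := by rw [← e]
    have h4 := S.same h3 hj1 hy hjy
    exact hne (S.pt_comm hg h4)

end SCtx

end Cfsg.Agent.Ru8
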