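import Mathlib
import Cfsg.Agent.Ru8.SCtx

/-!
# The counting formula

`dd Z W` = elements of the class `D` commuting with `W`, `pts Z W` = conjugates of `Z` centralised by `W`.
For a set `W` of 2-elements and an involution `u ∉ D` commuting with `W` and `Z`:
`|pts W| = a (1 + Σ_{z ∈ Z#} (a_z - 1))`, `a_z = |pts (W ∪ {u z})|`, `a = a_1`.
-/

set_option autoImplicit false
set_option linter.unusedSectionVars false
set_option linter.unusedDecidableInType false

namespace Cfsg.Agent.Ru8

open Subgroup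
open Cfsg.Agent.RuRed

section arith

/-- the eight numbers -/
theorem eight {ι : Type*} [DecidableEq ι] (S : Finset ι) (hS : S.card = 8) (a : ι → ℤ) (ha : ∀ i ∈ S, 1 ≤ a i) (N : ℤ)
    (h : ∀ i ∈ S, N = a i * ((∑ j ∈ S, a j) - 6 - a i)) :
    (∃ x : ℤ, (∀ i ∈ S, a i = x) ∧ N = x * (7 * x - 6)) ∨ ∃ i ∈ S, a i = N ∧ ∀ j ∈ S, j ≠ i → a j = 1 := by
  obtain ⟨i0, hi0⟩ : S.Nonempty := Finset.card_pos.1 (by omega)
  by_cases hall : ∀ i ∈ S, a i = a i0
  · left
    refine ⟨a i0, hall, ?_⟩
    have h1 : ∑ j ∈ S, a j = 8 * a i0 := by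
      rw [Finset.sum_congr rfl hall, Finset.sum_const, hS]
      simp
    have h2 := h i0 hi0
    rw [h1] at h2
    rw [h2]; ring
  · right
    push Not at hall
    obtain ⟨i1, hi1, hne⟩ := hall
    have hne' : i1 ≠ i0 := by
      rintro rfl
      exact hne rfl
    -- the sum of the two values
    have hsum : ∀ i ∈ S, ∀ j ∈ S, a i ≠ a j → a i + a j = (∑ j ∈ S, a j) - 6 := by
      intro i hi j hj hij
      have h1 := h i hi
      have h2 := h j hj
      have h3 : (a i - a j) * ((∑ j ∈ S, a j) - 6 - a i - a j) = 0 := by linear_combination h2 - h1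
      rcases mul_eq_zero.1 h3 with h4 | h4
      · exact absurd (by linarith) hij
      · linarith
    have h01 := hsum i1 hi1 i0 hi0 hne
    -- all others are 1
    have hrest : ∀ j ∈ S, j ≠ i0 → j ≠ i1 → a j = 1 := by
      have e1 : S = insert i0 (insert i1 ((S.erase i0).erase i1)) := by
        ext x
        simp only [Finset.mem_insert, Finset.mem_erase]
        constructor
        · intro hx
          by_cases h1 : x = i0
          · exact Or.inl h1
          · by_cases h2 : x = i1
            · exact Or.inr (Or.inl h2)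
            · exact Or.inr (Or.inr ⟨h2, h1, hx⟩)
        · rintro (rfl | rfl | h1)
          · exact hi0
          · exact hi1
          · exact h1.2.2
      have e2 : ∑ j ∈ S, a j = a i0 + (a i1 + ∑ j ∈ (S.erase i0).erase i1, a j) := by
        conv_lhs => rw [e1]
        rw [Finset.sum_insert (by simp [hne'.symm]), Finset.sum_insert (by simp)]
      have e3 : ((S.erase i0).erase i1).card = 6 := by
        rw [Finset.card_erase_of_mem (Finset.mem_erase.2 ⟨hne', hi1⟩), Finset.card_erase_of_mem hi0, hS]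
      have e4 : ∑ j ∈ (S.erase i0).erase i1, (a j - 1) = 0 := by
        rw [Finset.sum_sub_distrib, Finset.sum_const, e3]
        simp only [nsmul_eq_mul, mul_one]
        push_cast
        linarith
      have e5 := (Finset.sum_eq_zero_iff_of_nonneg (fun j hj => by
        have := ha j (Finset.mem_of_mem_erase (Finset.mem_of_mem_erase hj))
        linarith)).1 e4
      intro j hj h1 h2
      have := e5 j (Finset.mem_erase.2 ⟨h2, Finset.mem_erase.2 ⟨h1, hj⟩⟩)
      linarith
    -- a third index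
    obtain ⟨i2, hi2⟩ : ((S.erase i0).erase i1).Nonempty := by
      apply Finset.card_pos.1
      rw [Finset.card_erase_of_mem (Finset.mem_erase.2 ⟨hne', hi1⟩), Finset.card_erase_of_mem hi0, hS]
      norm_num
    have h21 : i2 ≠ i1 := (Finset.mem_erase.1 hi2).1
    have h20 : i2 ≠ i0 := (Finset.mem_erase.1 (Finset.mem_erase.1 hi2).2).1
    have h2S : i2 ∈ S := (Finset.mem_erase.1 (Finset.mem_erase.1 hi2).2).2
    have h2v := hrest i2 h2S h20 h21
    have hcase : a i0 = 1 ∨ a i1 = 1 := by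
      by_contra hcon
      push Not at hcon
      have h3 := hsum i0 hi0 i2 h2S (by rw [h2v]; exact hcon.1)
      have h4 : a i1 = a i2 := by linarith
      exact hcon.2 (by rw [h4, h2v])
    rcases hcase with h3 | h3
    · refine ⟨i1, hi1, ?_, ?_⟩
      · have h4 := h i1 hi1
        rw [← h01] at h4
        rw [h4, h3]; ring
      · intro j hj hji
        by_cases h5 : j = i0
        · rw [h5, h3]
        · exact hrest j hj h5 hji
    · refine ⟨i0, hi0, ?_, ?_⟩
      · have h4 := h i0 hi0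
        rw [← h01] at h4
        rw [h4, h3]; ring
      · intro j hj hji
        by_cases h5 : j = i1
        · rw [h5, h3]
        · exact hrest j hj hji h5

end arith

variable {G : Type*} [Group G] [Fintype G]

open Classical in
/-- elements of the class commuting with `W` -/
noncomputable def dd (Z : Subgroup G) (W : Set G) : Finset G :=
  Finset.univ.filter (fun x => DD Z x ∧ ∀ w ∈ W, w * x = x * w)

open Classical in
/-- conjugates of `Z` centralised by `W` -/
noncomputable def pts (Z : Subgroup G) (W : Set G) : Finset (Subgroup G) :=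
  (Finset.univ.image (pt Z)).filter (fun B => ∀ w ∈ W, ∀ b ∈ B, w * b = b * w)

open Classical in
/-- nontrivial elements -/
noncomputable def sharp (B : Subgroup G) : Finset G := Finset.univ.filter (fun x => x ∈ B ∧ x ≠ 1)

theorem mem_dd {Z : Subgroup G} {W : Set G} {x : G} : x ∈ dd Z W ↔ DD Z x ∧ ∀ w ∈ W, w * x = x * w := by
  simp [dd]

theorem mem_pts {Z : Subgroup G} {W : Set G} {B : Subgroup G} :
    B ∈ pts Z W ↔ (∃ g, pt Z g = B) ∧ ∀ w ∈ W, ∀ b ∈ B, w * b = b * w := by
  simp [pts]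

theorem mem_sharp {B : Subgroup G} {x : G} : x ∈ sharp B ↔ x ∈ B ∧ x ≠ 1 := by
  simp [sharp]

theorem pt_mem_pts {Z : Subgroup G} {W : Set G} {g : G} :
    pt Z g ∈ pts Z W ↔ ∀ w ∈ W, ∀ b ∈ pt Z g, w * b = b * w := by
  rw [mem_pts]
  exact ⟨fun h => h.2, fun h => ⟨⟨g, rfl⟩, h⟩⟩

theorem pt_one (Z : Subgroup G) : pt Z 1 = Z := by
  ext x
  exact mem_pt_one

theorem self_mem_pts {Z : Subgroup G} {W : Set G} (h : ∀ w ∈ W, ∀ z ∈ Z, w * z = z * w) : Z ∈ pts Z W := by
  rw [mem_pts]
  exact ⟨⟨1, pt_one Z⟩, h⟩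

theorem card_pt (Z : Subgroup G) (g : G) : Nat.card (pt Z g) = Nat.card Z :=
  (Nat.card_congr (Z.equivMapOfInjective (MulAut.conj g).toMonoidHom (MulAut.conj g).injective).toEquiv).symm

theorem card_sharp (B : Subgroup G) (h : Nat.card B = 8) : (sharp B).card = 7 := by
  classical
  have h1 : (Finset.univ.filter (fun x => x ∈ B)).card = 8 := by
    rw [← h, Nat.card_eq_fintype_card, Fintype.card_subtype]
  have h2 : sharp B = (Finset.univ.filter (fun x => x ∈ B)).erase 1 := by
    ext x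
    rw [mem_sharp, Finset.mem_erase, Finset.mem_filter]
    constructor
    · rintro ⟨h3, h4⟩
      exact ⟨h4, Finset.mem_univ x, h3⟩
    · rintro ⟨h3, -, h4⟩
      exact ⟨h4, h3⟩
  rw [h2, Finset.card_erase_of_mem (by simp), h1]

namespace SCtx

variable {Z P : Subgroup G} (S : SCtx Z P)

include S

theorem pts_eq {W : Set G} {B B' : Subgroup G} (hB : B ∈ pts Z W) (hB' : B' ∈ pts Z W) {x : G} (hx : x ∈ B)
    (hx' : x ∈ B') (h1 : x ≠ 1) : B = B' := by
  obtain ⟨⟨g, rfl⟩, -⟩ := mem_pts.1 hB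
  obtain ⟨⟨g', rfl⟩, -⟩ := mem_pts.1 hB'
  apply le_antisymm
  · intro y hy
    by_cases hy1 : y = 1
    · rw [hy1]; exact one_mem _
    · exact S.same hx' h1 (DD_of_pt hy hy1) (S.pt_comm hx hy)
  · intro y hy
    by_cases hy1 : y = 1
    · rw [hy1]; exact one_mem _
    · exact S.same hx h1 (DD_of_pt hy hy1) (S.pt_comm hx' hy)

theorem disj (W : Set G) : (pts Z W : Set (Subgroup G)).PairwiseDisjoint sharp := by
  intro B hB B' hB' hne
  rw [Function.onFun, Finset.disjoint_left]
  intro x hx hx'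
  rw [mem_sharp] at hx hx'
  exact hne (S.pts_eq hB hB' hx.1 hx'.1 hx.2)

open Classical in
theorem dd_eq {W : Set G} (hW : ∀ w ∈ W, T2 w) : dd Z W = (pts Z W).biUnion sharp := by
  ext x
  rw [mem_dd, Finset.mem_biUnion]
  constructor
  · rintro ⟨h1, h2⟩
    obtain ⟨g, hg, hx1⟩ := DD_iff.1 h1
    refine ⟨pt Z g, ?_, mem_sharp.2 ⟨hg, hx1⟩⟩
    rw [pt_mem_pts]
    intro w hw b hb
    exact S.cent_pt (hW w hw) hg hx1 (h2 w hw) hb
  · rintro ⟨B, hB, hx⟩
    rw [mem_sharp] at hx
    obtain ⟨⟨g, rfl⟩, h2⟩ := mem_pts.1 hB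
    exact ⟨DD_of_pt hx.1 hx.2, fun w hw => h2 w hw x hx.1⟩

theorem card_pts_mem {W : Set G} {B : Subgroup G} (hB : B ∈ pts Z W) : Nat.card B = 8 := by
  obtain ⟨⟨g, rfl⟩, -⟩ := mem_pts.1 hB
  rw [card_pt, S.card]

theorem card_dd {W : Set G} (hW : ∀ w ∈ W, T2 w) : (dd Z W).card = 7 * (pts Z W).card := by
  classical
  rw [S.dd_eq hW, Finset.card_biUnion (fun B hB B' hB' hne => S.disj W hB hB' hne),
    Finset.sum_congr rfl (fun B hB => card_sharp B (S.card_pts_mem hB)), Finset.sum_const, smul_eq_mul, mul_comm]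

/-- `C_G(W)` is transitive on `pts W` -/
theorem trans {W : Set G} {B B' : Subgroup G} (hB : B ∈ pts Z W) (hB' : B' ∈ pts Z W) :
    ∃ c : G, (∀ w ∈ W, c * w = w * c) ∧ ∀ x, x ∈ B ↔ c * x * c⁻¹ ∈ B' := by
  obtain ⟨⟨g, rfl⟩, h1⟩ := mem_pts.1 hB
  obtain ⟨⟨g', rfl⟩, h2⟩ := mem_pts.1 hB'
  have hX : pt Z g ≤ centralizer W := by
    intro x hx
    rw [mem_centralizer_iff]
    intro w hw
    exact h1 w hw x hx
  have hX' : pt Z g' ≤ centralizer W := by
    intro x hx
    rw [mem_centralizer_iff]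
    intro w hw
    exact h2 w hw x hx
  obtain ⟨Q, hQ1, hQ2, hQ3, hQ4⟩ := exists_max (S.pt_two g') hX'
  obtain ⟨d, hd, hd2⟩ := conj_into (by assumption) (by assumption) (by assumption) (S.pt_two g) hX
  -- a nontrivial element of `pt g'`
  obtain ⟨b, hb⟩ : (sharp (pt Z g')).Nonempty := by
    apply Finset.card_pos.1
    rw [card_sharp _ (by rw [card_pt, S.card])]
    norm_num
  obtain ⟨a, ha⟩ : (sharp (pt Z g)).Nonempty := by
    apply Finset.card_pos.1
    rw [card_sharp _ (by rw [card_pt, S.card])]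
    norm_num
  rw [mem_sharp] at ha hb
  have hQp : IsPGroup 2 Q := by assumption
  have key : ∀ x ∈ pt Z g, d * x * d⁻¹ ∈ pt Z g' := by
    intro x hx
    by_cases hx1 : x = 1
    · rw [hx1, mul_one, mul_inv_cancel]; exact one_mem _
    · have hxD := (DD_of_pt hx hx1).conj d
      refine S.same hb.1 hb.2 hxD ?_
      exact (S.central hQp (DD_of_pt hb.1 hb.2) (by
        have : pt Z g' ≤ Q := by assumption
        exact this hb.1) (hd2 x hx)).symm
  refine ⟨d, ?_, fun x => ⟨key x, fun hx => ?_⟩⟩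
  · intro w hw
    exact (mem_centralizer_iff.1 hd w hw).symm
  · by_cases hx1 : x = 1
    · rw [hx1]; exact one_mem _
    · have hne : d * x * d⁻¹ ≠ 1 := by
        intro h
        apply hx1
        have : x = d⁻¹ * (d * x * d⁻¹) * d := by group
        rw [this, h]; group
      have hxD : DD Z x := by
        have := (DD_of_pt hx hne).conj d⁻¹
        have e : d⁻¹ * (d * x * d⁻¹) * d⁻¹⁻¹ = x := by group
        rwa [e] at this
      refine S.same ha.1 ha.2 hxD ?_
      have h3 := S.pt_comm (key a ha.1) hx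
      calc a * x = d⁻¹ * (d * a * d⁻¹ * (d * x * d⁻¹)) * d := by group
        _ = d⁻¹ * (d * x * d⁻¹ * (d * a * d⁻¹)) * d := by rw [h3]
        _ = _ := by group

/-- the map -/
theorem phi_spec {W : Set G} (_ : ∀ w ∈ W, T2 w) {u x : G} (hu : u * u = 1) (huD : ¬ DD Z u) (hu1 : u ≠ 1)
    (huW : ∀ w ∈ W, w * u = u * w) (hx : x ∈ dd Z W) :
    u * (u * x) ^ (orderOf (u * x) / 2) ∈ dd Z (insert u W) := by
  rw [mem_dd] at hx
  obtain ⟨m, x', hm, hord, hD, h1, hc, -, -, -, -⟩ := S.dih_out hu huD hu1 hx.1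
  have e : orderOf (u * x) / 2 = m := by rw [hord]; omega
  have e2 : u * (u * x) ^ (orderOf (u * x) / 2) = x' := by
    rw [e, h1, ← mul_assoc, hu, one_mul]
  rw [mem_dd]
  refine ⟨by rw [e2]; exact hD, ?_⟩
  intro w hw
  rcases Set.mem_insert_iff.1 hw with rfl | hw
  · rw [e2, hc]
  · have h2 : Commute w u := huW w hw
    have h3 : Commute w x := hx.2 w hw
    exact h2.mul_right ((h2.mul_right h3).pow_right _)

/-- the fibres -/
theorem fiber {W : Set G} (_ : ∀ w ∈ W, T2 w) {u : G} (hu : u * u = 1) (huD : ¬ DD Z u) (hu1 : u ≠ 1)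
    (_ : ∀ w ∈ W, w * u = u * w) {y g : G} (hy : y ∈ dd Z (insert u W)) (hg : y ∈ pt Z g) (x : G) :
    (x ∈ dd Z W ∧ u * (u * x) ^ (orderOf (u * x) / 2) = y) ↔
      (x ∈ dd Z (insert (u * y) W) ∧ ¬ (x ∈ pt Z g ∧ x ≠ y)) := by
  rw [mem_dd] at hy
  have hyu : u * y = y * u := hy.2 u (Set.mem_insert u W)
  have hyD := hy.1
  have hy1 := hyD.ne_one
  have hyy := S.sq_DD hyD
  have hj2 : (u * y) * (u * y) = 1 := by
    calc (u * y) * (u * y) = u * (y * u) * y := by group
      _ = (u * u) * (y * y) := by rw [← hyu]; group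
      _ = 1 := by rw [hu, hyy, one_mul]
  have hj1 : u * y ≠ 1 := by
    intro h
    apply huD
    have : u = y := by
      have h2 : u = u * y * y := by rw [mul_assoc, hyy, mul_one]
      rw [h2, h, one_mul]
    rw [this]; exact hyD
  constructor
  · rintro ⟨hx, hphi⟩
    rw [mem_dd] at hx
    obtain ⟨m, x', hm, hord, hD, h1, hc, h2, h3, h4, h5⟩ := S.dih_out hu huD hu1 hx.1
    have e : orderOf (u * x) / 2 = m := by rw [hord]; omega
    have e2 : u * (u * x) ^ (orderOf (u * x) / 2) = x' := by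
      rw [e, h1, ← mul_assoc, hu, one_mul]
    rw [e2] at hphi
    subst hphi
    refine ⟨?_, ?_⟩
    · rw [mem_dd]
      refine ⟨hx.1, fun w hw => ?_⟩
      rcases Set.mem_insert_iff.1 hw with rfl | hw
      · exact h4
      · exact hx.2 w hw
    · rintro ⟨h6, h7⟩
      apply h7
      -- `x` commutes with `x'` and `u x'`, hence with `u`
      have h8 := S.pt_comm h6 hg
      have h9 : u * x = x * u := by
        have e3 : u = (u * x') * x' := by rw [mul_assoc, hyy, mul_one]
        calc u * x = (u * x') * (x' * x) := by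
              conv_lhs => rw [e3]
              group
          _ = (u * x') * x * x' := by rw [← h8]; group
          _ = x * (u * x') * x' := by rw [h4]
          _ = x * u := by
              conv_rhs => rw [e3]
              group
      have hxx := S.sq_DD hx.1
      have h10 : (u * x) * (u * x) = 1 := by
        calc (u * x) * (u * x) = u * (x * u) * x := by group
          _ = (u * u) * (x * x) := by rw [← h9]; group
          _ = 1 := by rw [hu, hxx, one_mul]
      have h11 : orderOf (u * x) ∣ 2 := orderOf_dvd_of_pow_eq_one (by rw [pow_two, h10])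
      have h12 : m = 1 := by
        rw [hord] at h11
        have := Nat.le_of_dvd (by norm_num) h11
        rcases hm with ⟨k, rfl⟩
        omega
      rw [h12, pow_one] at h1
      exact mul_left_cancel h1
  · rintro ⟨hx, hn⟩
    rw [mem_dd] at hx
    have hjx : (u * y) * x = x * (u * y) := hx.2 _ (Set.mem_insert _ _)
    refine ⟨mem_dd.2 ⟨hx.1, fun w hw => hx.2 w (Set.mem_insert_of_mem _ hw)⟩, ?_⟩
    obtain ⟨m, x', hm, hord, hD, h1, hc, h2, h3, h4, h5⟩ := S.dih_out hu huD hu1 hx.1
    have e : orderOf (u * x) / 2 = m := by rw [hord]; omega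
    rw [e, h1, ← mul_assoc, hu, one_mul]
    -- now `x' = y`
    obtain ⟨r, hr, hr1⟩ : ∃ r : ℕ, Odd r ∧ (y * x) ^ r = 1 := by
      by_cases hxy : x = y
      · exact ⟨1, odd_one, by rw [hxy, hyy, one_pow]⟩
      · have hxg : x ∉ pt Z g := fun h => hn ⟨h, hxy⟩
        have hne : y * x ≠ x * y := by
          intro h
          exact hxg (S.same hg hy1 hx.1 h)
        exact ⟨orderOf (y * x), S.dih_in hyD hx.1 hne, pow_orderOf_eq_one _⟩
    have hjy : Commute (u * y) (y * x) := by
      have c1 : Commute (u * y) y := by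
        show u * y * y = y * (u * y)
        rw [hyu]
        calc y * u * y = y * (u * y) := by group
          _ = _ := by rw [hyu]
      have c2 : Commute (u * y) x := hjx
      exact c1.mul_right c2
    have h6 : (u * x) ^ r = u * y := by
      have e3 : u * x = (u * y) * (y * x) := by
        calc u * x = u * (y * y) * x := by rw [hyy, mul_one]
          _ = _ := by group
      rw [e3, hjy.mul_pow, hr1, mul_one]
      obtain ⟨k, hk⟩ := hr
      rw [hk, pow_succ, pow_mul, pow_two, hj2, one_pow, one_mul]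
    have h7 : orderOf (u * x) ∣ 2 * r := by
      apply orderOf_dvd_of_pow_eq_one
      rw [mul_comm, pow_mul, h6, pow_two, hj2]
    rw [hord] at h7
    have h8 : m ∣ r := Nat.dvd_of_mul_dvd_mul_left (by norm_num) h7
    obtain ⟨s, hs⟩ := h8
    have hsodd : Odd s := by
      rw [hs] at hr
      exact (Nat.odd_mul.1 hr).2
    have h9 : (u * x) ^ r = u * x' := by
      rw [hs, pow_mul, h1]
      obtain ⟨k, hk⟩ := hsodd
      rw [hk, pow_succ, pow_mul, pow_two, h3, one_pow, one_mul]
    rw [h6] at h9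
    exact (mul_left_cancel h9).symm

/-- the counting formula, first form -/
theorem formula {W : Set G} (hW : ∀ w ∈ W, T2 w) {u : G} (hu : u * u = 1) (huD : ¬ DD Z u) (hu1 : u ≠ 1)
    (huW : ∀ w ∈ W, w * u = u * w) :
    (dd Z W).card = ∑ y ∈ dd Z (insert u W), ((dd Z (insert (u * y) W)).card - 6) := by
  classical
  rw [Finset.card_eq_sum_card_fiberwise (f := fun x => u * (u * x) ^ (orderOf (u * x) / 2))
    (t := dd Z (insert u W)) (fun x hx => S.phi_spec hW hu huD hu1 huW hx)]
  refine Finset.sum_congr rfl fun y hy => ?_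
  obtain ⟨g, hg, hy1⟩ := DD_iff.1 (mem_dd.1 hy).1
  have h1 : (dd Z W).filter (fun x => u * (u * x) ^ (orderOf (u * x) / 2) = y) =
      (dd Z (insert (u * y) W)) \ ((sharp (pt Z g)).erase y) := by
    ext x
    rw [Finset.mem_filter, S.fiber hW hu huD hu1 huW hy hg x, Finset.mem_sdiff, Finset.mem_erase, mem_sharp]
    constructor
    · rintro ⟨h2, h3⟩
      exact ⟨h2, fun h4 => h3 ⟨h4.2.1, h4.1⟩⟩
    · rintro ⟨h2, h3⟩
      exact ⟨h2, fun h4 => h3 ⟨h4.2, h4.1, (mem_dd.1 h2).1.ne_one⟩⟩
  have h2 : ((sharp (pt Z g)).erase y) ⊆ dd Z (insert (u * y) W) := by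
    intro x hx
    rw [Finset.mem_erase, mem_sharp] at hx
    rw [mem_dd]
    refine ⟨DD_of_pt hx.2.1 hx.2.2, fun w hw => ?_⟩
    have hyu : u * y = y * u := (mem_dd.1 hy).2 u (Set.mem_insert u W)
    have hxy := S.pt_comm hx.2.1 hg
    rcases Set.mem_insert_iff.1 hw with rfl | hw
    · have h3 := S.cent_pt (T2.of_sq hu) hg hy1 hyu hx.2.1
      calc u * y * x = u * (y * x) := by group
        _ = u * x * y := by rw [← hxy]; group
        _ = x * (u * y) := by rw [h3]; group
    · exact S.cent_pt (hW w hw) hg hy1 ((mem_dd.1 hy).2 w (Set.mem_insert_of_mem _ hw)) hx.2.1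
  rw [h1, Finset.card_sdiff_of_subset h2, Finset.card_erase_of_mem (mem_sharp.2 ⟨hg, hy1⟩),
    card_sharp _ (by rw [card_pt, S.card])]

omit S in
theorem card_dd_conj {W : Set G} {u c : G} (hcW : ∀ w ∈ W, c * w = w * c) (hcu : c * u = u * c) (x : G) :
    (dd Z (insert (u * (c * x * c⁻¹)) W)).card = (dd Z (insert (u * x) W)).card := by
  have hcW' : ∀ w ∈ W, c⁻¹ * w = w * c⁻¹ := by
    intro w hw
    rw [inv_mul_eq_iff_eq_mul, ← mul_assoc, hcW w hw, mul_inv_cancel_right]
  have e : u * (c * x * c⁻¹) = c * (u * x) * c⁻¹ := by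
    calc u * (c * x * c⁻¹) = (u * c) * x * c⁻¹ := by group
      _ = _ := by rw [← hcu]; group
  refine Finset.card_bij' (fun y _ => c⁻¹ * y * c) (fun y _ => c * y * c⁻¹) ?_ ?_ ?_ ?_
  · intro y hy
    rw [mem_dd] at hy ⊢
    refine ⟨by simpa using hy.1.conj c⁻¹, fun w hw => ?_⟩
    rcases Set.mem_insert_iff.1 hw with rfl | hw
    · have h1 := hy.2 _ (Set.mem_insert _ _)
      rw [e] at h1
      calc u * x * (c⁻¹ * y * c) = c⁻¹ * (c * (u * x) * c⁻¹ * y) * c := by group
        _ = c⁻¹ * (y * (c * (u * x) * c⁻¹)) * c := by rw [h1]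
        _ = _ := by group
    · have h1 := hy.2 w (Set.mem_insert_of_mem _ hw)
      have h2 := hcW w hw
      have h3 := hcW' w hw
      calc w * (c⁻¹ * y * c) = (w * c⁻¹) * y * c := by group
        _ = c⁻¹ * (w * y) * c := by rw [← h3]; group
        _ = c⁻¹ * y * (w * c) := by rw [h1]; group
        _ = _ := by rw [← h2]; group
  · intro y hy
    rw [mem_dd] at hy ⊢
    refine ⟨hy.1.conj c, fun w hw => ?_⟩
    rcases Set.mem_insert_iff.1 hw with rfl | hw
    · have h1 := hy.2 _ (Set.mem_insert _ _)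
      rw [e]
      calc c * (u * x) * c⁻¹ * (c * y * c⁻¹) = c * ((u * x) * y) * c⁻¹ := by group
        _ = c * (y * (u * x)) * c⁻¹ := by rw [h1]
        _ = _ := by group
    · have h1 := hy.2 w (Set.mem_insert_of_mem _ hw)
      have h2 := hcW w hw
      have h3 := hcW' w hw
      calc w * (c * y * c⁻¹) = (w * c) * y * c⁻¹ := by group
        _ = c * (w * y) * c⁻¹ := by rw [← h2]; group
        _ = c * y * (w * c⁻¹) := by rw [h1]; group
        _ = _ := by rw [← h3]; group
  · intro y _; group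
  · intro y _; group

/-- the counting formula, second form -/
theorem formula2 {W : Set G} (hW : ∀ w ∈ W, T2 w) {u : G} (hu : u * u = 1) (huD : ¬ DD Z u) (hu1 : u ≠ 1)
    (huW : ∀ w ∈ W, w * u = u * w) (hZW : ∀ w ∈ W, ∀ z ∈ Z, w * z = z * w) (hZu : ∀ z ∈ Z, u * z = z * u) :
    7 * ((pts Z W).card : ℤ) =
      (pts Z (insert u W)).card * ∑ z ∈ sharp Z, (7 * ((pts Z (insert (u * z) W)).card : ℤ) - 6) := by
  classical
  have hW' : ∀ w ∈ insert u W, T2 w := by
    intro w hw
    rcases Set.mem_insert_iff.1 hw with rfl | hw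
    · exact T2.of_sq hu
    · exact hW w hw
  have hself : Z ∈ pts Z (insert u W) := self_mem_pts (by
    intro w hw z hz
    rcases Set.mem_insert_iff.1 hw with rfl | hw
    · exact hZu z hz
    · exact hZW w hw z hz)
  have h1 := S.formula hW hu huD hu1 huW
  have hblock : ∀ B ∈ pts Z (insert u W), ∑ y ∈ sharp B, ((dd Z (insert (u * y) W)).card - 6) =
      ∑ z ∈ sharp Z, ((dd Z (insert (u * z) W)).card - 6) := by
    intro B hB
    obtain ⟨c, hc1, hc2⟩ := S.trans hself hB
    have hcW : ∀ w ∈ W, c * w = w * c := fun w hw => hc1 w (Set.mem_insert_of_mem _ hw)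
    have hcu : c * u = u * c := hc1 u (Set.mem_insert _ _)
    symm
    refine Finset.sum_bij' (fun z _ => c * z * c⁻¹) (fun y _ => c⁻¹ * y * c) ?_ ?_ ?_ ?_ ?_
    · intro z hz
      rw [mem_sharp] at hz ⊢
      refine ⟨(hc2 z).1 hz.1, fun h => hz.2 ?_⟩
      have : z = c⁻¹ * (c * z * c⁻¹) * c := by group
      rw [this, h]; group
    · intro y hy
      rw [mem_sharp] at hy ⊢
      refine ⟨(hc2 _).2 ?_, fun h => hy.2 ?_⟩
      · have : c * (c⁻¹ * y * c) * c⁻¹ = y := by group
        rw [this]; exact hy.1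
      · have : y = c * (c⁻¹ * y * c) * c⁻¹ := by group
        rw [this, h]; group
    · intro z _; group
    · intro y _; group
    · intro z _
      rw [card_dd_conj hcW hcu z]
  have h2 : (dd Z W).card = (pts Z (insert u W)).card * ∑ z ∈ sharp Z, ((dd Z (insert (u * z) W)).card - 6) := by
    rw [h1, S.dd_eq hW', Finset.sum_biUnion (fun B hB B' hB' hne => S.disj _ hB hB' hne),
      Finset.sum_congr rfl hblock, Finset.sum_const, smul_eq_mul]
  rw [S.card_dd hW] at h2
  have h3 : ∀ z ∈ sharp Z, (((dd Z (insert (u * z) W)).card - 6 : ℕ) : ℤ) =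
      7 * ((pts Z (insert (u * z) W)).card : ℤ) - 6 := by
    intro z hz
    rw [mem_sharp] at hz
    have hW2 : ∀ w ∈ insert (u * z) W, T2 w := by
      intro w hw
      rcases Set.mem_insert_iff.1 hw with rfl | hw
      · refine T2.of_sq ?_
        calc (u * z) * (u * z) = u * (z * u) * z := by group
          _ = (u * u) * (z * z) := by rw [← hZu z hz.1]; group
          _ = 1 := by rw [hu, S.sq z hz.1, one_mul]
      · exact hW w hw
    have hself2 : Z ∈ pts Z (insert (u * z) W) := self_mem_pts (by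
      intro w hw y hy
      rcases Set.mem_insert_iff.1 hw with rfl | hw
      · have h4 : z * y = y * z := by
          have := S.pt_comm (mem_pt_one.2 hz.1) (mem_pt_one.2 hy)
          exact this
        calc u * z * y = u * (z * y) := by group
          _ = (u * y) * z := by rw [h4]; group
          _ = _ := by rw [hZu y hy]; group
      · exact hZW w hw y hy)
    have h4 : 1 ≤ (pts Z (insert (u * z) W)).card := Finset.card_pos.2 ⟨Z, hself2⟩
    rw [S.card_dd hW2]
    omega
  have h4 : (((7 * (pts Z W).card : ℕ)) : ℤ) = (((pts Z (insert u W)).card *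
      ∑ z ∈ sharp Z, ((dd Z (insert (u * z) W)).card - 6) : ℕ) : ℤ) := by rw [h2]
  push_cast at h4
  rw [h4]
  congr 1
  rw [← Nat.cast_sum] at *
  push_cast
  exact Finset.sum_congr rfl h3

theorem mul_out {u z : G} (huD : ¬ DD Z u) (hu1 : u ≠ 1) (hZu : ∀ z ∈ Z, u * z = z * u)
    (hz : z ∈ Z) : ¬ DD Z (u * z) := by
  intro h
  by_cases hz1 : z = 1
  · rw [hz1, mul_one] at h
    exact huD h
  · have h1 : u * z ∈ pt Z 1 := S.same (mem_pt_one.2 hz) hz1 h (by
      rw [← mul_assoc, ← hZu z hz])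
    rw [mem_pt_one] at h1
    have h2 : u ∈ Z := by
      have : u = u * z * z := by rw [mul_assoc, S.sq z hz, mul_one]
      rw [this]
      exact mul_mem h1 hz
    exact huD (DD_of_mem h2 hu1)

omit S in
open Classical in
theorem sum_sharp {Z : Subgroup G} (f : G → ℤ) {z : G} (hz : z ∈ Z) (hZ : ∀ z ∈ Z, z * z = 1) :
    ∑ y ∈ sharp Z, f (z * y) = (∑ y ∈ Finset.univ.filter (· ∈ Z), f y) - f z := by
  have h1 : ∑ y ∈ sharp Z, f (z * y) = ∑ y ∈ (Finset.univ.filter (· ∈ Z)).erase z, f y := by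
    refine Finset.sum_bij' (fun y _ => z * y) (fun y _ => z * y) ?_ ?_ ?_ ?_ ?_
    · intro y hy
      rw [mem_sharp] at hy
      rw [Finset.mem_erase, Finset.mem_filter]
      refine ⟨fun h => hy.2 ?_, Finset.mem_univ _, mul_mem hz hy.1⟩
      exact mul_left_cancel (a := z) (by rw [h, mul_one])
    · intro y hy
      rw [Finset.mem_erase, Finset.mem_filter] at hy
      rw [mem_sharp]
      refine ⟨mul_mem hz hy.2.2, fun h => hy.1 ?_⟩
      have : y = z * (z * y) := by rw [← mul_assoc, hZ z hz, one_mul]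
      rw [this, h, mul_one]
    · intro y _
      rw [← mul_assoc, hZ z hz, one_mul]
    · intro y _
      rw [← mul_assoc, hZ z hz, one_mul]
    · intro y _
      rfl
  rw [h1, ← Finset.add_sum_erase (Finset.univ.filter (· ∈ Z)) f (a := z) (by simpa using hz)]
  ring

open Classical in
/-- the eight numbers satisfy the quadratic equation -/
theorem numbers {W : Set G} (hW : ∀ w ∈ W, T2 w) {u : G} (hu : u * u = 1) (huD : ¬ DD Z u) (hu1 : u ≠ 1)
    (huW : ∀ w ∈ W, w * u = u * w) (hZW : ∀ w ∈ W, ∀ z ∈ Z, w * z = z * w) (hZu : ∀ z ∈ Z, u * z = z * u)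
    {z : G} (hz : z ∈ Finset.univ.filter (· ∈ Z)) :
    ((pts Z W).card : ℤ) = (pts Z (insert (u * z) W)).card *
      ((∑ y ∈ Finset.univ.filter (· ∈ Z), ((pts Z (insert (u * y) W)).card : ℤ)) - 6 -
        (pts Z (insert (u * z) W)).card) := by
  have hz' : z ∈ Z := by simpa using hz
  have hZc : ∀ x ∈ Z, ∀ y ∈ Z, x * y = y * x := fun x hx y hy =>
    S.pt_comm (mem_pt_one.2 hx) (mem_pt_one.2 hy)
  have hD := S.mul_out huD hu1 hZu hz'
  have hne : u * z ≠ 1 := by
    intro h
    have : u = z := by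
      calc u = u * z * z := by rw [mul_assoc, S.sq z hz', mul_one]
        _ = z := by rw [h, one_mul]
    exact huD (DD_of_mem (this ▸ hz') hu1)
  have hsq : (u * z) * (u * z) = 1 := by
    calc (u * z) * (u * z) = u * (z * u) * z := by group
      _ = (u * u) * (z * z) := by rw [← hZu z hz']; group
      _ = 1 := by rw [hu, S.sq z hz', one_mul]
  have h1 := S.formula2 hW hsq hD hne (by
    intro w hw
    calc w * (u * z) = (w * u) * z := by group
      _ = u * (w * z) := by rw [huW w hw]; group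
      _ = _ := by rw [hZW w hw z hz']; group) hZW (by
    intro y hy
    calc u * z * y = u * (z * y) := by group
      _ = (u * y) * z := by rw [hZc z hz' y hy]; group
      _ = _ := by rw [hZu y hy]; group)
  have h2 : ∑ y ∈ sharp Z, (7 * ((pts Z (insert (u * z * y) W)).card : ℤ) - 6) =
      7 * ((∑ y ∈ Finset.univ.filter (· ∈ Z), ((pts Z (insert (u * y) W)).card : ℤ)) -
        (pts Z (insert (u * z) W)).card) - 42 := by
    rw [Finset.sum_sub_distrib, ← Finset.mul_sum, Finset.sum_const, card_sharp Z S.card]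
    have h3 := sum_sharp (fun y => ((pts Z (insert (u * y) W)).card : ℤ)) hz' S.sq
    simp only [mul_assoc] at h3 ⊢
    rw [h3]
    simp
  rw [h2] at h1
  linarith

theorem card_Z_filter [DecidablePred (· ∈ Z)] : (Finset.univ.filter (· ∈ Z)).card = 8 := by
  rw [← S.card, Nat.card_eq_fintype_card, Fintype.card_subtype]

/-- the number of points -/
theorem card_points {u : G} (hu : u * u = 1) (huD : ¬ DD Z u) (hu1 : u ≠ 1) (hZu : ∀ z ∈ Z, u * z = z * u)
    (h65 : ∀ z ∈ Z, (pts Z {u * z}).card = 65) : (pts Z ∅).card = 65 * 449 := by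
  classical
  have h0 : (1 : G) ∈ Finset.univ.filter (· ∈ Z) := by simp
  have h1 := S.numbers (W := ∅) (by simp) hu huD hu1 (by simp) (by simp) hZu h0
  have h2 : ∀ z ∈ Z, (pts Z (insert (u * z) ∅)).card = 65 := by
    intro z hz
    have e : (insert (u * z) (∅ : Set G)) = {u * z} := by simp
    rw [e]; exact h65 z hz
  have h3 : ∑ y ∈ Finset.univ.filter (· ∈ Z), ((pts Z (insert (u * y) ∅)).card : ℤ) = 8 * 65 := by
    rw [Finset.sum_congr rfl (fun y hy => by
      rw [h2 y (by simpa using hy)]), Finset.sum_const, S.card_Z_filter]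
    norm_num
  rw [h3, h2 1 (one_mem _)] at h1
  push_cast at h1
  have : ((pts Z ∅).card : ℤ) = 65 * 449 := by rw [h1]; norm_num
  exact_mod_cast this

/-- every involution outside the class fixes 65 points -/
theorem card_fix (hN : (pts Z ∅).card = 65 * 449)
    (hf : ∀ v : G, v * v = 1 → v ≠ 1 → ¬ DD Z v → (∀ z ∈ Z, v * z = z * v) → ∃ x, DD Z x ∧ v * x ≠ x * v)
    {u : G} (hu : u * u = 1) (huD : ¬ DD Z u) (hu1 : u ≠ 1) (hZu : ∀ z ∈ Z, u * z = z * u) :
    (pts Z {u}).card = 65 := by
  classical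
  have h1 : ∀ z ∈ Finset.univ.filter (· ∈ Z), _ := fun z hz =>
    S.numbers (W := ∅) (by simp) hu huD hu1 (by simp) (by simp) hZu hz
  have hins : ∀ v : G, (insert v (∅ : Set G)) = {v} := by simp
  simp only [hins] at h1
  have hpos : ∀ z ∈ Finset.univ.filter (· ∈ Z), (1 : ℤ) ≤ ((pts Z {u * z}).card : ℤ) := by
    intro z hz
    have hz' : z ∈ Z := by simpa using hz
    have : 0 < (pts Z {u * z}).card := Finset.card_pos.2 ⟨Z, self_mem_pts (by
      intro w hw y hy
      rw [Set.mem_singleton_iff] at hw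
      subst hw
      calc u * z * y = u * (z * y) := by group
        _ = (u * y) * z := by
            rw [S.pt_comm (mem_pt_one.2 hz') (mem_pt_one.2 hy)]; group
        _ = _ := by rw [hZu y hy]; group)⟩
    exact_mod_cast this
  rcases eight _ S.card_Z_filter (fun z => ((pts Z {u * z}).card : ℤ)) hpos _ h1 with ⟨x, hx, hNx⟩ | ⟨z, hz, hz2, -⟩
  · have h2 := hx 1 (by simp)
    rw [mul_one] at h2
    rw [hN] at hNx
    have hx1 : 1 ≤ x := by
      have := hpos 1 (by simp)
      rw [mul_one, h2] at this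
      exact this
    have h3 : (x - 65) * (7 * x + 449) = 0 := by
      push_cast at hNx
      linear_combination -hNx
    rcases mul_eq_zero.1 h3 with h4 | h4
    · have : ((pts Z {u}).card : ℤ) = 65 := by rw [h2]; linarith
      exact_mod_cast this
    · exfalso; linarith
  · exfalso
    have hz' : z ∈ Z := by simpa using hz
    have hsub : pts Z {u * z} ⊆ pts Z ∅ := by
      intro B hB
      rw [mem_pts] at hB ⊢
      exact ⟨hB.1, by simp⟩
    have heq : pts Z {u * z} = pts Z ∅ := Finset.eq_of_subset_of_card_le hsub (by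
      have h4 : ((pts Z {u * z}).card : ℤ) = (pts Z ∅).card := hz2
      have h5 : (pts Z {u * z}).card = (pts Z ∅).card := by exact_mod_cast h4
      exact h5.ge)
    obtain ⟨x, hx, hne⟩ := hf (u * z) (by
      calc (u * z) * (u * z) = u * (z * u) * z := by group
        _ = (u * u) * (z * z) := by rw [← hZu z hz']; group
        _ = 1 := by rw [hu, S.sq z hz', one_mul]) (by
      intro h
      have : u = z := by
        calc u = u * z * z := by rw [mul_assoc, S.sq z hz', mul_one]
          _ = z := by rw [h, one_mul]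
      exact huD (DD_of_mem (this ▸ hz') hu1)) (S.mul_out huD hu1 hZu hz') (by
      intro y hy
      calc u * z * y = u * (z * y) := by group
        _ = (u * y) * z := by
            rw [S.pt_comm (mem_pt_one.2 hz') (mem_pt_one.2 hy)]; group
        _ = _ := by rw [hZu y hy]; group)
    obtain ⟨g, hg, -⟩ := DD_iff.1 hx
    have h3 : pt Z g ∈ pts Z {u * z} := by
      rw [heq, pt_mem_pts]
      simp
    exact hne ((mem_pts.1 h3).2 _ (Set.mem_singleton _) x hg)

/-- the pointwise stabiliser of `Fix y` -/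
theorem exists_fix (hN : (pts Z ∅).card = 65 * 449)
    (hf : ∀ v : G, v * v = 1 → v ≠ 1 → ¬ DD Z v → (∀ z ∈ Z, v * z = z * v) → ∃ x, DD Z x ∧ v * x ≠ x * v)
    {y w : G} (hy : y * y = 1) (hyD : ¬ DD Z y) (hy1 : y ≠ 1) (hZy : ∀ z ∈ Z, y * z = z * y)
    (hw : w * w = 1) (hwD : ¬ DD Z w) (hw1 : w ≠ 1) (hZw : ∀ z ∈ Z, w * z = z * w) (hyw : y * w = w * y) :
    ∃ z ∈ Z, ∀ B ∈ pts Z {y}, ∀ b ∈ B, (w * z) * b = b * (w * z) := by
  classical
  have h65 := S.card_fix hN hf hy hyD hy1 hZy
  have hW : ∀ v ∈ ({y} : Set G), T2 v := by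
    intro v hv
    rw [Set.mem_singleton_iff] at hv
    subst hv
    exact T2.of_sq hy
  have hZW : ∀ v ∈ ({y} : Set G), ∀ z ∈ Z, v * z = z * v := by
    intro v hv
    rw [Set.mem_singleton_iff] at hv
    subst hv
    exact hZy
  have h1 : ∀ z ∈ Finset.univ.filter (· ∈ Z), _ := fun z hz =>
    S.numbers (W := {y}) hW hw hwD hw1 (by
      intro v hv
      rw [Set.mem_singleton_iff] at hv
      subst hv
      exact hyw) hZW hZw hz
  have hpos : ∀ z ∈ Finset.univ.filter (· ∈ Z), (1 : ℤ) ≤ ((pts Z (insert (w * z) {y})).card : ℤ) := by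
    intro z hz
    have hz' : z ∈ Z := by simpa using hz
    have : 0 < (pts Z (insert (w * z) {y})).card := Finset.card_pos.2 ⟨Z, self_mem_pts (by
      intro v hv x hx
      rcases Set.mem_insert_iff.1 hv with rfl | hv
      · calc w * z * x = w * (z * x) := by group
          _ = (w * x) * z := by
              rw [S.pt_comm (mem_pt_one.2 hz') (mem_pt_one.2 hx)]; group
          _ = _ := by rw [hZw x hx]; group
      · exact hZW v hv x hx)⟩
    exact_mod_cast this
  rcases eight _ S.card_Z_filter (fun z => ((pts Z (insert (w * z) {y})).card : ℤ)) hpos _ h1 with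
    ⟨x, hx, hNx⟩ | ⟨z, hz, hz2, -⟩
  · exfalso
    rw [h65] at hNx
    have hx1 : 1 ≤ x := by
      rw [← hx 1 (by simp)]
      exact hpos 1 (by simp)
    push_cast at hNx
    have h3 : x ≤ 3 := by nlinarith
    interval_cases x <;> norm_num at hNx
  · have hz' : z ∈ Z := by simpa using hz
    refine ⟨z, hz', ?_⟩
    have hsub : pts Z (insert (w * z) {y}) ⊆ pts Z {y} := by
      intro B hB
      rw [mem_pts] at hB ⊢
      exact ⟨hB.1, fun v hv => hB.2 v (Set.mem_insert_of_mem _ hv)⟩
    have heq : pts Z (insert (w * z) {y}) = pts Z {y} := Finset.eq_of_subset_of_card_le hsub (by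
      have h4 : ((pts Z (insert (w * z) {y})).card : ℤ) = (pts Z {y}).card := hz2
      have h5 : (pts Z (insert (w * z) {y})).card = (pts Z {y}).card := by exact_mod_cast h4
      exact h5.ge)
    intro B hB b hb
    rw [← heq, mem_pts] at hB
    exact hB.2 _ (Set.mem_insert _ _) b hb

/-- **The counting contradiction** -/
theorem comm_of (hN : (pts Z ∅).card = 65 * 449)
    (hf : ∀ v : G, v * v = 1 → v ≠ 1 → ¬ DD Z v → (∀ z ∈ Z, v * z = z * v) → ∃ x, DD Z x ∧ v * x ≠ x * v)
    {y w w' : G} (hy : y * y = 1) (hyD : ¬ DD Z y) (hy1 : y ≠ 1) (hZy : ∀ z ∈ Z, y * z = z * y)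
    (hw : w * w = 1) (hwD : ¬ DD Z w) (hw1 : w ≠ 1) (hZw : ∀ z ∈ Z, w * z = z * w) (hyw : y * w = w * y)
    (hw' : w' * w' = 1) (hwD' : ¬ DD Z w') (hw1' : w' ≠ 1) (hZw' : ∀ z ∈ Z, w' * z = z * w')
    (hyw' : y * w' = w' * y) {c : G} (hc : c ∈ Z) (hww : w * w' = w' * w * c) : c = 1 := by
  classical
  have h65 := S.card_fix hN hf hy hyD hy1 hZy
  obtain ⟨z, hz, h1⟩ := S.exists_fix hN hf hy hyD hy1 hZy hw hwD hw1 hZw hyw
  obtain ⟨z', hz', h2⟩ := S.exists_fix hN hf hy hyD hy1 hZy hw' hwD' hw1' hZw' hyw'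
  by_contra hc1
  -- another point
  obtain ⟨B, hB, hBZ⟩ : ∃ B ∈ pts Z {y}, B ≠ Z := by
    have h3 : 1 < (pts Z {y}).card := by rw [h65]; norm_num
    obtain ⟨B, hB, B', hB', hne⟩ := Finset.one_lt_card.1 h3
    by_cases h4 : B = Z
    · exact ⟨B', hB', fun h5 => hne (h4.trans h5.symm)⟩
    · exact ⟨B, hB, h4⟩
  obtain ⟨b, hb⟩ : (sharp B).Nonempty := by
    apply Finset.card_pos.1
    rw [card_sharp _ (S.card_pts_mem hB)]
    norm_num
  rw [mem_sharp] at hb
  have hself : Z ∈ pts Z {y} := self_mem_pts (by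
    intro v hv
    rw [Set.mem_singleton_iff] at hv
    subst hv
    exact hZy)
  have h3 := h1 B hB b hb.1
  have h4 := h2 B hB b hb.1
  -- the commutator
  have hcc : (w * z) * (w' * z') = (w' * z') * (w * z) * c := by
    have hZc : ∀ x ∈ Z, ∀ y ∈ Z, x * y = y * x := fun x hx y hy =>
      S.pt_comm (mem_pt_one.2 hx) (mem_pt_one.2 hy)
    calc (w * z) * (w' * z') = w * (z * w') * z' := by group
      _ = (w * w') * (z * z') := by rw [← hZw' z hz]; group
      _ = w' * w * (c * (z * z')) := by rw [hww]; group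
      _ = w' * w * (z * z' * c) := by rw [hZc c hc _ (mul_mem hz hz')]
      _ = w' * (w * z') * z * c := by rw [hZc z hz z' hz']; group
      _ = _ := by rw [hZw z' hz']; group
  have h5 : c * b = b * c := by
    have e : c = ((w' * z') * (w * z))⁻¹ * ((w * z) * (w' * z')) := by rw [hcc]; group
    have c1 : Commute (w * z) b := h3
    have c2 : Commute (w' * z') b := h4
    have : Commute c b := by
      rw [e]
      exact ((c2.mul_left c1).inv_left).mul_left (c1.mul_left c2)
    exact this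
  obtain ⟨⟨g, rfl⟩, -⟩ := mem_pts.1 hB
  have h6 := S.same (mem_pt_one.2 hc) hc1 (DD_of_pt hb.1 hb.2) h5
  rw [mem_pt_one] at h6
  exact hBZ (S.pts_eq hB hself hb.1 h6 hb.2)

end SCtx

end Cfsg.Agent.Ru8
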