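import Cfsg.Agent.Ru8.Core8
import Cfsg.Agent.RuB.AutFix

/-!
# The group `Q` of all elements acting on `E = V × Z` as transvections `v a ↦ v a * z (c * a)`

`C.Act x c`; `C.TT = V × S`; `C.QQ`. Dichotomy: either all squares of elements of `QQ` lie in `Z`, or the square of
every element of `QQ` outside `TT` lies outside `V × Z`.
-/

set_option autoImplicit false

namespace Cfsg.Agent.Ru8.Core8

open Cfsg.Agent.RuB (K8)
open Cfsg.Agent

open Cfsg.Agent.ThreePrime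

variable {G : Type*} [Group G] (C : Core8 G)

/-- `x` centralises `Z` and maps `v a` to `v a * z (c * a)` -/
def Act (x : G) (c : K8) : Prop :=
  (∀ b, x * C.z b = C.z b * x) ∧ ∀ a, x * C.v a * x⁻¹ = C.v a * C.z (c * a)

variable {C}

theorem Act.comm {x : G} {c : K8} (h : C.Act x c) (b : K8) : x * C.z b = C.z b * x := h.1 b

theorem Act.conj_z {x : G} {c : K8} (h : C.Act x c) (b : K8) : x * C.z b * x⁻¹ = C.z b := by
  rw [h.1, mul_inv_cancel_right]

theorem Act.mul {x y : G} {c d : K8} (hx : C.Act x c) (hy : C.Act y d) : C.Act (x * y) (c + d) := by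
  refine ⟨fun b => ?_, fun a => ?_⟩
  · rw [mul_assoc, hy.1, ← mul_assoc, hx.1, mul_assoc]
  · have h1 : x * y * C.v a * (x * y)⁻¹ = x * (y * C.v a * y⁻¹) * x⁻¹ := by group
    rw [h1, hy.2]
    have h2 : x * (C.v a * C.z (d * a)) * x⁻¹ = (x * C.v a * x⁻¹) * (x * C.z (d * a) * x⁻¹) := by group
    rw [h2, hx.2, hx.conj_z, mul_assoc, ← C.z_add]
    congr 2
    ring

theorem Act.inv {x : G} {c : K8} (hx : C.Act x c) : C.Act x⁻¹ c := by
  have hc : ∀ b, x⁻¹ * C.z b = C.z b * x⁻¹ := by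
    intro b
    have := hx.1 b
    rw [inv_mul_eq_iff_eq_mul, ← mul_assoc, this, mul_inv_cancel_right]
  refine ⟨hc, fun a => ?_⟩
  have h1 := hx.2 a
  have h2 : C.v a = x⁻¹ * (C.v a * C.z (c * a)) * x := by rw [← h1]; group
  have h3 : x⁻¹ * C.v a * x = C.v a * C.z (c * a) := by
    have h4 : x⁻¹ * (C.v a * C.z (c * a)) * x = (x⁻¹ * C.v a * x) * C.z (c * a) := by
      have := hx.1 (c * a)
      calc x⁻¹ * (C.v a * C.z (c * a)) * x = x⁻¹ * C.v a * (C.z (c * a) * x) := by group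
        _ = x⁻¹ * C.v a * (x * C.z (c * a)) := by rw [this]
        _ = _ := by group
    rw [h4] at h2
    calc x⁻¹ * C.v a * x = (x⁻¹ * C.v a * x) * C.z (c * a) * C.z (c * a) := by
          rw [mul_assoc (x⁻¹ * C.v a * x), C.z_sq, mul_one]
      _ = _ := by rw [← h2]
  rw [inv_inv]
  exact h3

theorem Act.unique {x : G} {c d : K8} (hc : C.Act x c) (hd : C.Act x d) : c = d := by
  have h1 := hc.2 1
  rw [hd.2 1] at h1
  have h2 := C.z_inj (mul_left_cancel h1)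
  rw [mul_one, mul_one] at h2
  exact h2.symm

theorem act_z (b : K8) : C.Act (C.z b) 0 := by
  refine ⟨fun e => C.z_comm b e, fun a => ?_⟩
  rw [zero_mul, C.z_zero, mul_one, ← C.v_z_comm, mul_inv_cancel_right]

theorem act_v (a : K8) : C.Act (C.v a) 0 := by
  refine ⟨fun e => C.v_z_comm a e, fun b => ?_⟩
  rw [zero_mul, C.z_zero, mul_one, C.v_v_comm, mul_inv_cancel_right]

theorem act_U (a b : K8) : C.Act (C.U a b) 0 := by
  refine ⟨fun e => C.U_z_comm a b e, fun e => ?_⟩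
  rw [zero_mul, C.z_zero, mul_one, ← C.v_U_comm, mul_inv_cancel_right]

theorem act_one : C.Act 1 0 := by
  have := act_z (C := C) 0
  rwa [C.z_zero] at this

theorem Act.dk {x : G} {c : K8} (hx : C.Act x c) (k : K8ˣ) :
    C.Act (C.dk k * x * (C.dk k)⁻¹) (c * (k : K8) ^ 4) := by
  have hz : ∀ b, ∃ b', C.z b = C.dk k * C.z b' * (C.dk k)⁻¹ := by
    intro b
    refine ⟨b * ((k : K8) ^ 4)⁻¹, ?_⟩
    rw [C.dk_z]
    congr 1
    have hk : ((k : K8) ^ 4) ≠ 0 := pow_ne_zero _ k.ne_zero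
    rw [inv_mul_cancel_right₀ hk]
  refine ⟨fun b => ?_, fun a => ?_⟩
  · obtain ⟨b', hb'⟩ := hz b
    rw [hb']
    have := hx.1 b'
    calc C.dk k * x * (C.dk k)⁻¹ * (C.dk k * C.z b' * (C.dk k)⁻¹) = C.dk k * (x * C.z b') * (C.dk k)⁻¹ := by group
      _ = C.dk k * (C.z b' * x) * (C.dk k)⁻¹ := by rw [this]
      _ = _ := by group
  · have h1 : C.v a = C.dk k * C.v a * (C.dk k)⁻¹ := (C.dk_v_conj k a).symm
    calc C.dk k * x * (C.dk k)⁻¹ * C.v a * (C.dk k * x * (C.dk k)⁻¹)⁻¹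
        = C.dk k * x * ((C.dk k)⁻¹ * C.v a * C.dk k) * x⁻¹ * (C.dk k)⁻¹ := by group
      _ = C.dk k * (x * C.v a * x⁻¹) * (C.dk k)⁻¹ := by
          have : (C.dk k)⁻¹ * C.v a * C.dk k = C.v a := by
            rw [mul_assoc, ← C.dk_v_comm, inv_mul_cancel_left]
          rw [this]; group
      _ = C.dk k * C.v a * (C.dk k)⁻¹ * (C.dk k * C.z (c * a) * (C.dk k)⁻¹) := by rw [hx.2]; group
      _ = _ := by
          rw [C.dk_v_conj, C.dk_z]
          congr 2
          ring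

variable (C)

/-- `T = V × S`. -/
def TT : Subgroup G where
  carrier := {x | C.Act x 0}
  mul_mem' := fun hx hy => by
    have := Act.mul hx hy
    rwa [add_zero] at this
  one_mem' := act_one
  inv_mem' := fun hx => Act.inv hx

/-- the group `Q`. -/
def QQ : Subgroup G where
  carrier := {x | ∃ c, C.Act x c}
  mul_mem' := fun ⟨_, hx⟩ ⟨_, hy⟩ => ⟨_, Act.mul hx hy⟩
  one_mem' := ⟨0, act_one⟩
  inv_mem' := fun ⟨_, hx⟩ => ⟨_, Act.inv hx⟩

variable {C}

theorem mem_TT {x : G} : x ∈ C.TT ↔ C.Act x 0 := Iff.rfl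
theorem mem_QQ {x : G} : x ∈ C.QQ ↔ ∃ c, C.Act x c := Iff.rfl

theorem TT_le : C.TT ≤ C.QQ := fun _ hx => ⟨0, hx⟩

theorem z_mem_TT (b : K8) : C.z b ∈ C.TT := act_z b
theorem U_mem_TT (a b : K8) : C.U a b ∈ C.TT := act_U a b
theorem v_mem_TT (a : K8) : C.v a ∈ C.TT := act_v a

/-- elements of `L` centralising some `z c`, `c ≠ 0`. -/
theorem mem_S_of_comm {l : G} (hl : l ∈ C.L) {c : K8} (hc : c ≠ 0) (h : l * C.z c = C.z c * l) :
    ∃ a b, l = C.U a b := by
  obtain ⟨a, b, h1⟩ := RuB.AutFix.mem_T_of_comm C.R (x := ⟨l, hl⟩) hc (Subtype.ext h)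
  exact ⟨a, b, congrArg Subtype.val h1⟩

/-- the automorphism of `L` induced by an element of `C_G(v a)` -/
def autL {x : G} {a : K8} (ha : a ≠ 0) (h : x * C.v a = C.v a * x) : MulAut ↥C.L where
  toFun l := ⟨x * l * x⁻¹, C.norm a ha x h l l.2⟩
  invFun l := ⟨x⁻¹ * l * x, by
    have h' : x⁻¹ * C.v a = C.v a * x⁻¹ := by
      rw [inv_mul_eq_iff_eq_mul, ← mul_assoc, h, mul_inv_cancel_right]
    have := C.norm a ha x⁻¹ h' l l.2
    rwa [inv_inv] at this⟩
  left_inv l := Subtype.ext (by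
    show x⁻¹ * (x * l * x⁻¹) * x = l
    group)
  right_inv l := Subtype.ext (by
    show x * (x⁻¹ * l * x) * x⁻¹ = l
    group)
  map_mul' l m := Subtype.ext (by
    show x * (l * m) * x⁻¹ = x * l * x⁻¹ * (x * m * x⁻¹)
    group)

theorem autL_coe {x : G} {a : K8} (ha : a ≠ 0) (h : x * C.v a = C.v a * x) (l : ↥C.L) :
    ((autL ha h l : ↥C.L) : G) = x * l * x⁻¹ := rfl

theorem eq_of_comm {x : G} {a : K8} (ha : a ≠ 0) (h : x * C.v a = C.v a * x)
    (hz : ∀ c, x * C.z c = C.z c * x) : ∃ b a e, x = C.v b * C.U a e := by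
  obtain ⟨a', b', hc⟩ := RuB.AutFix.eq_conj C.R (by rw [K8.natCard]) inferInstance (autL ha h) (by
    intro b
    apply Subtype.ext
    rw [autL_coe]
    have := hz b
    exact mul_inv_eq_iff_eq_mul.2 this)
  have h1 : ∀ l ∈ C.L, ((C.U a' b')⁻¹ * x) * l = l * ((C.U a' b')⁻¹ * x) := by
    intro l hl
    have h2 : x * l * x⁻¹ = C.U a' b' * l * (C.U a' b')⁻¹ := congrArg Subtype.val (hc ⟨l, hl⟩)
    calc (C.U a' b')⁻¹ * x * l = (C.U a' b')⁻¹ * (x * l * x⁻¹) * x := by group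
      _ = _ := by rw [h2]; group
  have h3 : ((C.U a' b')⁻¹ * x) * C.v a = C.v a * ((C.U a' b')⁻¹ * x) := by
    have h4 : (C.U a' b')⁻¹ * C.v a = C.v a * (C.U a' b')⁻¹ := by
      rw [inv_mul_eq_iff_eq_mul, ← mul_assoc, ← C.v_U_comm, mul_inv_cancel_right]
    calc (C.U a' b')⁻¹ * x * C.v a = (C.U a' b')⁻¹ * (x * C.v a) := by group
      _ = ((C.U a' b')⁻¹ * C.v a) * x := by rw [h]; group
      _ = _ := by rw [h4]; group
  obtain ⟨b, hb⟩ := C.cent a ha _ h3 h1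
  refine ⟨b, a', b', ?_⟩
  rw [C.v_U_comm, ← hb]
  group

theorem TT_eq {x : G} (hx : x ∈ C.TT) : ∃ b a e, x = C.v b * C.U a e := by
  refine eq_of_comm (a := 1) one_ne_zero ?_ hx.1
  have h1 := hx.2 1
  rw [zero_mul, C.z_zero, mul_one] at h1
  exact (mul_inv_eq_iff_eq_mul.1 h1)

theorem mem_TT_of {b : K8} {a e : K8} : C.v b * C.U a e ∈ C.TT := mul_mem (v_mem_TT b) (U_mem_TT a e)

theorem T_mul (b b' : K8) (a e a' e' : K8) : (C.v b * C.U a e) * (C.v b' * C.U a' e') =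
    C.v (b + b') * C.U (a + a') (e + e' + a * a' ^ 4) := by
  rw [C.v_add, ← C.U_mul]
  have := C.v_U_comm b' a e
  calc C.v b * C.U a e * (C.v b' * C.U a' e') = C.v b * (C.U a e * C.v b') * C.U a' e' := by group
    _ = _ := by rw [← this]; group

theorem T_inj {b b' : K8} {a e a' e' : K8} (h : C.v b * C.U a e = C.v b' * C.U a' e') :
    b = b' ∧ a = a' ∧ e = e' := by
  obtain ⟨h1, h2⟩ := C.vl_inj (C.U_mem a e) (C.U_mem a' e') h
  exact ⟨h1, C.U_inj h2⟩

theorem T_sq (b : K8) (a e : K8) : (C.v b * C.U a e) * (C.v b * C.U a e) = C.z (a ^ 5) := by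
  rw [T_mul]
  have h1 : b + b = 0 := K8.add_self b
  rw [h1, C.v_zero, one_mul, K8.add_self, K8.add_self, zero_add, C.z_eq]
  congr 1
  ring

theorem pow5_inj : ∀ a b : K8, a ^ 5 = b ^ 5 → a = b := by decide +kernel

theorem pow5_eq_zero : ∀ a : K8, a ^ 5 = 0 → a = 0 := by decide +kernel

theorem conj_T {x : G} (hx : x ∈ C.QQ) {t : G} (ht : t ∈ C.TT) : x * t * x⁻¹ ∈ C.TT := by
  obtain ⟨c, hc⟩ := hx
  have := Act.mul (Act.mul hc ht) hc.inv
  rw [add_zero, K8.add_self] at this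
  exact this

/-- conjugation of `U y e` by an element of `QQ` -/
theorem conj_U {x : G} (hx : x ∈ C.QQ) (y e : K8) : ∃ h f, x * C.U y e * x⁻¹ = C.v h * C.U y (e + f) := by
  obtain ⟨b, a, e', h⟩ := TT_eq (conj_T hx (U_mem_TT y e))
  obtain ⟨c, hc⟩ := hx
  have h1 : x * C.U y e * x⁻¹ * (x * C.U y e * x⁻¹) = x * (C.U y e * C.U y e) * x⁻¹ := by group
  rw [C.U_sq, hc.conj_z, h, T_sq] at h1
  have h2 := pow5_inj _ _ (C.z_inj h1)
  subst h2
  refine ⟨b, e' + e, ?_⟩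
  rw [h]
  congr 2
  linear_combination (-e) * K8.two_eq

variable (C) in
/-- good case: all squares of elements of `Q` lie in `Z`. -/
def Good : Prop := ∀ x ∈ C.QQ, ∃ e, x * x = C.z e

/-- the key identity -/
theorem key {w : G} (hw : C.Act w 1) : ∃ (b0 : K8) (c0 e0 : K8), w * w = C.v b0 * C.U c0 e0 ∧
    ∀ y, ∃ h f, w * C.U y 0 * w⁻¹ = C.v h * C.U y f ∧ h = c0 * y ^ 4 + c0 ^ 4 * y := by
  have hw2 : w * w ∈ C.TT := by
    have := Act.mul hw hw
    rwa [K8.add_self] at this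
  obtain ⟨b0, c0, e0, h0⟩ := TT_eq hw2
  refine ⟨b0, c0, e0, h0, fun y => ?_⟩
  obtain ⟨h, f, hf⟩ := conj_U (C := C) ⟨1, hw⟩ y 0
  rw [zero_add] at hf
  refine ⟨h, f, hf, ?_⟩
  -- compute `w² U y w⁻²` in two ways
  have h1 : w * w * C.U y 0 * (w * w)⁻¹ = C.U y (c0 * y ^ 4 + c0 ^ 4 * y) := by
    rw [h0]
    have : C.v b0 * C.U c0 e0 * C.U y 0 * (C.v b0 * C.U c0 e0)⁻¹ =
        C.v b0 * (C.U c0 e0 * C.U y 0 * (C.U c0 e0)⁻¹) * (C.v b0)⁻¹ := by group
    rw [this, C.U_conj, C.v_U_comm, mul_inv_cancel_right]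
    congr 1
    ring
  have h2 : w * w * C.U y 0 * (w * w)⁻¹ = C.U y (h) := by
    have h3 : w * w * C.U y 0 * (w * w)⁻¹ = w * (w * C.U y 0 * w⁻¹) * w⁻¹ := by group
    have h4 : w * (C.v h * C.U y f) * w⁻¹ = (w * C.v h * w⁻¹) * (w * C.U y 0 * w⁻¹) * (w * C.z f * w⁻¹) := by
      rw [C.U_eq y f]; group
    rw [h3, hf, h4, hw.2, hf, hw.conj_z, one_mul]
    have h5 : C.v h * C.z (h) * (C.v h * C.U y f) * C.z f =
        (C.v h * C.v h) * (C.z (h) * C.U y f) * C.z f := by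
      have := C.v_z_comm h (h)
      calc C.v h * C.z (h) * (C.v h * C.U y f) * C.z f
          = (C.v h * C.z (h)) * C.v h * (C.U y f * C.z f) := by group
        _ = (C.z (h) * C.v h) * C.v h * (C.U y f * C.z f) := by rw [this]
        _ = C.z (h) * (C.v h * C.v h) * (C.U y f * C.z f) := by group
        _ = _ := by rw [C.v_sq]; group
    rw [h5, C.v_sq, one_mul, C.z_mul_U, C.U_mul_z]
    congr 1
    linear_combination f * K8.two_eq
  rw [h1] at h2
  exact (C.U_inj h2).2.symm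

/-- every element of `Q` outside `T` is, up to the torus and `T`, the element `w` -/
theorem exists_dk {w : G} (hw : C.Act w 1) {x : G} {c : K8} (hx : C.Act x c) (hc : c ≠ 0) :
    ∃ (k : K8ˣ) (t : G), t ∈ C.TT ∧ (k : K8) ^ 4 = c ∧ x = C.dk k * w * (C.dk k)⁻¹ * t := by
  let k : K8ˣ := Units.mk0 (c ^ 2) (pow_ne_zero _ hc)
  have hk : (k : K8) ^ 4 = c := by
    have : (c ^ 2) ^ 4 = c := by
      rw [← pow_mul]; exact K8.pow_eight c
    exact this
  refine ⟨k, (C.dk k * w * (C.dk k)⁻¹)⁻¹ * x, ?_, hk, by group⟩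
  have h1 := (hw.dk k)
  rw [one_mul, hk] at h1
  have h2 := h1.inv.mul hx
  rwa [K8.add_self] at h2

/-- the dichotomy -/
theorem dichotomy : C.Good ∨ ∀ x ∈ C.QQ, x ∉ C.TT → ∀ b e, x * x ≠ C.v b * C.z e := by
  obtain ⟨w, hw1, hw2⟩ := C.grow 1
  have hw : C.Act w 1 := ⟨hw1, hw2⟩
  obtain ⟨b0, c0, e0, h0, hkey⟩ := key hw
  by_cases hc0 : c0 = 0
  · left
    subst hc0
    -- `w` centralises `T` modulo `Z`
    have hT : ∀ t ∈ C.TT, ∃ f, w * t * w⁻¹ = t * C.z f := by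
      intro t ht
      obtain ⟨b, a, e, rfl⟩ := TT_eq ht
      obtain ⟨h, f, hf, hh⟩ := hkey a
      have hh0 : h = 0 := by
        rw [zero_mul, zero_pow (by norm_num), zero_mul, add_zero] at hh
        exact hh
      subst hh0
      rw [C.v_zero, one_mul] at hf
      refine ⟨b + f, ?_⟩
      have h1 : w * (C.v b * C.U a e) * w⁻¹ = (w * C.v b * w⁻¹) * (w * C.U a 0 * w⁻¹) * (w * C.z e * w⁻¹) := by
        rw [C.U_eq a e]; group
      rw [h1, hw.2, hf, hw.conj_z, one_mul]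
      calc C.v b * C.z (b) * C.U a f * C.z e = C.v b * (C.z (b) * C.U a f * C.z e) := by group
        _ = C.v b * (C.U a e * C.z (b + f)) := by
            rw [C.z_mul_U, C.U_mul_z, C.U_mul_z]
            congr 2
            ring
        _ = _ := by group
    have hw2 : w * w = C.z e0 := by
      have h1 : w * (w * w) * w⁻¹ = w * w := by group
      rw [h0, ← C.z_eq] at h1
      have h2 : w * (C.v b0 * C.z e0) * w⁻¹ = (w * C.v b0 * w⁻¹) * (w * C.z e0 * w⁻¹) := by group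
      rw [h2, hw.2, hw.conj_z, one_mul, mul_assoc, ← C.z_add] at h1
      have h3 := C.z_inj (mul_left_cancel h1)
      have h4 : b0 = 0 := by linear_combination h3
      rw [h0, h4, C.v_zero, one_mul, C.z_eq]
    rintro x ⟨c, hx⟩
    by_cases hc : c = 0
    · subst hc
      obtain ⟨b, a, e, rfl⟩ := TT_eq (C := C) hx
      exact ⟨_, T_sq b a e⟩
    · obtain ⟨k, t, ht, hk, rfl⟩ := exists_dk hw hx hc
      -- conjugate back by the torus
      have ht' : (C.dk k)⁻¹ * t * C.dk k ∈ C.TT := by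
        obtain ⟨b, a, e, rfl⟩ := TT_eq ht
        have h1 := Act.dk (C := C) (act_U a e) k⁻¹
        have h2 : (C.dk k)⁻¹ = C.dk k⁻¹ := by
          have := congrArg Subtype.val (C.R.d_inv k)
          exact this
        rw [zero_mul] at h1
        have h3 : (C.dk k)⁻¹ * (C.v b * C.U a e) * C.dk k = C.v b * ((C.dk k)⁻¹ * C.U a e * C.dk k) := by
          have := C.dk_v_comm k⁻¹ b
          rw [← h2] at this
          calc (C.dk k)⁻¹ * (C.v b * C.U a e) * C.dk k = ((C.dk k)⁻¹ * C.v b) * C.U a e * C.dk k := by group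
            _ = _ := by rw [this]; group
        rw [h3]
        refine mul_mem (v_mem_TT b) ?_
        have h4 : (C.dk k)⁻¹ * C.U a e * C.dk k = C.dk k⁻¹ * C.U a e * (C.dk k⁻¹)⁻¹ := by
          rw [← h2, inv_inv]
        rw [h4]
        exact h1
      obtain ⟨f, hf⟩ := hT _ (inv_mem ht')
      obtain ⟨b, a, e, hbae⟩ := TT_eq ht'
      have h5 : ∃ e', (w * ((C.dk k)⁻¹ * t * C.dk k)) * (w * ((C.dk k)⁻¹ * t * C.dk k)) = C.z e' := by
        set t' := (C.dk k)⁻¹ * t * C.dk k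
        have h6 : w * t' * (w * t') = (w * w) * (w⁻¹ * t' * w) * t' := by group
        have h7 : w⁻¹ * t' * w = t' * C.z f := by
          have h8 : w * t'⁻¹ * w⁻¹ = t'⁻¹ * C.z f := hf
          have h9 : t'⁻¹ = w⁻¹ * t'⁻¹ * w * C.z f := by
            calc t'⁻¹ = w⁻¹ * (w * t'⁻¹ * w⁻¹) * w := by group
              _ = w⁻¹ * t'⁻¹ * (C.z f * w) := by rw [h8]; group
              _ = w⁻¹ * t'⁻¹ * (w * C.z f) := by rw [hw.1]
              _ = _ := by group
          have h10 := congrArg (·⁻¹) h9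
          simp only [mul_inv_rev, inv_inv] at h10
          rw [C.z_inv] at h10
          have h11 : w⁻¹ * t' * w = C.z f * t' := by
            calc w⁻¹ * t' * w = C.z f * (C.z f * (w⁻¹ * (t' * w))) := by
                  rw [← mul_assoc (C.z f) (C.z f), C.z_sq]; group
              _ = C.z f * t' := by rw [← h10]
          rw [h11]
          exact (ht'.1 f).symm
        obtain ⟨g, hg⟩ : ∃ g, t' * t' = C.z g := ⟨_, by rw [hbae]; exact T_sq b a e⟩
        refine ⟨e0 + f + g, ?_⟩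
        rw [h6, hw2, h7, C.z_add, C.z_add, ← hg]
        have := ht'.1 f
        calc C.z e0 * (t' * C.z f) * t' = C.z e0 * (C.z f * t') * t' := by rw [this]
          _ = _ := by group
      obtain ⟨e', he'⟩ := h5
      refine ⟨e' * (k : K8) ^ 4, ?_⟩
      rw [← C.dk_z, ← he']
      group
  · right
    rintro x ⟨c, hx⟩ hxT b e hsq
    have hc : c ≠ 0 := by
      rintro rfl
      exact hxT hx
    obtain ⟨k, t, ht, hk, rfl⟩ := exists_dk hw hx hc
    obtain ⟨b1, a1, e1, h1⟩ := TT_eq ht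
    -- `S / Z` coordinate of the square is `c0 * k ^ 5`
    set y := C.dk k * w * (C.dk k)⁻¹ with hy
    have hyQ : y ∈ C.QQ := ⟨_, hw.dk k⟩
    have h2 : y * t * (y * t) = (y * y) * (y⁻¹ * t * y) * t := by group
    have h3 : y * y = C.v b0 * C.U (c0 * (k : K8) ^ 5) (e0 * (k : K8) ^ 4) := by
      have : y * y = C.dk k * (w * w) * (C.dk k)⁻¹ := by rw [hy]; group
      rw [this, h0]
      calc C.dk k * (C.v b0 * C.U c0 e0) * (C.dk k)⁻¹
          = (C.dk k * C.v b0) * C.U c0 e0 * (C.dk k)⁻¹ := by group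
        _ = C.v b0 * (C.dk k * C.U c0 e0 * (C.dk k)⁻¹) := by rw [C.dk_v_comm]; group
        _ = _ := by rw [C.dk_conj]
    obtain ⟨h, f, hf⟩ := conj_U (inv_mem hyQ) a1 e1
    rw [inv_inv] at hf
    obtain ⟨cy, hcy⟩ := hyQ
    have h4 : y⁻¹ * t * y = C.v (b1 + h) * C.U a1 (e1 + f + cy * b1) := by
      have h5 : y⁻¹ * t * y = (y⁻¹ * C.v b1 * y) * (y⁻¹ * C.U a1 e1 * y) := by rw [h1]; group
      have h6 := hcy.inv.2 b1
      rw [inv_inv] at h6
      rw [h5, h6, hf, C.v_add]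
      calc C.v b1 * C.z (cy * b1) * (C.v h * C.U a1 (e1 + f))
          = C.v b1 * (C.z (cy * b1) * C.v h) * C.U a1 (e1 + f) := by group
        _ = C.v b1 * C.v h * (C.z (cy * b1) * C.U a1 (e1 + f)) := by rw [← C.v_z_comm]; group
        _ = _ := by rw [C.z_mul_U]
    rw [h2, h3, h4, h1, T_mul, T_mul, C.z_eq] at hsq
    have h7 := (T_inj hsq).2.1
    have h8 : c0 * (k : K8) ^ 5 = 0 := by linear_combination h7 - a1 * K8.two_eq
    rcases mul_eq_zero.1 h8 with h9 | h9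
    · exact hc0 h9
    · exact k.ne_zero (pow_eq_zero_iff (by norm_num) |>.1 h9)

end Cfsg.Agent.Ru8.Core8
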