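import Mathlib
import Cfsg.Agent.Ru8.Cnt
import Cfsg.Agent.Ru8.Coord8
import Cfsg.Agent.Ru8.Count8

/-!
# The case `|R| = 8`: the end of the good case

`Sy C P`: `P` a 2-subgroup containing `Q`, centralising `Z`, absorbing every 2-subgroup up to conjugacy, with
`z^G ∩ P = Z#`. Then there are `65 · 449` conjugates of `Z`, and the good case is impossible.
-/

set_option autoImplicit false
set_option linter.unusedSectionVars false

namespace Cfsg.Agent.Ru8.End8

open Subgroup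
open Cfsg.Agent.RuB Cfsg.Agent.Ru8 Cfsg.Agent.Ru8.Core8 Cfsg.Agent.Ru8.Count8

variable {G : Type*} [Group G]

/-- `Z` as a subgroup -/
def zs (C : Core8 G) : Subgroup G where
  carrier := {x | ∃ b, x = C.z b}
  mul_mem' := by
    rintro _ _ ⟨a, rfl⟩ ⟨b, rfl⟩
    exact ⟨a + b, (C.z_add a b).symm⟩
  one_mem' := ⟨0, C.z_zero.symm⟩
  inv_mem' := by
    rintro _ ⟨a, rfl⟩
    exact ⟨a, C.z_inv a⟩

variable {C : Core8 G}

theorem mem_zs {x : G} : x ∈ zs C ↔ ∃ b, x = C.z b := Iff.rfl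

theorem card_zs : Nat.card (zs C) = 8 := by
  rw [← K8.natCard]
  symm
  refine Nat.card_congr (Equiv.ofBijective (fun b => (⟨C.z b, b, rfl⟩ : zs C)) ⟨?_, ?_⟩)
  · intro a b h
    have h' := congrArg (fun x : zs C => (x : G)) h
    have h'' : C.z a = C.z b := h'
    exact C.z_inj h''
  · rintro ⟨_, b, rfl⟩
    exact ⟨b, rfl⟩

/-- the Sylow situation -/
structure Sy (C : Core8 G) (P : Subgroup G) : Prop where
  two : IsPGroup 2 P
  QQ_le : C.QQ ≤ P
  cent : ∀ x ∈ P, ∀ b, x * C.z b = C.z b * x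
  syl : ∀ W : Subgroup G, IsPGroup 2 W → ∃ g : G, ∀ w ∈ W, g * w * g⁻¹ ∈ P
  fus : ∀ g e, e ≠ 0 → g * C.z e * g⁻¹ ∈ P → ∃ b, g * C.z e * g⁻¹ = C.z b

theorem DD_zc [Finite G] {x : G} : DD (zs C) x ↔ ZC C x := by
  constructor
  · rintro ⟨g, z, ⟨b, rfl⟩, h1, rfl⟩
    have hb : InvL C (C.z b) := ⟨C.z_mem b, C.z_sq b, h1⟩
    exact (hb.zc).conj g
  · rintro ⟨g, rfl⟩
    refine ⟨g, C.z 1, ⟨1, rfl⟩, ?_, rfl⟩
    intro h
    exact one_ne_zero (C.z_eq_one h)

section

variable [Finite G] {P : Subgroup G} (H : Sy C P)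

include H

theorem noV : NoV C := by
  intro g b h
  obtain ⟨b', hb'⟩ := H.fus g 1 one_ne_zero (by
    rw [h]
    exact H.QQ_le (TT_le (v_mem_TT b)))
  have h1 : b = 0 := C.v_notin b (by rw [← h, hb']; exact C.z_mem _)
  have h2 : g * C.z 1 * g⁻¹ = 1 := by rw [h, h1, C.v_zero]
  have h3 : C.z 1 = 1 := by
    calc C.z 1 = g⁻¹ * (g * C.z 1 * g⁻¹) * g := by group
      _ = 1 := by rw [h2]; group
  exact one_ne_zero (C.z_eq_one h3)

/-- an element of the class commuting with `v a` lies in `L` -/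
theorem mem_L {a : K8} (ha : a ≠ 0) {x : G} (hx : ZC C x) (h : x * C.v a = C.v a * x) : x ∈ C.L := by
  obtain ⟨b, l, hl, rfl⟩ := cent2 ha hx.sq h
  have hb := zc_VL (noV H) hl hx
  rw [hb, C.v_zero, one_mul]
  exact hl

theorem central {W : Subgroup G} (hW : IsPGroup 2 W) {x w : G} (hx : ZC C x) (hxW : x ∈ W) (hw : w ∈ W) :
    w * x = x * w := by
  obtain ⟨h, hh⟩ := H.syl W hW
  obtain ⟨g, rfl⟩ := hx
  have h1 := hh _ hxW
  have e : h * (g * C.z 1 * g⁻¹) * h⁻¹ = h * g * C.z 1 * (h * g)⁻¹ := by group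
  rw [e] at h1
  obtain ⟨b, hb⟩ := H.fus (h * g) 1 one_ne_zero h1
  have h3 := H.cent _ (hh w hw) b
  rw [← hb, ← e] at h3
  calc w * (g * C.z 1 * g⁻¹) = h⁻¹ * (h * w * h⁻¹ * (h * (g * C.z 1 * g⁻¹) * h⁻¹)) * h := by group
    _ = _ := by rw [h3]; group

/-- an element of `L` in the class commuting with `z e`, `e ≠ 0`, lies in `Z` -/
theorem mem_Z_of {x : G} (hxL : x ∈ C.L) (hx : ZC C x) {e : K8} (he : e ≠ 0) (h : x * C.z e = C.z e * x) :
    ∃ b, x = C.z b := by
  obtain ⟨a, b, rfl⟩ := mem_S_of_comm hxL he h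
  have h1 := hx.sq
  rw [C.U_sq] at h1
  have h2 := pow5_eq_zero a (C.z_eq_one h1)
  rw [h2]
  exact ⟨b, rfl⟩

/-- trivial intersection -/
theorem ti {x : G} (hx : ZC C x) {e : K8} (he : e ≠ 0) (h : x * C.z e = C.z e * x) : ∃ b, x = C.z b := by
  have hxx := hx.sq
  have hvv := C.v_sq 1
  set t := C.v 1 with ht
  have htz : t * C.z e = C.z e * t := C.v_z_comm 1 e
  obtain ⟨k, m, hm, hkm⟩ := Nat.exists_eq_two_pow_mul_odd (n := orderOf (t * x)) (orderOf_pos _).ne'
  obtain ⟨j, hj⟩ := id hm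
  have h1 := dih_pow hvv hxx j
  rw [← hj] at h1
  set x' := ((t * x) ^ j)⁻¹ * x * (((t * x) ^ j)⁻¹)⁻¹ with hx'
  have hD : ZC C x' := hx.conj _
  have hT : T2 ((t * x) ^ m) := ⟨k, by rw [← pow_mul, mul_comm, ← hkm, pow_orderOf_eq_one]⟩
  have hinv : t * (t * x) ^ m * t⁻¹ = ((t * x) ^ m)⁻¹ := dih_inv hvv hxx m
  have hW := dih_two hvv hT hinv
  have e1 : x' = t⁻¹ * (t * x) ^ m := by rw [h1]; group
  have hxW : x' ∈ zpowers t ⊔ zpowers ((t * x) ^ m) := by
    rw [e1]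
    exact mul_mem (inv_mem (mem_sup_left (mem_zpowers t))) (mem_sup_right (mem_zpowers _))
  have hc := central H hW hD hxW (mem_sup_left (mem_zpowers t))
  -- `x'` commutes with `z e`
  have hcz : x' * C.z e = C.z e * x' := by
    have c1 : Commute t (C.z e) := htz
    have c2 : Commute x (C.z e) := h
    have c3 : Commute x' (C.z e) := by
      rw [e1]
      exact c1.inv_left.mul_left ((c1.mul_left c2).pow_left _)
    exact c3
  obtain ⟨b, hb⟩ := mem_Z_of H (mem_L H one_ne_zero hD hc.symm) hD he hcz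
  -- the involution `t x'`
  have hb0 : b ≠ 0 := by
    rintro rfl
    rw [C.z_zero] at hb
    exact hD.ne_one hb
  have hjr : (t * x') * (t * x) = (t * x) * (t * x') := by
    rw [← h1, ← pow_succ, ← pow_succ']
  have hjt : (t * x') * t = t * (t * x') := by
    rw [mul_assoc, hc]
  have hjx : (t * x') * x = x * (t * x') := by
    have e2 : x = t * (t * x) := by rw [← mul_assoc, hvv, one_mul]
    calc (t * x') * x = ((t * x') * t) * (t * x) := by
          conv_lhs => rw [e2]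
          group
      _ = t * ((t * x') * (t * x)) := by rw [hjt]; group
      _ = (t * (t * x)) * (t * x') := by rw [hjr]; group
      _ = _ := by rw [← e2]
  -- `t x'` is conjugate to `t` by an element of `Q`
  obtain ⟨q, hq⟩ := C.exists_act b
  have hq2 := hq.2 1
  rw [mul_one, ← ht, ← hb] at hq2
  have h5 : (q⁻¹ * x * q) * t = t * (q⁻¹ * x * q) := by
    have e3 : q * t * q⁻¹ = t * x' := hq2
    calc (q⁻¹ * x * q) * t = q⁻¹ * (x * (q * t * q⁻¹)) * q := by group
      _ = q⁻¹ * ((t * x') * x) * q := by rw [e3, hjx]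
      _ = q⁻¹ * ((q * t * q⁻¹) * x) * q := by rw [e3]
      _ = _ := by group
  have h6 : ZC C (q⁻¹ * x * q) := by
    have := hx.conj q⁻¹
    rwa [inv_inv] at this
  have hqz : q * C.z e = C.z e * q := hq.1 e
  have h7 : (q⁻¹ * x * q) * C.z e = C.z e * (q⁻¹ * x * q) := by
    have c1 : Commute q (C.z e) := hqz
    have c2 : Commute x (C.z e) := h
    have c3 : Commute (q⁻¹ * x * q) (C.z e) := (c1.inv_left.mul_left c2).mul_left c1
    exact c3
  obtain ⟨b', hb'⟩ := mem_Z_of H (mem_L H one_ne_zero h6 h5) h6 he h7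
  refine ⟨b', ?_⟩
  have h8 : x = q * (q⁻¹ * x * q) * q⁻¹ := by group
  rw [h8, hb', hq.1 b', mul_inv_cancel_right]

theorem sctx : SCtx (zs C) P where
  card := card_zs
  sq := by
    rintro _ ⟨b, rfl⟩
    exact C.z_sq b
  le := by
    rintro _ ⟨b, rfl⟩
    exact H.QQ_le (z_mem_QQ b)
  two := H.two
  cent := by
    rintro x hx _ ⟨b, rfl⟩
    exact H.cent x hx b
  syl := H.syl
  fus := by
    rintro g _ ⟨b, rfl⟩ hb h
    exact H.fus g b (by
      rintro rfl
      exact hb C.z_zero) h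
  ti := by
    rintro g _ ⟨b, rfl⟩ hb _ ⟨e, rfl⟩ he h
    exact ti H (DD_zc.1 ⟨g, C.z b, ⟨b, rfl⟩, hb, rfl⟩) (by
      rintro rfl
      exact he C.z_zero) h

end

section count

variable [Fintype G] {P : Subgroup G} (H : Sy C P)

include H

/-- `v a` fixes 65 points -/
theorem card_v {a : K8} (ha : a ≠ 0) : (pts (zs C) {C.v a}).card = 65 := by
  classical
  have h1 := (sctx H).card_dd (W := {C.v a}) (by
    intro w hw
    rw [Set.mem_singleton_iff] at hw
    subst hw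
    exact T2.of_sq (C.v_sq a))
  have h2 : (dd (zs C) {C.v a}).card = 455 := by
    rw [← card_InvL (C := C), Nat.card_eq_fintype_card, Fintype.card_subtype]
    congr 1
    ext x
    rw [mem_dd, Finset.mem_filter, DD_zc]
    constructor
    · rintro ⟨h3, h4⟩
      refine ⟨Finset.mem_univ _, mem_L H ha h3 (h4 _ (Set.mem_singleton _)).symm, h3.sq, h3.ne_one⟩
    · rintro ⟨-, h3⟩
      refine ⟨h3.zc, fun w hw => ?_⟩
      rw [Set.mem_singleton_iff] at hw
      subst hw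
      exact C.v_comm a x h3.1
  omega

omit H in
theorem card_conj_dd (q u : G) : (dd (zs C) {q * u * q⁻¹}).card = (dd (zs C) {u}).card := by
  refine Finset.card_bij' (fun y _ => q⁻¹ * y * q) (fun y _ => q * y * q⁻¹) ?_ ?_ ?_ ?_
  · intro y hy
    rw [mem_dd] at hy ⊢
    refine ⟨by simpa using hy.1.conj q⁻¹, fun w hw => ?_⟩
    rw [Set.mem_singleton_iff] at hw
    subst hw
    have h1 := hy.2 _ (Set.mem_singleton _)
    calc w * (q⁻¹ * y * q) = q⁻¹ * (q * w * q⁻¹ * y) * q := by group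
      _ = q⁻¹ * (y * (q * w * q⁻¹)) * q := by rw [h1]
      _ = _ := by group
  · intro y hy
    rw [mem_dd] at hy ⊢
    refine ⟨hy.1.conj q, fun w hw => ?_⟩
    rw [Set.mem_singleton_iff] at hw
    subst hw
    have h1 := hy.2 _ (Set.mem_singleton _)
    calc q * u * q⁻¹ * (q * y * q⁻¹) = q * (u * y) * q⁻¹ := by group
      _ = q * (y * u) * q⁻¹ := by rw [h1]
      _ = _ := by group
  · intro y _; group
  · intro y _; group

/-- `v a z` fixes 65 points -/
theorem card_vz {a : K8} (ha : a ≠ 0) {z : G} (hz : z ∈ zs C) : (pts (zs C) {C.v a * z}).card = 65 := by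
  obtain ⟨b, rfl⟩ := hz
  obtain ⟨q, hq⟩ := C.exists_act (b * a⁻¹)
  have h1 := hq.2 a
  rw [inv_mul_cancel_right₀ ha] at h1
  have h2 := card_conj_dd (C := C) q (C.v a)
  rw [h1] at h2
  have h3 := (sctx H).card_dd (W := {C.v a}) (by
    intro w hw
    rw [Set.mem_singleton_iff] at hw
    subst hw
    exact T2.of_sq (C.v_sq a))
  have h4 := (sctx H).card_dd (W := {C.v a * C.z b}) (by
    intro w hw
    rw [Set.mem_singleton_iff] at hw
    subst hw
    refine T2.of_sq ?_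
    calc C.v a * C.z b * (C.v a * C.z b) = C.v a * (C.z b * C.v a) * C.z b := by group
      _ = (C.v a * C.v a) * (C.z b * C.z b) := by rw [← C.v_z_comm]; group
      _ = 1 := by rw [C.v_sq, C.z_sq, one_mul])
  rw [card_v H ha] at h3
  omega

theorem not_DD {a : K8} (ha : a ≠ 0) : ¬ DD (zs C) (C.v a) := by
  intro h
  have h1 := DD_zc.1 h
  have h2 := zc_VL (noV H) (b := a) (l := 1) (one_mem _) (by rwa [mul_one])
  exact ha h2

/-- **the number of points** -/
theorem card_points : (pts (zs C) ∅).card = 65 * 449 :=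
  (sctx H).card_points (C.v_sq 1) (not_DD H one_ne_zero) (by
    intro h
    exact one_ne_zero (C.v_eq_one h)) (by
    rintro _ ⟨b, rfl⟩
    exact C.v_z_comm 1 b) (fun _ hz => card_vz H one_ne_zero hz)

/-- no involution outside the class centralises the whole class -/
theorem faithful {v : G} (hv : v * v = 1) (hv1 : v ≠ 1) : ∃ x, DD (zs C) x ∧ v * x ≠ x * v := by
  classical
  by_contra hcon
  push Not at hcon
  -- the centralizer of the class
  set N : Subgroup G := centralizer {x | DD (zs C) x} with hN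
  have hmemN : ∀ g, g ∈ N ↔ ∀ x, DD (zs C) x → g * x = x * g := by
    intro g
    rw [hN, mem_centralizer_iff]
    constructor
    · intro h x hx
      exact (h x hx).symm
    · intro h x hx
      exact (h x hx).symm
  have hNconj : ∀ g ∈ N, ∀ c : G, c * g * c⁻¹ ∈ N := by
    intro g hg c
    rw [hmemN] at hg ⊢
    intro x hx
    have h1 := hg _ (hx.conj c⁻¹)
    rw [inv_inv] at h1
    calc c * g * c⁻¹ * x = c * (g * (c⁻¹ * x * c)) * c⁻¹ := by group
      _ = c * ((c⁻¹ * x * c) * g) * c⁻¹ := by rw [h1]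
      _ = _ := by group
  have hvN : v ∈ N := (hmemN v).2 hcon
  -- an involution of `N` commuting with `t`
  obtain ⟨w, hwN, hw2, hw1, hwt⟩ : ∃ w ∈ N, w * w = 1 ∧ w ≠ 1 ∧ w * C.v 1 = C.v 1 * w := by
    have hvv := C.v_sq 1
    set t := C.v 1 with ht
    obtain ⟨k, m, hm, hkm⟩ := Nat.exists_eq_two_pow_mul_odd (n := orderOf (t * v)) (orderOf_pos _).ne'
    obtain ⟨j, hj⟩ := id hm
    have h1 := dih_pow hvv hv j
    rw [← hj] at h1
    set v' := ((t * v) ^ j)⁻¹ * v * (((t * v) ^ j)⁻¹)⁻¹ with hv'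
    have hv'N : v' ∈ N := hNconj v hvN _
    have hv'2 : v' * v' = 1 := by
      rw [hv']
      calc ((t * v) ^ j)⁻¹ * v * (((t * v) ^ j)⁻¹)⁻¹ * (((t * v) ^ j)⁻¹ * v * (((t * v) ^ j)⁻¹)⁻¹) =
          ((t * v) ^ j)⁻¹ * (v * v) * (t * v) ^ j := by group
        _ = 1 := by rw [hv]; group
    have hv'1 : v' ≠ 1 := by
      intro h
      apply hv1
      calc v = (t * v) ^ j * (((t * v) ^ j)⁻¹ * v * (((t * v) ^ j)⁻¹)⁻¹) * ((t * v) ^ j)⁻¹ := by group
        _ = 1 := by rw [← hv', h]; group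
    -- `r = t v'` has order `2 ^ k`
    have hr : (t * v') ^ 2 ^ k = 1 := by
      rw [← h1, ← pow_mul, mul_comm, ← hkm, pow_orderOf_eq_one]
    by_cases hcomm : v' * t = t * v'
    · exact ⟨v', hv'N, hv'2, hv'1, hcomm⟩
    · -- `r² ∈ N` is not trivial
      have hr2 : (t * v') * (t * v') ∈ N := by
        have e : (t * v') * (t * v') = (t * v' * t⁻¹) * v' := by
          rw [inv_eq_of_mul_eq_one_right hvv]; group
        rw [e]
        exact mul_mem (hNconj _ hv'N t) hv'N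
      have hr2' : (t * v') * (t * v') ≠ 1 := by
        intro h
        apply hcomm
        calc v' * t = t * (t * v' * (t * v')) * v' := by
              calc v' * t = (t * t) * v' * t * (v' * v') := by rw [hvv, hv'2]; group
                _ = _ := by group
          _ = t * v' := by rw [h]; group
      obtain ⟨i, hi⟩ := Cfsg.Agent.RuRed.exists_pow_orderOf_two (x := (t * v') * (t * v')) (by
        refine ⟨k, ?_⟩
        rw [← pow_two, ← pow_mul, mul_comm, pow_mul, hr, one_pow]) hr2'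
      refine ⟨((t * v') * (t * v')) ^ i, pow_mem hr2 i, Cfsg.Agent.RuRed.sq_eq_one_of_orderOf hi, ?_, ?_⟩
      · intro h
        rw [h, orderOf_one] at hi
        exact absurd hi (by norm_num)
      · have h2 := dih_inv hvv hv'2 (2 * i)
        have e : ((t * v') * (t * v')) ^ i = (t * v') ^ (2 * i) := by
          rw [← pow_two, ← pow_mul]
        rw [← e] at h2
        rw [inv_eq_of_mul_eq_one_right (Cfsg.Agent.RuRed.sq_eq_one_of_orderOf hi)] at h2
        exact (mul_inv_eq_iff_eq_mul.1 h2).symm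
  -- `w = v b`
  obtain ⟨b, l, hl, rfl⟩ := cent2 one_ne_zero hw2 hwt
  have hlcomm : ∀ x, InvL C x → l * x = x * l := by
    intro x hx
    have h1 := (hmemN _).1 hwN x (DD_zc.2 hx.zc)
    have h2 := C.v_comm b x hx.1
    have h3 : C.v b * (l * x) = C.v b * (x * l) := by
      calc C.v b * (l * x) = C.v b * l * x := by group
        _ = x * C.v b * l := by rw [h1]; group
        _ = _ := by rw [← h2]; group
    exact mul_left_cancel h3
  have hl1 : l = 1 := by
    by_contra hne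
    obtain ⟨a, e, hT⟩ := RuB.AutFix.mem_T_of_comm C.R (x := ⟨l, hl⟩) one_ne_zero
      (Subtype.ext (hlcomm _ z_one_inv))
    have h2 : InvL C ((C.R.w : G) * C.z 1 * (C.R.w : G)⁻¹) := z_one_inv.conj C.R.w.2
    obtain ⟨a', e', hT'⟩ := RuB.AutFix.mem_T_of_comm C.R (x := C.R.w⁻¹ * ⟨l, hl⟩ * C.R.w) one_ne_zero (by
      apply Subtype.ext
      have h3 := hlcomm _ h2
      show (C.R.w : G)⁻¹ * l * (C.R.w : G) * C.z 1 = C.z 1 * ((C.R.w : G)⁻¹ * l * (C.R.w : G))
      calc (C.R.w : G)⁻¹ * l * (C.R.w : G) * C.z 1 =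
          (C.R.w : G)⁻¹ * (l * ((C.R.w : G) * C.z 1 * (C.R.w : G)⁻¹)) * (C.R.w : G) := by group
        _ = (C.R.w : G)⁻¹ * (((C.R.w : G) * C.z 1 * (C.R.w : G)⁻¹) * l) * (C.R.w : G) := by rw [h3]
        _ = _ := by group)
    have h4 : (C.R.w⁻¹ * ⟨l, hl⟩ * C.R.w : ↥C.L) ∈ C.R.T := ⟨a', e', hT'⟩
    have h5 : (⟨l, hl⟩ : ↥C.L) ∈ C.R.T := ⟨a, e, hT⟩
    have h6 : (⟨l, hl⟩ : ↥C.L) ≠ 1 := fun h => hne (congrArg Subtype.val h)
    have h7 := C.R.ti (g := C.R.w⁻¹) h5 h6 (by rw [inv_inv]; exact h4)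
    exact C.R.w_not_mem_normalizer (by simpa using inv_mem h7)
  rw [hl1, mul_one] at hwN hw1
  have hb : b ≠ 0 := by
    rintro rfl
    exact hw1 C.v_zero
  have h65 := card_v H hb
  have hall := card_points H
  have heq : pts (zs C) {C.v b} = pts (zs C) ∅ := by
    ext B
    rw [mem_pts, mem_pts]
    constructor
    · rintro ⟨h1, -⟩
      exact ⟨h1, by simp⟩
    · rintro ⟨⟨g, rfl⟩, -⟩
      refine ⟨⟨g, rfl⟩, fun w hw x hx => ?_⟩
      rw [Set.mem_singleton_iff] at hw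
      subst hw
      by_cases hx1 : x = 1
      · rw [hx1, mul_one, one_mul]
      · exact (hmemN _).1 hwN x (DD_of_pt hx hx1)
  rw [heq, hall] at h65
  norm_num at h65

end count

/-! ### the good case -/

/-- for each `(ν, μ)` nine elements of `K8`, in octal -/
def tab : ℕ := 7783789663061947512538308747300554099232996095941018753397087671339033277081003773453044115890458479363539102750625295891296297176861011535873848147993555884812124358229481917293006864844472418374926683474774336360782472113367858070040814799727150378303861249789487151213865110026687906968142005648627973144358888509430700921209583270787709726312011875290853568786957533641501650469425842207190660611364119057601444882591555350839131444752814910938837663062849299463718769485725544742715752951893743526919751374348166217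

def dig (ν μ : K8) (i : ℕ) : K8 :=
  ⟨⟨(tab >>> (27 * (8 * ν.val.1 + μ.val.1) + 3 * i)) % 8, Nat.mod_lt _ (by norm_num)⟩⟩

/-- the triples -/
theorem table : ∀ ν μ : K8,
    qf8 ν μ (dig ν μ 0, dig ν μ 1, dig ν μ 2) = 0 ∧ qf8 ν μ (dig ν μ 3, dig ν μ 4, dig ν μ 5) = 0 ∧
    qf8 ν μ (dig ν μ 6, dig ν μ 7, dig ν μ 8) = 0 ∧
    bf8 μ (dig ν μ 0, dig ν μ 1, dig ν μ 2) (dig ν μ 3, dig ν μ 4, dig ν μ 5) = 0 ∧
    bf8 μ (dig ν μ 0, dig ν μ 1, dig ν μ 2) (dig ν μ 6, dig ν μ 7, dig ν μ 8) = 0 ∧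
    bf8 μ (dig ν μ 3, dig ν μ 4, dig ν μ 5) (dig ν μ 6, dig ν μ 7, dig ν μ 8) ≠ 0 ∧
    (dig ν μ 0, dig ν μ 1, dig ν μ 2) ≠ 0 ∧ (dig ν μ 3, dig ν μ 4, dig ν μ 5) ≠ 0 ∧
    (dig ν μ 6, dig ν μ 7, dig ν μ 8) ≠ 0 := by decide +kernel

/-- **The good case is impossible.** -/
theorem false_of_coord [Finite G] {P : Subgroup G} (H : Sy C P) (K : Coord8 C) : False := by
  have : Fintype G := Fintype.ofFinite G
  obtain ⟨q1, q2, q3, b12, b13, b23, n1, n2, n3⟩ := table K.ν K.μ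
  obtain ⟨y, hyQ, hy⟩ := K.surj (dig K.ν K.μ 0, dig K.ν K.μ 1, dig K.ν K.μ 2)
  obtain ⟨w, hwQ, hw⟩ := K.surj (dig K.ν K.μ 3, dig K.ν K.μ 4, dig K.ν K.μ 5)
  obtain ⟨w', hwQ', hw'⟩ := K.surj (dig K.ν K.μ 6, dig K.ν K.μ 7, dig K.ν K.μ 8)
  have hsq : ∀ x ∈ C.QQ, qf8 K.ν K.μ (K.π x) = 0 → x * x = 1 := by
    intro x hx h
    rw [K.sq x hx, h, C.z_zero]
  have hD : ∀ x ∈ C.QQ, K.π x ≠ 0 → ¬ DD (zs C) x := by
    intro x hx h hDx
    obtain ⟨g, z, ⟨b, rfl⟩, hb, rfl⟩ := hDx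
    obtain ⟨b', hb'⟩ := H.fus g b (by
      rintro rfl
      exact hb C.z_zero) (H.QQ_le hx)
    apply h
    rw [hb', K.z]
  have h1 : ∀ x ∈ C.QQ, K.π x ≠ 0 → x ≠ 1 := by
    intro x hx h h1
    apply h
    rw [h1, K.one]
  have hZ : ∀ x ∈ C.QQ, ∀ z ∈ zs C, x * z = z * x := by
    rintro x hx _ ⟨b, rfl⟩
    exact zcomm hx b
  have hc : ∀ x ∈ C.QQ, ∀ y ∈ C.QQ, bf8 K.μ (K.π x) (K.π y) = 0 → x * y = y * x := by
    intro x hx y hy h
    rw [K.comm hx hy, h, C.z_zero, mul_one]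
  have := (sctx H).comm_of (card_points H) (fun v hv hv1 _ _ => faithful H hv hv1)
    (y := y) (w := w) (w' := w') (c := C.z (bf8 K.μ (K.π w) (K.π w')))
    (hsq y hyQ (by rw [hy]; exact q1)) (hD y hyQ (by rw [hy]; exact n1)) (h1 y hyQ (by rw [hy]; exact n1)) (hZ y hyQ)
    (hsq w hwQ (by rw [hw]; exact q2)) (hD w hwQ (by rw [hw]; exact n2)) (h1 w hwQ (by rw [hw]; exact n2)) (hZ w hwQ)
    (hc y hyQ w hwQ (by rw [hy, hw]; exact b12))
    (hsq w' hwQ' (by rw [hw']; exact q3)) (hD w' hwQ' (by rw [hw']; exact n3)) (h1 w' hwQ' (by rw [hw']; exact n3))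
    (hZ w' hwQ') (hc y hyQ w' hwQ' (by rw [hy, hw']; exact b13)) ⟨_, rfl⟩ (K.comm hwQ hwQ')
  apply b23
  rw [← hw, ← hw']
  exact C.z_eq_one this

end Cfsg.Agent.Ru8.End8
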