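import Cfsg.Agent.Ru8.ExistsSc8
import Cfsg.Agent.Ru8.End8
import Cfsg.Agent.Ru8.BadD

/-!
# `|R| = 8` is impossible
-/

set_option autoImplicit false

namespace Cfsg.Agent.Ru8

open Cfsg.Agent.RuB (K8)
open Cfsg.Agent
open Subgroup

variable {G : Type*} [Group G] [Finite G]

/-- a nontrivial element of `Z` is conjugate to `z 1` -/
theorem exists_sy {C : Core8 G} (K : Coord8 C) : ∃ P : Subgroup G, End8.Sy C P := by
  obtain ⟨P, hP, hc, hf⟩ := Core8.exists_sc K
  refine ⟨P, P.2, hP, hc, fun W hW => ?_, fun g e he hg => ?_⟩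
  · obtain ⟨Q, hQ⟩ := hW.exists_le_sylow
    have : Fact (Nat.Prime 2) := ⟨Nat.prime_two⟩
    obtain ⟨g, hg⟩ := MulAction.exists_smul_eq G Q P
    refine ⟨g, fun w hw => ?_⟩
    show g * w * g⁻¹ ∈ P
    rw [← hg]
    exact ⟨w, hQ hw, rfl⟩
  · have h1 : Count8.InvL C (C.z e) := ⟨C.z_mem e, C.z_sq e, fun h => he (C.z_eq_one h)⟩
    obtain ⟨m, -, hm⟩ := Count8.exists_conj_L h1
    exact hf _ hg (g * m) (by rw [← hm]; group)

/-- **`|R| = 8` is impossible.** -/
theorem false_of_core8 (C : Core8 G) : False := by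
  obtain ⟨K⟩ := BadD.nonempty_coord C
  obtain ⟨P, H⟩ := exists_sy K
  exact End8.false_of_coord H K

end Cfsg.Agent.Ru8
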