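import Cfsg.Agent.RuB.K8

/-!
# The core hypothesis for `|R| = 8`

`Core8 G`: subgroups `V = {v a | a ∈ K8}` (elementary abelian of order 8) and `L ≅ Sz(8)` (parametrised by `R`,
over the concrete field `K8`), `C_G(v a) ≤ N_G(L)` and `C_G(v a) ∩ C_G(L) = V` for `a ≠ 0`, and for every `c ∈ K8`
an element of `G` centralising `Z = {u 0 b}` and mapping `v a` to `v a * u 0 (c * a)` (growth).

This is the port of `RuB.Core` (helper857) to `|V| = 8`.
-/

set_option autoImplicit false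

namespace Cfsg.Agent.Ru8

open Cfsg.Agent.RuB (K8)



/-- The core hypothesis. -/
structure Core8 (G : Type*) [Group G] where
  L : Subgroup G
  R : Cfsg.Agent.ThreePrime.SzRel.Rel ↥L K8
  v : K8 → G
  v_add : ∀ a b, v (a + b) = v a * v b
  v_comm : ∀ a, ∀ l ∈ L, v a * l = l * v a
  v_notin : ∀ a, v a ∈ L → a = 0
  norm : ∀ a, a ≠ 0 → ∀ g, g * v a = v a * g → ∀ l ∈ L, g * l * g⁻¹ ∈ L
  cent : ∀ a, a ≠ 0 → ∀ g, g * v a = v a * g → (∀ l ∈ L, g * l = l * g) → ∃ b, g = v b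
  grow : ∀ c : K8, ∃ x : G, (∀ b, x * (R.u 0 b : G) = (R.u 0 b : G) * x) ∧
    ∀ a, x * v a * x⁻¹ = v a * (R.u 0 (c * a) : G)

namespace Core8

variable {G : Type*} [Group G] (C : Core8 G)

/-- elements of the Sylow 2-subgroup `S` of `L` -/
def U (a b : K8) : G := (C.R.u a b : G)

/-- elements `ζ b` of `Z = Z(S)` -/
def z (b : K8) : G := (C.R.u 0 b : G)

/-- the torus element of `L` -/
def dk (k : K8ˣ) : G := (C.R.d k : G)

theorem U_mem (a b : K8) : C.U a b ∈ C.L := (C.R.u a b).2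
theorem z_mem (b : K8) : C.z b ∈ C.L := (C.R.u 0 b).2
theorem dk_mem (k : K8ˣ) : C.dk k ∈ C.L := (C.R.d k).2

theorem theta (x : K8) : C.R.θ x = x ^ 4 := K8.theta_eq C.R.θ C.R.sq x

theorem U_mul (a b c e : K8) : C.U a b * C.U c e = C.U (a + c) (b + e + a * c ^ 4) := by
  have h := C.R.u_mul a b c e
  rw [C.theta] at h
  have h2 := congrArg (Subtype.val) h
  exact h2

theorem z_eq (b : K8) : C.z b = C.U 0 b := rfl

theorem U_zero : C.U 0 0 = 1 := by
  have h := congrArg (Subtype.val) C.R.u_zero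
  exact h

theorem z_zero : C.z 0 = 1 := C.U_zero

theorem z_add (a b : K8) : C.z (a + b) = C.z a * C.z b := by
  rw [z_eq, z_eq, z_eq, C.U_mul, add_zero]
  congr 1
  ring

theorem U_inj {a b c e : K8} (h : C.U a b = C.U c e) : a = c ∧ b = e :=
  C.R.u_inj (Subtype.ext h)

theorem z_inj {a b : K8} (h : C.z a = C.z b) : a = b := (C.U_inj h).2

theorem z_eq_one {a : K8} (h : C.z a = 1) : a = 0 := by
  rw [← C.z_zero] at h
  exact C.z_inj h

theorem z_sq (b : K8) : C.z b * C.z b = 1 := by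
  rw [← C.z_add, K8.add_self, C.z_zero]

theorem z_inv (b : K8) : (C.z b)⁻¹ = C.z b := inv_eq_of_mul_eq_one_right (C.z_sq b)

theorem z_comm (a b : K8) : C.z a * C.z b = C.z b * C.z a := by
  rw [← C.z_add, ← C.z_add, add_comm]

theorem U_mul_z (a b e : K8) : C.U a b * C.z e = C.U a (b + e) := by
  rw [z_eq, C.U_mul]
  congr 1
  · rw [add_zero]
  · ring

theorem z_mul_U (a b e : K8) : C.z e * C.U a b = C.U a (b + e) := by
  rw [z_eq, C.U_mul]
  congr 1
  · rw [zero_add]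
  · ring

theorem U_eq (a b : K8) : C.U a b = C.U a 0 * C.z b := by
  rw [C.U_mul_z, zero_add]

theorem U_z_comm (a b e : K8) : C.U a b * C.z e = C.z e * C.U a b := by
  rw [C.U_mul_z, C.z_mul_U]

theorem U_sq (a b : K8) : C.U a b * C.U a b = C.z (a ^ 5) := by
  rw [C.U_mul, z_eq, K8.add_self, K8.add_self, zero_add]
  congr 1
  ring

theorem U_inv (a b : K8) : (C.U a b)⁻¹ = C.U a (b + a ^ 5) := by
  rw [inv_eq_iff_mul_eq_one, C.U_mul, ← C.U_zero]
  congr 1
  · exact K8.add_self a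
  · linear_combination (b + a ^ 5) * K8.two_eq

/-- conjugation inside `S` -/
theorem U_conj (a b c e : K8) :
    C.U a b * C.U c e * (C.U a b)⁻¹ = C.U c (e + a * c ^ 4 + a ^ 4 * c) := by
  rw [mul_inv_eq_iff_eq_mul, C.U_mul, C.U_mul]
  congr 1
  · ring
  · linear_combination (- c * a ^ 4) * K8.two_eq

theorem dk_conj (k : K8ˣ) (a b : K8) :
    C.dk k * C.U a b * (C.dk k)⁻¹ = C.U (a * (k : K8) ^ 5) (b * (k : K8) ^ 4) := by
  have h := congrArg (Subtype.val) (C.R.conj_d k a b)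
  rw [C.theta] at h
  have hk : (k : K8) ^ 7 = 1 := by
    rcases K8.pow_seven (k : K8) with h1 | h1
    · exact absurd h1 k.ne_zero
    · exact h1
  have h2 : a * (k : K8) ^ 2 * ((k : K8) ^ 4)⁻¹ = a * (k : K8) ^ 5 := by
    have hk0 : ((k : K8) ^ 4) ≠ 0 := pow_ne_zero _ k.ne_zero
    field_simp
    linear_combination (-a) * hk
  rw [h2] at h
  exact h

theorem dk_z (k : K8ˣ) (b : K8) : C.dk k * C.z b * (C.dk k)⁻¹ = C.z (b * (k : K8) ^ 4) := by
  rw [z_eq, C.dk_conj, zero_mul, z_eq]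

theorem v_zero : C.v 0 = 1 := by
  have h := C.v_add 0 0
  rw [add_zero] at h
  exact (left_eq_mul.1 h)

theorem v_sq (a : K8) : C.v a * C.v a = 1 := by
  rw [← C.v_add]
  rw [K8.add_self, C.v_zero]

theorem v_inv (a : K8) : (C.v a)⁻¹ = C.v a := inv_eq_of_mul_eq_one_right (C.v_sq a)

theorem v_eq_one {a : K8} (h : C.v a = 1) : a = 0 := C.v_notin a (by rw [h]; exact one_mem _)

theorem v_inj {a b : K8} (h : C.v a = C.v b) : a = b := by
  have h1 : C.v (a + b) = 1 := by rw [C.v_add, h, C.v_sq]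
  have h2 := C.v_eq_one h1
  linear_combination h2 - b * K8.two_eq

theorem v_v_comm (a b : K8) : C.v a * C.v b = C.v b * C.v a := by
  rw [← C.v_add, ← C.v_add, add_comm]

theorem v_U_comm (a : K8) (b c : K8) : C.v a * C.U b c = C.U b c * C.v a := C.v_comm a _ (C.U_mem _ _)

theorem v_z_comm (a : K8) (b : K8) : C.v a * C.z b = C.z b * C.v a := C.v_comm a _ (C.z_mem _)

theorem dk_v_comm (k : K8ˣ) (a : K8) : C.dk k * C.v a = C.v a * C.dk k := (C.v_comm a _ (C.dk_mem _)).symm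

theorem dk_v_conj (k : K8ˣ) (a : K8) : C.dk k * C.v a * (C.dk k)⁻¹ = C.v a := by
  rw [C.dk_v_comm, mul_inv_cancel_right]

/-- uniqueness of the decomposition `v a * l` -/
theorem vl_inj {a b : K8} {l m : G} (hl : l ∈ C.L) (hm : m ∈ C.L) (h : C.v a * l = C.v b * m) :
    a = b ∧ l = m := by
  have h1 : C.v (a + b) = m * l⁻¹ := by
    rw [C.v_add, C.v_v_comm]
    calc C.v b * C.v a = C.v b * (C.v a * l) * l⁻¹ := by group
      _ = (C.v b * C.v b) * m * l⁻¹ := by rw [h]; group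
      _ = m * l⁻¹ := by rw [C.v_sq, one_mul]
  have h2 : a + b = 0 := C.v_notin _ (by rw [h1]; exact mul_mem hm (inv_mem hl))
  have h3 : a = b := by linear_combination h2 - b * K8.two_eq
  subst h3
  exact ⟨rfl, mul_left_cancel h⟩

end Core8

end Cfsg.Agent.Ru8
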