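import Cfsg.Agent.Ru8.NormTT8
import Cfsg.Agent.Ru8.Count8
import Cfsg.Agent.RuB.QSylC
import Cfsg.Agent.RuB.QSylF

/-!
# `|R| = 8`, bad case, part A: orders, Sylow statements (port of helper125's QSylA, QSylB; helper143)
-/

set_option autoImplicit false

namespace Cfsg.Agent.Ru8.BadA

open Subgroup
open Cfsg.Agent.ThreePrime Cfsg.Agent.RuB Cfsg.Agent.Ru8 Cfsg.Agent.Ru8.Core8 Cfsg.Agent.Ru8.Count8
open Cfsg.Agent.RuB.QSyl (dvd_of_stab exists_conj_of_card card_le_ker iff_of_imp pgroup_sup)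
open Cfsg.Agent.RuB.Count (card_J)

variable {G : Type*} [Group G] {C : Core8 G}

/-- parametrisation of `T` -/
noncomputable def eT (C : Core8 G) : K8 × K8 × K8 ≃ C.TT :=
  Equiv.ofBijective (fun p => ⟨C.v p.1 * C.U p.2.1 p.2.2, mem_TT_of⟩) (by
    constructor
    · rintro ⟨b, a, e⟩ ⟨b', a', e'⟩ h
      have h1 := T_inj (congrArg Subtype.val h)
      obtain ⟨h2, h3, h4⟩ := h1
      simp only at h2 h3 h4
      rw [h2, h3, h4]
    · rintro ⟨x, hx⟩
      obtain ⟨b, a, e, h⟩ := TT_eq hx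
      exact ⟨(b, a, e), Subtype.ext h.symm⟩)

theorem card_TT (C : Core8 G) : Nat.card C.TT = 512 := by
  have h : Nat.card (K8 × K8 × K8) = Nat.card K8 * (Nat.card K8 * Nat.card K8) := by
    rw [← Nat.card_prod K8 K8]
    exact Nat.card_prod K8 (K8 × K8)
  rw [← Nat.card_congr (eT C), h, K8.natCard]

/-- `Q` is parametrised by `T` and `K8` -/
noncomputable def eQ (C : Core8 G) : K8 × C.TT ≃ C.QQ :=
  Equiv.ofBijective (fun p => ⟨(C.exists_act p.1).choose * p.2, mul_mem ⟨_, (C.exists_act p.1).choose_spec⟩ (TT_le p.2.2)⟩) (by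
    constructor
    · rintro ⟨c, t⟩ ⟨c', t'⟩ h
      have h1 : (C.exists_act c).choose * (t : G) = (C.exists_act c').choose * t' := congrArg Subtype.val h
      have h2 := Act.mul (C.exists_act c).choose_spec t.2
      have h3 := Act.mul (C.exists_act c').choose_spec t'.2
      rw [h1] at h2
      have h4 := h2.unique h3
      rw [add_zero, add_zero] at h4
      subst h4
      have h5 := mul_left_cancel h1
      rw [Subtype.ext h5]
    · rintro ⟨x, c, hx⟩
      refine ⟨(c, ⟨(C.exists_act c).choose⁻¹ * x, ?_⟩), ?_⟩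
      · have := Act.mul (C.exists_act c).choose_spec.inv hx
        rw [K8.add_self] at this
        exact this
      · apply Subtype.ext
        show (C.exists_act c).choose * ((C.exists_act c).choose⁻¹ * x) = x
        group)

theorem card_QQ (C : Core8 G) : Nat.card C.QQ = 4096 := by
  rw [← Nat.card_congr (eQ C), Nat.card_prod, card_TT, K8.natCard]

theorem pgroup_TT (C : Core8 G) : IsPGroup 2 C.TT := by
  refine IsPGroup.of_card (n := 9) ?_
  rw [card_TT]; norm_num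

theorem pgroup_QQ (C : Core8 G) : IsPGroup 2 C.QQ := by
  refine IsPGroup.of_card (n := 12) ?_
  rw [card_QQ]; norm_num

/-- `V × L` -/
def VL (C : Core8 G) : Subgroup G where
  carrier := {x | ∃ b, ∃ l ∈ C.L, x = C.v b * l}
  mul_mem' := by
    rintro x y ⟨b, l, hl, rfl⟩ ⟨b', l', hl', rfl⟩
    refine ⟨b + b', l * l', mul_mem hl hl', ?_⟩
    rw [C.v_add]
    have := C.v_comm b' l hl
    calc C.v b * l * (C.v b' * l') = C.v b * (l * C.v b') * l' := by group
      _ = _ := by rw [← this]; group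
  one_mem' := ⟨0, 1, one_mem _, by rw [C.v_zero, one_mul]⟩
  inv_mem' := by
    rintro x ⟨b, l, hl, rfl⟩
    refine ⟨b, l⁻¹, inv_mem hl, ?_⟩
    rw [mul_inv_rev, C.v_inv, ← C.v_comm b l⁻¹ (inv_mem hl)]

theorem card_VL (C : Core8 G) : Nat.card (VL C) = 512 * 455 := by
  let f : K8 × C.L → VL C := fun p => ⟨C.v p.1 * p.2, p.1, p.2, p.2.2, rfl⟩
  have hf : Function.Bijective f := by
    constructor
    · rintro ⟨a, l⟩ ⟨a', l'⟩ h
      have h1 := C.vl_inj l.2 l'.2 (congrArg Subtype.val h)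
      exact Prod.ext h1.1 (Subtype.ext h1.2)
    · rintro ⟨x, b, l, hl, rfl⟩
      exact ⟨(b, ⟨l, hl⟩), rfl⟩
  rw [← Nat.card_congr (Equiv.ofBijective f hf), Nat.card_prod, K8.natCard, card_L]

/-- 2-subgroups of the centraliser of a conjugate of `v b` have order dividing `512` -/
theorem card_le_of_comm [Finite G] {P : Subgroup G} (hP : IsPGroup 2 P) {b : K8} (hb : b ≠ 0) (g : G)
    (h : ∀ x ∈ P, x * (g * C.v b * g⁻¹) = g * C.v b * g⁻¹ * x) : Nat.card P ∣ 512 := by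
  let P' : Subgroup G := P.map (MulAut.conj g⁻¹).toMonoidHom
  have hc : Nat.card P' = Nat.card P := Nat.card_congr (P.equivMapOfInjective _ (MulAut.conj g⁻¹).injective).symm.toEquiv
  have h1 : P' ≤ VL C := by
    rintro _ ⟨x, hx, rfl⟩
    obtain ⟨n, hn⟩ := hP ⟨x, hx⟩
    have hn' : x ^ 2 ^ n = 1 := congrArg Subtype.val hn
    have h2 : (g⁻¹ * x * g⁻¹⁻¹) ^ 2 ^ n = 1 := by
      rw [conj_pow, hn']; group
    have h3 : g⁻¹ * x * g⁻¹⁻¹ * C.v b = C.v b * (g⁻¹ * x * g⁻¹⁻¹) := by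
      have h4 := h x hx
      calc g⁻¹ * x * g⁻¹⁻¹ * C.v b = g⁻¹ * (x * (g * C.v b * g⁻¹)) * g := by group
        _ = _ := by rw [h4]; group
    exact cent_two hb h2 h3
  have h2 := Subgroup.card_dvd_of_le h1
  rw [hc, card_VL] at h2
  obtain ⟨n, hn⟩ := hP.exists_card_eq
  rw [hn] at h2 ⊢
  have h3 : Nat.Coprime (2 ^ n) 455 := Nat.Coprime.pow_left n (by decide)
  exact h3.dvd_of_dvd_mul_right h2

/-- no conjugate of a non-trivial element of `Z` is a `v b` -/
theorem z_ne_conj [Finite G] {e : K8} {b : K8} (hb : b ≠ 0) (g : G) : g * C.z e * g⁻¹ ≠ C.v b := by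
  intro h
  have h1 := card_le_of_comm (C := C) (pgroup_QQ C) hb g⁻¹ (fun x hx => by
      have : g⁻¹ * C.v b * g⁻¹⁻¹ = C.z e := by rw [← h]; group
      rw [this]
      exact zcomm hx e)
  rw [card_QQ] at h1
  revert h1
  norm_num

/-- no conjugate of an element of `Z` lies in `V` -/
theorem noV [Finite G] : NoV C := by
  intro g b h
  by_cases hb : b = 0
  · subst hb
    rw [C.v_zero] at h
    have h1 : C.z 1 = 1 := by
      calc C.z 1 = g⁻¹ * (g * C.z 1 * g⁻¹) * g := by group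
        _ = 1 := by rw [h]; group
    exact absurd (C.z_eq_one h1) one_ne_zero
  · exact z_ne_conj hb g h

/-- involutions of `T` -/
theorem inv_T {x : G} (hx : x ∈ C.TT) (h : x * x = 1) : ∃ b e, x = C.v b * C.z e := by
  obtain ⟨b, a, e, rfl⟩ := TT_eq hx
  rw [T_sq] at h
  have h5 := pow5_eq_zero _ (C.z_eq_one h)
  subst h5
  exact ⟨b, e, by rw [C.z_eq]⟩

/-- `v b z e` (`b ≠ 0`) is a conjugate of `v b` by an element of `Q` -/
theorem exists_conj_v {b : K8} (hb : b ≠ 0) (e : K8) : ∃ x c, C.Act x c ∧ c * b = e ∧ x * C.v b * x⁻¹ = C.v b * C.z e := by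
  obtain ⟨x, hx⟩ := C.exists_act (e * b⁻¹)
  have h : e * b⁻¹ * b = e := inv_mul_cancel_right₀ hb e
  exact ⟨x, e * b⁻¹, hx, h, by rw [hx.2, h]⟩

/-- `E - Z` -/
def EZ (C : Core8 G) : Set G := {x | ∃ b e, b ≠ 0 ∧ x = C.v b * C.z e}

/-- parametrisation of `E - Z` -/
noncomputable def eEZ (C : Core8 G) : {b : K8 // b ≠ 0} × K8 ≃ EZ C :=
  Equiv.ofBijective (fun p => ⟨C.v p.1 * C.z p.2, p.1, p.2, p.1.2, rfl⟩) (by
    constructor
    · rintro ⟨b, e⟩ ⟨b', e'⟩ h
      have h1 := C.vl_inj (C.z_mem _) (C.z_mem _) (congrArg Subtype.val h)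
      exact Prod.ext (Subtype.ext h1.1) (C.z_inj h1.2)
    · rintro ⟨x, b, e, hb, rfl⟩
      exact ⟨(⟨b, hb⟩, e), rfl⟩)

theorem card_EZ (C : Core8 G) : Nat.card (EZ C) = 56 := by
  rw [← Nat.card_congr (eEZ C), Nat.card_prod, K8.natCard]
  have : Nat.card {b : K8 // b ≠ 0} = 7 := by
    rw [Nat.card_eq_fintype_card]; decide +kernel
  rw [this]

/-- an involution of `T` outside `Z`-conjugates lies in `E - Z` -/
theorem mem_EZ_of_conj [Finite G] {x : G} (hx : x ∈ C.TT) {b : K8} (hb : b ≠ 0) {g : G} (h : g * C.v b * g⁻¹ = x) : x ∈ EZ C := by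
  have hxx : x * x = 1 := by
    rw [← h]
    calc g * C.v b * g⁻¹ * (g * C.v b * g⁻¹) = g * (C.v b * C.v b) * g⁻¹ := by group
      _ = 1 := by rw [C.v_sq]; group
  obtain ⟨b', e, h1⟩ := inv_T hx hxx
  refine ⟨b', e, ?_, h1⟩
  rintro rfl
  rw [C.v_zero, one_mul] at h1
  refine z_ne_conj (C := C) hb (e := e) g⁻¹ ?_
  rw [← h1, ← h]; group

theorem EZ_conj {x : G} (hx : x ∈ EZ C) : ∃ y ∈ C.QQ, ∃ b, b ≠ 0 ∧ y * C.v b * y⁻¹ = x := by
  obtain ⟨b, e, hb, rfl⟩ := hx
  obtain ⟨y, c, hy, -, h⟩ := exists_conj_v (C := C) hb e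
  exact ⟨y, ⟨c, hy⟩, b, hb, h⟩

theorem EZ_le {x : G} (hx : x ∈ EZ C) : x ∈ C.TT := by
  obtain ⟨b, e, hb, rfl⟩ := hx
  exact mul_mem (v_mem_TT b) (z_mem_TT e)

theorem T_comm_EZ {x t : G} (hx : x ∈ EZ C) (ht : t ∈ C.TT) : t * x = x * t := by
  obtain ⟨b, e, hb, rfl⟩ := hx
  have h1 := comm_v_of_mem_TT ht b
  have h2 := ht.1 e
  rw [← mul_assoc, h1, mul_assoc, h2, mul_assoc]

/-- normaliser of `T` -/
def NT (C : Core8 G) : Subgroup G where
  carrier := {g | ∀ x, x ∈ C.TT ↔ g * x * g⁻¹ ∈ C.TT}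
  mul_mem' := fun {a b} ha hb x => by
    rw [hb x, ha (b * x * b⁻¹)]
    have : a * (b * x * b⁻¹) * a⁻¹ = a * b * x * (a * b)⁻¹ := by group
    rw [this]
  one_mem' := fun x => by
    have : (1 : G) * x * 1⁻¹ = x := by group
    rw [this]
  inv_mem' := fun {a} ha x => by
    rw [ha (a⁻¹ * x * a⁻¹⁻¹)]
    have : a * (a⁻¹ * x * a⁻¹⁻¹) * a⁻¹ = x := by group
    rw [this]

theorem mem_NT {g : G} : g ∈ NT C ↔ ∀ x, x ∈ C.TT ↔ g * x * g⁻¹ ∈ C.TT := Iff.rfl

theorem QQ_le_NT : C.QQ ≤ NT C := by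
  intro x hx y
  constructor
  · exact conj_T hx
  · intro h1
    have := conj_T (inv_mem hx) h1
    have h2 : x⁻¹ * (x * y * x⁻¹) * x⁻¹⁻¹ = y := by group
    rwa [h2] at this

variable [Finite G]

/-- `Q` is a maximal 2-subgroup of `N(T)` -/
theorem eq_QQ {P : Subgroup G} (hP : IsPGroup 2 P) (hQ : C.QQ ≤ P) (hT : P ≤ NT C) : P = C.QQ := by
  classical
  let _ : MulAction P (EZ C) :=
    { smul := fun g x => ⟨g * x * (g : G)⁻¹, by
        obtain ⟨y, hy, b, hb, h⟩ := EZ_conj x.2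
        refine mem_EZ_of_conj (g := g * y) ((hT g.2 _).1 (EZ_le x.2)) hb ?_
        rw [← h]; group⟩
      one_smul := fun x => Subtype.ext (by
        show (1 : G) * x * (1 : G)⁻¹ = x
        group)
      mul_smul := fun a b x => Subtype.ext (by
        show ((a * b : P) : G) * x * ((a * b : P) : G)⁻¹ = a * (b * x * (b : G)⁻¹) * (a : G)⁻¹
        rw [Subgroup.coe_mul]; group) }
  have hsmul : ∀ (g : P) (x : EZ C), ((g • x : EZ C) : G) = g * x * (g : G)⁻¹ := fun g x => rfl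
  have hstab : ∀ x : EZ C, Nat.card (MulAction.stabilizer P x) = 512 := by
    intro x
    obtain ⟨y, hy, b, hb, h⟩ := EZ_conj x.2
    have hd : Nat.card (MulAction.stabilizer P x) ∣ 512 := by
      have h1 : Nat.card ((MulAction.stabilizer P x).map P.subtype) = Nat.card (MulAction.stabilizer P x) :=
        Nat.card_congr ((MulAction.stabilizer P x).equivMapOfInjective P.subtype P.subtype_injective).symm.toEquiv
      rw [← h1]
      refine card_le_of_comm (C := C) ?_ hb y ?_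
      · exact ((hP.to_subgroup (MulAction.stabilizer P x)).map P.subtype)
      · rintro u ⟨u', hu', rfl⟩
        have h2 := congrArg Subtype.val (MulAction.mem_stabilizer_iff.1 hu')
        rw [hsmul] at h2
        rw [h]
        exact mul_inv_eq_iff_eq_mul.1 h2
    have hle : 512 ≤ Nat.card (MulAction.stabilizer P x) := by
      rw [← card_TT C]
      let f : C.TT → MulAction.stabilizer P x := fun t => ⟨⟨t, hQ (TT_le t.2)⟩, by
        rw [MulAction.mem_stabilizer_iff]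
        apply Subtype.ext
        rw [hsmul]
        exact mul_inv_eq_iff_eq_mul.2 (T_comm_EZ x.2 t.2)⟩
      refine Nat.card_le_card_of_injective f ?_
      intro a b hab
      exact Subtype.ext (congrArg (fun w : MulAction.stabilizer P x => ((w : P) : G)) hab)
    exact le_antisymm (Nat.le_of_dvd (by norm_num) hd) hle
  obtain ⟨n, hn⟩ := hP.exists_card_eq
  have h2 : 4096 ∣ Nat.card P := by
    rw [← card_QQ C]; exact Subgroup.card_dvd_of_le hQ
  obtain ⟨k, hk⟩ := h2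
  have h3 : 8 * k ∣ Nat.card (EZ C) := dvd_of_stab (P := P) (X := EZ C) (s := 512) (m := 8 * k) (by norm_num)
    (by rw [hk]; ring) hstab
  rw [card_EZ] at h3
  have hk3 : k ∣ 7 := by
    have : 8 * k ∣ 8 * 7 := by simpa using h3
    exact Nat.dvd_of_mul_dvd_mul_left (by norm_num) this
  have hk1 : k = 1 := by
    rcases (Nat.dvd_prime (by norm_num : Nat.Prime 7)).1 hk3 with h | h
    · exact h
    · exfalso
      subst h
      rw [hn] at hk
      have h4 : 7 ∣ 2 ^ n := ⟨4096, by rw [hk]⟩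
      have := ((by norm_num : Nat.Prime 7).dvd_of_dvd_pow h4)
      revert this; norm_num
  subst hk1
  refine (Subgroup.eq_of_le_of_card_ge hQ ?_).symm
  rw [hk, card_QQ]

omit [Finite G] in
/-- `N(Q) ≤ N(T)` in the bad case -/
theorem norm_of_bad (hbad : ∀ x ∈ C.QQ, x ∉ C.TT → ∀ b e, x * x ≠ C.v b * C.z e) {g : G}
    (hg : ∀ x, x ∈ C.QQ ↔ g * x * g⁻¹ ∈ C.QQ) : g ∈ NT C := by
  have hinv : ∀ x ∈ C.QQ, x * x = 1 → x ∈ C.TT := by
    intro x hx h
    by_contra hxT
    exact hbad x hx hxT 0 0 (by rw [h, C.v_zero, C.z_zero, mul_one])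
  have h1 : g * C.v 1 * g⁻¹ ∈ C.QQ := (hg _).1 (TT_le (v_mem_TT _))
  have h2 : (g * C.v 1 * g⁻¹) * (g * C.v 1 * g⁻¹) = 1 := by
    calc g * C.v 1 * g⁻¹ * (g * C.v 1 * g⁻¹) = g * (C.v 1 * C.v 1) * g⁻¹ := by group
      _ = 1 := by rw [C.v_sq]; group
  obtain ⟨b, e, h3⟩ := inv_T (hinv _ h1 h2) h2
  intro x
  exact norm_TT_of hg h3 x

section

variable (hN : ∀ g : G, (∀ x, x ∈ C.QQ ↔ g * x * g⁻¹ ∈ C.QQ) → g ∈ NT C)

include hN

/-- `Q` is a maximal 2-subgroup -/
theorem eq_QQ_of_le {P : Subgroup G} (hP : IsPGroup 2 P) (hQ : C.QQ ≤ P) : P = C.QQ := by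
  have : Fact (Nat.Prime 2) := ⟨Nat.prime_two⟩
  have hnil : Group.IsNilpotent P := hP.isNilpotent
  have hnc : NormalizerCondition P := Group.normalizerCondition_of_isNilpotent
  rw [normalizerCondition_iff_only_full_group_self_normalizing] at hnc
  have h1 : C.QQ.subgroupOf P = ⊤ := by
    apply hnc
    apply le_antisymm _ Subgroup.le_normalizer
    -- the normaliser in `P`
    let N : Subgroup G := P ⊓ Subgroup.normalizer (C.QQ : Set G)
    have hNN : N = C.QQ := by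
      refine eq_QQ (hP.to_le inf_le_left) (le_inf hQ Subgroup.le_normalizer) (fun g hg => ?_)
      refine hN g (fun x => ?_)
      exact Subgroup.mem_normalizer_iff.1 hg.2 x
    intro g hg
    rw [Subgroup.mem_subgroupOf]
    rw [← hNN]
    refine ⟨g.2, ?_⟩
    show (g : G) ∈ Subgroup.normalizer (C.QQ : Set G)
    rw [Subgroup.mem_normalizer_iff] at hg ⊢
    intro x
    by_cases hxP : x ∈ P
    · have h2 := hg ⟨x, hxP⟩
      rw [Subgroup.mem_subgroupOf, Subgroup.mem_subgroupOf] at h2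
      simpa using h2
    · constructor
      · intro hx; exact absurd (hQ hx) hxP
      · intro hx
        have h3 := hQ hx
        have h4 : x = (g : G)⁻¹ * (g * x * (g : G)⁻¹) * g := by group
        exact absurd (by rw [h4]; exact mul_mem (mul_mem (inv_mem g.2) h3) g.2) hxP
  refine le_antisymm ?_ hQ
  exact Subgroup.subgroupOf_eq_top.1 h1

/-- `Q` as a Sylow subgroup -/
def QS : Sylow 2 G where
  toSubgroup := C.QQ
  isPGroup' := pgroup_QQ C
  is_maximal' := fun {_} hP hQ => eq_QQ_of_le hN hP hQ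

theorem factorization_card : (Nat.card G).factorization 2 = 12 := by
  have : Fact (Nat.Prime 2) := ⟨Nat.prime_two⟩
  have h1 := (QS hN).card_eq_multiplicity
  have h2 : Nat.card (QS hN) = 4096 := card_QQ C
  rw [h2] at h1
  have h3 : 2 ^ 12 = 2 ^ (Nat.card G).factorization 2 := by rw [← h1]; norm_num
  exact (Nat.pow_right_injective le_rfl h3).symm

theorem exists_conj_QQ {P : Subgroup G} (hP : IsPGroup 2 P) : ∃ h : G, ∀ x ∈ P, h⁻¹ * x * h ∈ C.QQ := by
  have : Fact (Nat.Prime 2) := ⟨Nat.prime_two⟩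
  obtain ⟨S, hS⟩ := hP.exists_le_sylow
  obtain ⟨g, hg⟩ := MulAction.exists_smul_eq G (QS hN) S
  refine ⟨g, fun x hx => ?_⟩
  have h1 : x ∈ S := hS hx
  rw [← hg] at h1
  have h2 : x ∈ ((g • (QS hN) : Sylow 2 G) : Subgroup G) := h1
  rw [Sylow.coe_subgroup_smul, Subgroup.mem_pointwise_smul_iff_inv_smul_mem] at h2
  have h3 : (MulAut.conj g)⁻¹ • x ∈ C.QQ := h2
  rw [← map_inv, MulAut.smul_def, MulAut.conj_apply, inv_inv] at h3
  exact h3

end

end Cfsg.Agent.Ru8.BadA
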