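import Cfsg.Agent.Ru8.BadA

/-!
# `|R| = 8`, bad case, part B: `z^G ∩ C(z) = Z#`, `C(Z) = Q` (port of helper125's QSylC-F; helper143)
-/

set_option autoImplicit false

namespace Cfsg.Agent.Ru8.BadB

open Subgroup
open Cfsg.Agent.ThreePrime Cfsg.Agent.RuB Cfsg.Agent.Ru8 Cfsg.Agent.Ru8.Core8 Cfsg.Agent.Ru8.Count8 Cfsg.Agent.Ru8.BadA
open Cfsg.Agent.RuB.QSyl (dvd_of_stab exists_conj_of_card card_le_ker iff_of_imp pgroup_sup refl_pow inverts
  eq_bot_of_four)
open Cfsg.Agent.RuB.Count (card_J comm_of_mem comm_of_mem' unique_inv conj_pow_dih)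

variable {G : Type*} [Group G] {C : Core8 G} [Finite G]

/-- the bad case -/
def Bad (C : Core8 G) : Prop := ∀ x ∈ C.QQ, x ∉ C.TT → ∀ b e, x * x ≠ C.v b * C.z e

omit [Finite G] in
theorem Bad.mem_TT (hbad : Bad C) {x : G} (hx : x ∈ C.QQ) (h : x * x = 1) : x ∈ C.TT := by
  by_contra hxT
  exact hbad x hx hxT 0 0 (by rw [h, C.v_zero, C.z_zero, mul_one])

omit [Finite G] in
theorem Bad.norm (hbad : Bad C) : ∀ g : G, (∀ x, x ∈ C.QQ ↔ g * x * g⁻¹ ∈ C.QQ) → g ∈ NT C :=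
  fun _ hg => norm_of_bad hbad hg

omit [Finite G] in
theorem conj_sq {g : G} {b : K8} : g * C.v b * g⁻¹ * (g * C.v b * g⁻¹) = 1 := by
  calc g * C.v b * g⁻¹ * (g * C.v b * g⁻¹) = g * (C.v b * C.v b) * g⁻¹ := by group
    _ = 1 := by rw [C.v_sq]; group

/-- `D ∩ Q = E - Z` -/
theorem mem_EZ (hbad : Bad C) {x : G} (hx : x ∈ C.QQ) {b : K8} (hb : b ≠ 0) {g : G} (h : g * C.v b * g⁻¹ = x) :
    x ∈ EZ C :=
  mem_EZ_of_conj (hbad.mem_TT hx (by rw [← h]; exact conj_sq)) hb h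

/-- the non-trivial elements of `Z` are conjugate -/
theorem zc_z {e : K8} (he : e ≠ 0) : ZC C (C.z e) := by
  have h : InvL C (C.z e) := ⟨C.z_mem e, C.z_sq e, fun h => he (C.z_eq_one h)⟩
  exact h.zc

theorem not_zc_EZ {x : G} (hx : x ∈ EZ C) : ¬ ZC C x := by
  rintro ⟨g, hg⟩
  obtain ⟨y, hy, b, hb, h⟩ := EZ_conj hx
  refine z_ne_conj (C := C) hb (e := 1) (y⁻¹ * g) ?_
  have h1 : y⁻¹ * g * C.z 1 * (y⁻¹ * g)⁻¹ = y⁻¹ * (g * C.z 1 * g⁻¹) * y := by group
  rw [h1, hg, ← h]; group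

theorem mem_Z (hbad : Bad C) {x : G} (hx : x ∈ C.QQ) (hz : ZC C x) : ∃ e, x = C.z e := by
  obtain ⟨b, e, h1⟩ := inv_T (hbad.mem_TT hx hz.sq) hz.sq
  by_cases hb : b = 0
  · subst hb
    exact ⟨e, by rw [h1, C.v_zero, one_mul]⟩
  · exact absurd hz (not_zc_EZ ⟨b, e, hb, h1⟩)

/-- `γ = 0` -/
theorem gamma_zero (hbad : Bad C) {a : K8} (ha : a ≠ 0) {y x : G} (hy : ZC C y) (hx : ZC C x) :
    x ∉ zpowers (y * C.v a) := by
  intro hxr
  have hyy := hy.sq
  have hvv := C.v_sq a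
  set v := C.v a with hv
  set r := y * v with hr
  obtain ⟨k, m, hm, hkm⟩ := Nat.exists_eq_two_pow_mul_odd (n := orderOf r) (orderOf_pos r).ne'
  obtain ⟨j, hj⟩ := hm
  -- `y' = r^m v` is conjugate to `y`
  have hy' : ZC C (r ^ m * v) := by
    rw [hj, hr, refl_pow hyy hvv j]
    exact hy.conj _
  have hord : orderOf (r ^ m) = 2 ^ k := by
    rw [orderOf_pow_of_dvd (by omega) (Dvd.intro_left _ hkm.symm), hkm, Nat.mul_div_cancel _ (by omega)]
  have hRp : IsPGroup 2 (zpowers (r ^ m)) := by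
    refine IsPGroup.of_card (n := k) ?_
    rw [Nat.card_zpowers, hord]
  have hVp : IsPGroup 2 (zpowers v) := by
    have h1 : orderOf v ∣ 2 := orderOf_dvd_of_pow_eq_one (by rw [pow_two, hvv])
    rcases (Nat.dvd_prime Nat.prime_two).1 h1 with h2 | h2
    · refine IsPGroup.of_card (n := 0) ?_
      rw [Nat.card_zpowers, h2, pow_zero]
    · refine IsPGroup.of_card (n := 1) ?_
      rw [Nat.card_zpowers, h2, pow_one]
  have iv : v⁻¹ = v := inv_eq_of_mul_eq_one_left hvv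
  have hinv : v * r * v⁻¹ = r⁻¹ := by
    rw [iv, hr, mul_inv_rev, iv, inv_eq_of_mul_eq_one_left hyy, mul_assoc, mul_assoc y, hvv, mul_one]
  have hPp : IsPGroup 2 (zpowers v ⊔ zpowers (r ^ m) : Subgroup G) := by
    refine pgroup_sup hVp hRp (fun g hg => iff_of_imp (fun x hx => ?_))
    have h1 : ∀ x ∈ zpowers (r ^ m), v * x * v⁻¹ ∈ zpowers (r ^ m) := by
      intro x hx
      obtain ⟨n, rfl⟩ := mem_zpowers_iff.1 hx
      have h2 : v * (r ^ m) ^ n * v⁻¹ = ((r ^ m) ^ n)⁻¹ := by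
        have h3 : v * (r ^ m) ^ n * v⁻¹ = (((v * r * v⁻¹)) ^ m) ^ n := by
          rw [conj_pow, conj_zpow]
        rw [h3, hinv, inv_pow, inv_zpow]
      rw [h2]
      exact inv_mem (zpow_mem (mem_zpowers _) _)
    have h4 : ∀ n : ℤ, ∀ x ∈ zpowers (r ^ m), v ^ n * x * (v ^ n)⁻¹ ∈ zpowers (r ^ m) := by
      intro n
      rcases Int.even_or_odd' n with ⟨t, ht | ht⟩
      · intro x hx
        have : v ^ n = 1 := by rw [ht, zpow_mul]; norm_cast; rw [pow_two, hvv, one_zpow]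
        rw [this]; simpa using hx
      · intro x hx
        have : v ^ n = v := by
          rw [ht, zpow_add, zpow_mul]; norm_cast; rw [pow_two, hvv, one_zpow, one_mul, pow_one]
        rw [this]; exact h1 x hx
    obtain ⟨n, rfl⟩ := mem_zpowers_iff.1 hg
    exact h4 n x hx
  obtain ⟨h, hh⟩ := exists_conj_QQ hbad.norm hPp
  have h1 := hh v (le_sup_left (a := zpowers v) (mem_zpowers v))
  have h2 := hh (r ^ m * v) (mul_mem (le_sup_right (a := zpowers v) (mem_zpowers _)) (le_sup_left (a := zpowers v) (mem_zpowers v)))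
  obtain ⟨b, e, hb, h3⟩ := mem_EZ hbad h1 ha (g := h⁻¹) (by rw [inv_inv, hv])
  obtain ⟨f, h4⟩ := mem_Z hbad h2 (by
    have := hy'.conj h⁻¹
    rwa [inv_inv] at this)
  -- `r ^ m`
  have h5 : h⁻¹ * r ^ m * h = C.v b * C.z (e + f) := by
    have h6 : h⁻¹ * r ^ m * h = (h⁻¹ * (r ^ m * v) * h) * (h⁻¹ * v * h) := by
      have : (h⁻¹ * (r ^ m * v) * h) * (h⁻¹ * v * h) = h⁻¹ * (r ^ m * (v * v)) * h := by group
      rw [this, hvv, mul_one]
    rw [h6, h3, h4, ← mul_assoc, ← C.v_z_comm, mul_assoc, ← C.z_add, add_comm]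
  have h6 : h⁻¹ * r ^ m * h ∈ EZ C := ⟨b, e + f, hb, h5⟩
  have h7 : r ^ m * r ^ m = 1 := by
    have h8 : (h⁻¹ * r ^ m * h) * (h⁻¹ * r ^ m * h) = 1 := by
      rw [h5]
      calc C.v b * C.z (e + f) * (C.v b * C.z (e + f)) = (C.v b * C.v b) * (C.z (e + f) * C.z (e + f)) := by
            have := C.v_z_comm b (e + f)
            calc C.v b * C.z (e + f) * (C.v b * C.z (e + f)) = C.v b * (C.z (e + f) * C.v b) * C.z (e + f) := by group
              _ = _ := by rw [← this]; group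
        _ = 1 := by rw [C.v_sq, C.z_sq, one_mul]
    calc r ^ m * r ^ m = h * ((h⁻¹ * r ^ m * h) * (h⁻¹ * r ^ m * h)) * h⁻¹ := by group
      _ = 1 := by rw [h8]; group
  have h8 : r ^ m ≠ 1 := by
    intro h9
    rw [h9] at h5
    have h10 : C.v b * C.z (e + f) = 1 := by rw [← h5]; group
    have h11 := C.vl_inj (C.z_mem _) (one_mem _) (b := 0) (l := C.z (e + f)) (m := 1) (a := b) (by rw [h10, C.v_zero, one_mul])
    exact hb h11.1
  have h9 : x = r ^ m := unique_inv hxr (pow_mem (mem_zpowers r) m) hx.sq h7 hx.ne_one h8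
  refine not_zc_EZ h6 ?_
  rw [← h9]
  have := hx.conj h⁻¹
  rwa [inv_inv] at this

omit [Finite G] in
theorem mem_TT_of_two {x : G} {n : ℕ} (hn : x ^ 2 ^ n = 1) {b : K8} (hb : b ≠ 0) (h : x * C.v b = C.v b * x)
    (hz : x * C.z 1 = C.z 1 * x) : x ∈ C.TT := by
  obtain ⟨b', l, hl, h1⟩ := cent_two hb hn h
  have h2 : l * C.z 1 = C.z 1 * l := by
    have h3 := C.v_comm b' (C.z 1) (C.z_mem 1)
    have h4 : l = (C.v b')⁻¹ * x := by rw [h1]; group
    have h5 : (C.v b')⁻¹ * C.z 1 = C.z 1 * (C.v b')⁻¹ := by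
      rw [inv_mul_eq_iff_eq_mul, ← mul_assoc, h3, mul_inv_cancel_right]
    rw [h4]
    calc (C.v b')⁻¹ * x * C.z 1 = (C.v b')⁻¹ * (x * C.z 1) := by group
      _ = ((C.v b')⁻¹ * C.z 1) * x := by rw [hz]; group
      _ = _ := by rw [h5]; group
  obtain ⟨a, e, h3⟩ := mem_T_of_comm hl h2
  rw [h1, h3]
  exact mem_TT_of

/-- `z^G ∩ C(z) ⊆ Z` -/
theorem zc_comm (hbad : Bad C) {y : G} (hy : ZC C y) (hc : y * C.z 1 = C.z 1 * y) : ∃ e, y = C.z e := by
  by_cases hy1 : y = C.z 1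
  · exact ⟨1, hy1⟩
  have e10 : (1 : K8) ≠ 0 := one_ne_zero
  have hz1 : ZC C (C.z 1) := ⟨1, by group⟩
  have hyy := hy.sq
  have hvv := C.v_sq 1
  -- `z y` is a conjugate of `z`
  have hzy : ZC C (C.z 1 * y) := by
    have hPp : IsPGroup 2 (zpowers (C.z 1) ⊔ zpowers y : Subgroup G) := by
      have hp : ∀ w : G, w * w = 1 → IsPGroup 2 (zpowers w) := by
        intro w hw
        have h1 : orderOf w ∣ 2 := orderOf_dvd_of_pow_eq_one (by rw [pow_two, hw])
        rcases (Nat.dvd_prime Nat.prime_two).1 h1 with h2 | h2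
        · refine IsPGroup.of_card (n := 0) ?_
          rw [Nat.card_zpowers, h2, pow_zero]
        · refine IsPGroup.of_card (n := 1) ?_
          rw [Nat.card_zpowers, h2, pow_one]
      refine pgroup_sup (hp _ (C.z_sq 1)) (hp _ hyy) (fun g hg => iff_of_imp (fun x hx => ?_))
      obtain ⟨n, rfl⟩ := mem_zpowers_iff.1 hg
      obtain ⟨l, rfl⟩ := mem_zpowers_iff.1 hx
      have h1 : Commute (C.z 1) y := hc.symm
      have h2 : Commute (C.z 1 ^ n) (y ^ l) := (h1.zpow_left n).zpow_right l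
      rw [h2.eq, mul_inv_cancel_right]
      exact hx
    obtain ⟨h, hh⟩ := exists_conj_QQ hbad.norm hPp
    have h1 := hh (C.z 1) (le_sup_left (a := zpowers (C.z 1)) (mem_zpowers _))
    have h2 := hh y (le_sup_right (a := zpowers (C.z 1)) (mem_zpowers _))
    obtain ⟨e, he⟩ := mem_Z hbad h1 (by have := hz1.conj h⁻¹; rwa [inv_inv] at this)
    obtain ⟨f, hf⟩ := mem_Z hbad h2 (by have := hy.conj h⁻¹; rwa [inv_inv] at this)
    have h3 : h⁻¹ * (C.z 1 * y) * h = C.z (e + f) := by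
      rw [C.z_add, ← he, ← hf]; group
    have h4 : e + f ≠ 0 := by
      intro h5
      rw [h5, C.z_zero] at h3
      have h6 : C.z 1 * y = 1 := by
        calc C.z 1 * y = h * (h⁻¹ * (C.z 1 * y) * h) * h⁻¹ := by group
          _ = 1 := by rw [h3]; group
      apply hy1
      rw [← C.z_inv 1]
      exact (inv_eq_of_mul_eq_one_right h6).symm
    have h5 := (zc_z (C := C) h4).conj h
    rw [← h3] at h5
    have h6 : h * (h⁻¹ * (C.z 1 * y) * h) * h⁻¹ = C.z 1 * y := by group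
    rwa [h6] at h5
  set v := C.v 1 with hv
  set r := y * v with hr
  have hzr : Commute (C.z 1) r := by
    show C.z 1 * r = r * C.z 1
    rw [hr, ← mul_assoc, ← hc, mul_assoc, ← C.v_z_comm, mul_assoc]
  rcases Nat.even_or_odd (orderOf r) with he | ho
  · -- even order
    obtain ⟨n, hn⟩ := he
    have hn0 : 0 < n := by have := orderOf_pos r; omega
    set i := r ^ n with hi
    have hii : i * i = 1 := by rw [hi, ← pow_add, ← hn, pow_orderOf_eq_one]
    have hi1 : i ≠ 1 := by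
      intro h1
      have h2 := orderOf_dvd_of_pow_eq_one h1
      rw [hn] at h2
      have := Nat.le_of_dvd hn0 h2
      omega
    have hir : i ∈ zpowers r := pow_mem (mem_zpowers r) n
    have hiv : v * i = i * v := comm_of_mem' hyy hvv hir hii
    have hiy : y * i = i * y := comm_of_mem hyy hvv hir hii
    have hiz : i * C.z 1 = C.z 1 * i := (hzr.pow_right n).eq.symm
    have hiT : i ∈ C.TT := mem_TT_of_two (n := 1) (by rw [pow_one, pow_two, hii]) e10 hiv.symm hiz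
    obtain ⟨b, e, h2⟩ := inv_T hiT hii
    have hb : b ≠ 0 := by
      rintro rfl
      rw [C.v_zero, one_mul] at h2
      have he0 : e ≠ 0 := by
        rintro rfl
        exact hi1 (by rw [h2, C.z_zero])
      have h3 : ZC C i := by rw [h2]; exact zc_z he0
      exact gamma_zero hbad e10 hy h3 hir
    obtain ⟨q, hq, b', hb', h3⟩ := EZ_conj (⟨b, e, hb, h2⟩ : i ∈ EZ C)
    have h4 : q⁻¹ * y * q * C.v b' = C.v b' * (q⁻¹ * y * q) := by
      have h5 := hiy
      rw [← h3] at h5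
      calc q⁻¹ * y * q * C.v b' = q⁻¹ * (y * (q * C.v b' * q⁻¹)) * q := by group
        _ = _ := by rw [h5]; group
    have h5 : q⁻¹ * y * q * C.z 1 = C.z 1 * (q⁻¹ * y * q) := by
      have h6 := zcomm hq 1
      have h7 := zcomm (inv_mem hq) 1
      calc q⁻¹ * y * q * C.z 1 = q⁻¹ * (y * (q * C.z 1)) := by group
        _ = q⁻¹ * (y * C.z 1) * q := by rw [h6]; group
        _ = (q⁻¹ * C.z 1) * y * q := by rw [hc]; group
        _ = _ := by rw [h7]; group
    have h6 : q⁻¹ * y * q ∈ C.TT := by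
      refine mem_TT_of_two (n := 1) ?_ hb' h4 h5
      rw [pow_one, pow_two]
      calc q⁻¹ * y * q * (q⁻¹ * y * q) = q⁻¹ * (y * y) * q := by group
        _ = 1 := by rw [hyy]; group
    have h8 : y ∈ C.QQ := by
      have h9 : y = q * (q⁻¹ * y * q) * q⁻¹ := by group
      rw [h9]
      exact mul_mem (mul_mem hq (TT_le h6)) (inv_mem hq)
    exact mem_Z hbad h8 hy
  · -- odd order
    exfalso
    refine gamma_zero hbad e10 hzy hz1 ?_
    rw [mem_zpowers_iff]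
    refine ⟨(orderOf r : ℤ), ?_⟩
    rw [zpow_natCast]
    have h1 : C.z 1 * y * C.v 1 = C.z 1 * r := by rw [hr, hv, mul_assoc]
    rw [h1, hzr.mul_pow, pow_orderOf_eq_one, mul_one]
    obtain ⟨k, hk⟩ := ho
    rw [hk, pow_succ, pow_mul, pow_two, C.z_sq, one_pow, one_mul]

/-- `C(z)` normalises `Z` -/
theorem cent_z_norm (hbad : Bad C) {g : G} (hg : g * C.z 1 = C.z 1 * g) (e : K8) : ∃ e', g * C.z e * g⁻¹ = C.z e' := by
  by_cases he : e = 0
  · exact ⟨0, by rw [he, C.z_zero]; group⟩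
  refine zc_comm hbad ((zc_z (C := C) he).conj g) ?_
  have h1 : g⁻¹ * C.z 1 * g = C.z 1 := by
    rw [mul_assoc, ← hg]; group
  calc g * C.z e * g⁻¹ * C.z 1 = g * (C.z e * (g⁻¹ * C.z 1 * g)) * g⁻¹ := by group
    _ = g * (C.z 1 * C.z e) * g⁻¹ := by rw [h1, C.z_comm]
    _ = g * C.z 1 * C.z e * g⁻¹ := by group
    _ = C.z 1 * (g * C.z e * g⁻¹) := by rw [hg]; group

/-! ### `N(T) ∩ C(Z) = Q` in the bad case -/

theorem fin_check : ∀ c0 k : K8, c0 ≠ 0 → k ≠ 0 →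
    (∀ y : K8, c0 * (y * k ^ 2) ^ 4 + c0 ^ 4 * (y * k ^ 2) = k ^ 3 * (c0 * y ^ 4 + c0 ^ 4 * y)) → k = 1 := by
  decide +kernel

end Cfsg.Agent.Ru8.BadB
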