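import Cfsg.Agent.Ru8.BadB

/-!
# `|R| = 8`, bad case, part C: `C(Z) = Q`, contradiction (helper143)
-/

set_option autoImplicit false

namespace Cfsg.Agent.Ru8.BadC

open Subgroup
open Cfsg.Agent.ThreePrime Cfsg.Agent.RuB Cfsg.Agent.Ru8 Cfsg.Agent.Ru8.Core8 Cfsg.Agent.Ru8.Count8 Cfsg.Agent.Ru8.BadA
open Cfsg.Agent.Ru8.BadB
open Cfsg.Agent.RuB.QSyl (dvd_of_stab exists_conj_of_card card_le_ker iff_of_imp pgroup_sup refl_pow inverts
  eq_bot_of_four)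

variable {G : Type*} [Group G] {C : Core8 G}

/-- the centraliser of `Z` -/
def WW (C : Core8 G) : Subgroup G where
  carrier := {g | ∀ e, g * C.z e = C.z e * g}
  mul_mem' := fun {a b} ha hb e => by
    rw [mul_assoc, hb, ← mul_assoc, ha, mul_assoc]
  one_mem' := fun e => by rw [one_mul, mul_one]
  inv_mem' := fun {a} ha e => by
    calc a⁻¹ * C.z e = a⁻¹ * (C.z e * a) * a⁻¹ := by group
      _ = C.z e * a⁻¹ := by rw [← ha]; group

theorem QQ_le_WW : C.QQ ≤ WW C := fun _ hx e => zcomm hx e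

theorem key' {w : G} (hw : C.Act w 1) : ∃ b0 c0 e0 : K8, w * w = C.v b0 * C.U c0 e0 ∧
    ∀ y e, ∃ f, w * C.U y e * w⁻¹ = C.v (c0 * y ^ 4 + c0 ^ 4 * y) * C.U y f := by
  obtain ⟨b0, c0, e0, h0, h1⟩ := key hw
  refine ⟨b0, c0, e0, h0, fun y e => ?_⟩
  obtain ⟨h, f, h2, rfl⟩ := h1 y
  refine ⟨f + e, ?_⟩
  have h3 : w * C.U y e * w⁻¹ = (w * C.U y 0 * w⁻¹) * (w * C.z e * w⁻¹) := by
    rw [C.U_eq y e]; group
  rw [h3, h2, hw.conj_z, mul_assoc, C.U_mul_z]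

theorem conj_form {g : G} (hg : g ∈ NT C) (hz : g ∈ WW C) (y e : K8) :
    ∃ m f, g * C.U y e * g⁻¹ = C.v m * C.U y f := by
  obtain ⟨b, a, f, h⟩ := TT_eq ((hg _).1 (U_mem_TT y e))
  have h1 : g * C.U y e * g⁻¹ * (g * C.U y e * g⁻¹) = g * (C.U y e * C.U y e) * g⁻¹ := by group
  rw [C.U_sq, hz, mul_inv_cancel_right, h, T_sq] at h1
  have h2 := pow5_inj _ _ (C.z_inj h1)
  subst h2
  exact ⟨b, f, h⟩

/-- conjugation of `U y e` by elements of `T` does not change the `V`-part -/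
theorem T_conj_U {t : G} (ht : t ∈ C.TT) (y e : K8) : ∃ f, t * C.U y e * t⁻¹ = C.U y f := by
  obtain ⟨b, a, e', rfl⟩ := TT_eq ht
  refine ⟨e + a * y ^ 4 + a ^ 4 * y, ?_⟩
  have h1 : C.v b * C.U a e' * C.U y e * (C.v b * C.U a e')⁻¹ =
      C.v b * (C.U a e' * C.U y e * (C.U a e')⁻¹) * (C.v b)⁻¹ := by group
  rw [h1, C.U_conj, C.v_U_comm, mul_inv_cancel_right]

variable [Finite G]

/-- `N(T) ∩ C(Z) = Q` in the bad case -/
theorem mem_QQ_of_norm (hbad : Bad C) {g : G} (hg : g ∈ NT C) (hz : g ∈ WW C) : g ∈ C.QQ := by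
  have hgz : ∀ e, g * C.z e * g⁻¹ = C.z e := fun e => by rw [hz, mul_inv_cancel_right]
  -- action on the v b
  have hα : ∀ b : K8, ∃ b' e', g * C.v b * g⁻¹ = C.v b' * C.z e' := by
    intro b
    exact inv_T ((hg _).1 (v_mem_TT b)) conj_sq
  choose α β hαβ using hα
  have hα0 : α 1 ≠ 0 := by
    intro h
    have h1 := hαβ 1
    rw [h, C.v_zero, one_mul] at h1
    refine z_ne_conj (C := C) (e := β 1) (one_ne_zero (α := K8)) g⁻¹ ?_
    rw [← h1]; group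
  set a1 := α 1 with ha1
  -- conjugation by elements of `WW`
  have hconj : ∀ x ∈ WW C, ∀ b e, x * (C.v b * C.z e) * x⁻¹ = (x * C.v b * x⁻¹) * C.z e := by
    intro x hx b e
    have := inv_mem hx e
    calc x * (C.v b * C.z e) * x⁻¹ = x * C.v b * (C.z e * x⁻¹) := by group
      _ = _ := by rw [← this]; group
  -- elements of Q
  have hw1 : ∀ w c, C.Act w c → (g * w * g⁻¹) * C.v a1 * (g * w * g⁻¹)⁻¹ = C.v a1 * C.z c := by
    intro w c hw
    have hW : g * w * g⁻¹ ∈ WW C := mul_mem (mul_mem hz (QQ_le_WW ⟨c, hw⟩)) (inv_mem hz)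
    have h2 : (g * w * g⁻¹) * (g * C.v 1 * g⁻¹) * (g * w * g⁻¹)⁻¹ = g * (w * C.v 1 * w⁻¹) * g⁻¹ := by group
    rw [hw.2, mul_one, hαβ 1, hconj _ hW, hconj _ hz, hαβ 1] at h2
    have h3 : g * w * g⁻¹ * C.v (α 1) * (g * w * g⁻¹)⁻¹ = C.v (α 1) * C.z (β 1) * C.z c * C.z (β 1) := by
      rw [← h2, mul_assoc _ (C.z _) (C.z _), C.z_sq, mul_one]
    rw [ha1, h3]
    calc C.v (α 1) * C.z (β 1) * C.z c * C.z (β 1) = C.v (α 1) * (C.z (β 1) * C.z c) * C.z (β 1) := by group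
      _ = C.v (α 1) * C.z c * (C.z (β 1) * C.z (β 1)) := by rw [C.z_comm]; group
      _ = _ := by rw [C.z_sq, mul_one]
  have hQ : ∀ w c, C.Act w c → C.Act (g * w * g⁻¹) (c * a1⁻¹) := by
    intro w c hw
    obtain ⟨w', hw'⟩ := C.exists_act (c * a1⁻¹)
    have hW : g * w * g⁻¹ ∈ WW C := mul_mem (mul_mem hz (QQ_le_WW ⟨c, hw⟩)) (inv_mem hz)
    have hW' : w'⁻¹ ∈ WW C := inv_mem (QQ_le_WW ⟨_, hw'⟩)
    have h4 := hw'.2 a1
    rw [inv_mul_cancel_right₀ hα0] at h4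
    have h5 : (w'⁻¹ * (g * w * g⁻¹)) * C.v a1 = C.v a1 * (w'⁻¹ * (g * w * g⁻¹)) := by
      have h6 := hw1 w c hw
      rw [← h4] at h6
      calc w'⁻¹ * (g * w * g⁻¹) * C.v a1 = w'⁻¹ * (g * w * g⁻¹ * C.v a1 * (g * w * g⁻¹)⁻¹) * (g * w * g⁻¹) := by group
        _ = _ := by rw [h6]; group
    obtain ⟨b, a, e, h6⟩ := eq_of_comm hα0 h5 (mul_mem hW' hW)
    have h7 : w'⁻¹ * (g * w * g⁻¹) ∈ C.TT := by rw [h6]; exact mem_TT_of
    have h8 : g * w * g⁻¹ = w' * (w'⁻¹ * (g * w * g⁻¹)) := by group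
    rw [h8, ← add_zero (c * a1⁻¹)]
    exact hw'.mul h7
  -- `α b = a1 * b`
  obtain ⟨w, hw⟩ := C.exists_act 1
  have hlin : ∀ b, α b = a1 * b := by
    intro b
    have h1 := (hQ w 1 hw)
    have h2 : (g * w * g⁻¹) * (g * C.v b * g⁻¹) * (g * w * g⁻¹)⁻¹ = g * (w * C.v b * w⁻¹) * g⁻¹ := by group
    rw [hw.2, one_mul, hαβ b, hconj _ (QQ_le_WW ⟨_, h1⟩), hconj _ hz, hαβ b, h1.2 (α b)] at h2
    have h3 : C.v (α b) * C.z (1 * a1⁻¹ * α b + β b) = C.v (α b) * C.z (β b + b) := by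
      rw [C.z_add, C.z_add, ← mul_assoc, ← mul_assoc]; exact h2
    have h4 := C.z_inj (mul_left_cancel h3)
    have h5 : a1⁻¹ * α b = b := by linear_combination h4
    calc α b = a1 * (a1⁻¹ * α b) := by rw [mul_inv_cancel_left₀ hα0]
      _ = a1 * b := by rw [h5]
  -- the identity for `c0`
  obtain ⟨b0, c0, e0, h0, hkey⟩ := key' hw
  have hc0 : c0 ≠ 0 := by
    rintro rfl
    refine hbad w ⟨1, hw⟩ ?_ b0 e0 (by rw [h0, ← C.z_eq])
    intro h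
    exact one_ne_zero (α := K8) (hw.unique h)
  have hw2 := hQ w 1 hw
  obtain ⟨k, t, ht, hk, hkt⟩ := exists_dk hw hw2 (by rw [one_mul]; exact inv_ne_zero hα0)
  -- the `V`-part for `g w g⁻¹`, directly
  have hk0 : (k : K8) ≠ 0 := k.ne_zero
  have hk7 : (k : K8) ^ 7 = 1 := by
    rcases K8.pow_seven (k : K8) with h1 | h1
    · exact absurd h1 hk0
    · exact h1
  have hA : ∀ y e, ∃ f, (g * w * g⁻¹) * C.U y e * (g * w * g⁻¹)⁻¹ =
      C.v (c0 * (y * (k : K8) ^ 2) ^ 4 + c0 ^ 4 * (y * (k : K8) ^ 2)) * C.U y f := by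
    intro y e
    obtain ⟨f1, hf1⟩ := T_conj_U ht y e
    obtain ⟨e2, he2⟩ : ∃ e2, C.U y f1 = C.dk k * C.U (y * (k : K8) ^ 2) e2 * (C.dk k)⁻¹ := by
      refine ⟨f1 * (k : K8) ^ 3, ?_⟩
      rw [C.dk_conj]
      congr 1
      · linear_combination (-y) * hk7
      · linear_combination (-f1) * hk7
    obtain ⟨f3, hf3⟩ := hkey (y * (k : K8) ^ 2) e2
    refine ⟨f3 * (k : K8) ^ 4, ?_⟩
    rw [hkt]
    calc C.dk k * w * (C.dk k)⁻¹ * t * C.U y e * (C.dk k * w * (C.dk k)⁻¹ * t)⁻¹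
        = C.dk k * w * (C.dk k)⁻¹ * (t * C.U y e * t⁻¹) * (C.dk k * w * (C.dk k)⁻¹)⁻¹ := by group
      _ = C.dk k * (w * C.U (y * (k : K8) ^ 2) e2 * w⁻¹) * (C.dk k)⁻¹ := by rw [hf1, he2]; group
      _ = C.dk k * C.v (c0 * (y * (k : K8) ^ 2) ^ 4 + c0 ^ 4 * (y * (k : K8) ^ 2)) *
            C.U (y * (k : K8) ^ 2) f3 * (C.dk k)⁻¹ := by rw [hf3]; group
      _ = C.v (c0 * (y * (k : K8) ^ 2) ^ 4 + c0 ^ 4 * (y * (k : K8) ^ 2)) *
            (C.dk k * C.U (y * (k : K8) ^ 2) f3 * (C.dk k)⁻¹) := by rw [C.dk_v_comm]; group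
      _ = _ := by
          rw [C.dk_conj]
          congr 2
          linear_combination y * hk7
  have hB : ∀ y : K8, c0 * (y * (k : K8) ^ 2) ^ 4 + c0 ^ 4 * (y * (k : K8) ^ 2) = (k : K8) ^ 3 * (c0 * y ^ 4 + c0 ^ 4 * y) := by
    intro y
    obtain ⟨m, f, hm⟩ := conj_form hg hz y 0
    obtain ⟨f1, hf1⟩ := hkey y 0
    obtain ⟨f2, hf2⟩ := hA y f
    obtain ⟨m3, f3, hm3⟩ := conj_form hg hz y f1
    -- `m3 = m`
    have hmm : m3 = m := by
      have h1 : g * C.U y f1 * g⁻¹ = (g * C.U y 0 * g⁻¹) * C.z f1 := by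
        have := inv_mem hz f1
        rw [C.U_eq y f1]
        calc g * (C.U y 0 * C.z f1) * g⁻¹ = g * C.U y 0 * (C.z f1 * g⁻¹) := by group
          _ = _ := by rw [← this]; group
      rw [hm3, hm, mul_assoc, C.U_mul_z] at h1
      exact (T_inj h1).1
    have h1 : (g * w * g⁻¹) * (g * C.U y 0 * g⁻¹) * (g * w * g⁻¹)⁻¹ = g * (w * C.U y 0 * w⁻¹) * g⁻¹ := by group
    rw [hm, hf1] at h1
    have h2 : (g * w * g⁻¹) * (C.v m * C.U y f) * (g * w * g⁻¹)⁻¹ =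
        ((g * w * g⁻¹) * C.v m * (g * w * g⁻¹)⁻¹) * ((g * w * g⁻¹) * C.U y f * (g * w * g⁻¹)⁻¹) := by group
    have h3 : g * (C.v (c0 * y ^ 4 + c0 ^ 4 * y) * C.U y f1) * g⁻¹ =
        (g * C.v (c0 * y ^ 4 + c0 ^ 4 * y) * g⁻¹) * (g * C.U y f1 * g⁻¹) := by group
    rw [h2, hw2.2, hf2, h3, hαβ, hm3, hlin, hmm] at h1
    have h4 : ∀ p q r s f : K8, C.v p * C.z q * (C.v r * C.U s f) = C.v (p + r) * C.U s (f + q) := by
      intro p q r s f
      rw [C.v_add, ← C.z_mul_U]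
      have := C.v_z_comm r q
      calc C.v p * C.z q * (C.v r * C.U s f) = C.v p * (C.z q * C.v r) * C.U s f := by group
        _ = _ := by rw [← this]; group
    rw [h4, h4] at h1
    have h5 := (T_inj h1).1
    have h6 : a1 = (k : K8) ^ 3 := by
      have h7 : (k : K8) ^ 4 * a1 = 1 := by rw [hk, one_mul, inv_mul_cancel₀ hα0]
      linear_combination (k : K8) ^ 3 * h7 - a1 * hk7
    rw [← h6]
    linear_combination h5
  have hk1 := fin_check c0 k hc0 hk0 hB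
  have ha11 : a1 = 1 := by
    have h7 : (k : K8) ^ 4 * a1 = 1 := by rw [hk, one_mul, inv_mul_cancel₀ hα0]
    rw [hk1, one_pow, one_mul] at h7
    exact h7
  -- adjust
  obtain ⟨q, hq⟩ := C.exists_act (β 1)
  have h1 := hαβ 1
  rw [← ha1, ha11] at h1
  have h2 := hq.2 1
  rw [mul_one] at h2
  have h3 : (q⁻¹ * g) * C.v 1 = C.v 1 * (q⁻¹ * g) := by
    rw [← h2] at h1
    calc q⁻¹ * g * C.v 1 = q⁻¹ * (g * C.v 1 * g⁻¹) * g := by group
      _ = _ := by rw [h1]; group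
  obtain ⟨b, a, e, h6⟩ := eq_of_comm (C := C) one_ne_zero h3 (mul_mem (inv_mem (QQ_le_WW ⟨_, hq⟩)) hz)
  have h8 : g = q * (q⁻¹ * g) := by group
  rw [h8, h6]
  exact mul_mem ⟨_, hq⟩ (TT_le mem_TT_of)

/-- elements of `C(Z)` mapping some `v b` into `Q` lie in `Q` -/
theorem mem_QQ_of_conj (hbad : Bad C) {g : G} (hg : g ∈ WW C) {b : K8} (hb : b ≠ 0)
    (h : g * C.v b * g⁻¹ ∈ C.QQ) : g ∈ C.QQ := by
  obtain ⟨q, hq, b', hb', h1⟩ := EZ_conj (mem_EZ hbad h hb rfl)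
  have h2 : (q⁻¹ * g) * C.v b * (q⁻¹ * g)⁻¹ = C.v b' := by
    calc (q⁻¹ * g) * C.v b * (q⁻¹ * g)⁻¹ = q⁻¹ * (g * C.v b * g⁻¹) * q := by group
      _ = _ := by rw [← h1]; group
  have h3 : q⁻¹ * g ∈ WW C := mul_mem (inv_mem (QQ_le_WW hq)) hg
  have h4 : q⁻¹ * g ∈ C.QQ := by
    set g1 := q⁻¹ * g with hg1
    refine mem_QQ_of_norm (g := g1) hbad ?_ h3
    have key : ∀ (k : G) (c d : K8), d ≠ 0 → k * C.v c * k⁻¹ = C.v d → k ∈ WW C →
        ∀ t ∈ C.TT, k * t * k⁻¹ ∈ C.TT := by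
      intro k c d hd hk hkz t ht
      have h5 : k * t * k⁻¹ * C.v d = C.v d * (k * t * k⁻¹) := by
        have h6 := comm_v_of_mem_TT ht c
        rw [← hk]
        calc k * t * k⁻¹ * (k * C.v c * k⁻¹) = k * (t * C.v c) * k⁻¹ := by group
          _ = _ := by rw [h6]; group
      have h6 : k * t * k⁻¹ ∈ WW C := mul_mem (mul_mem hkz (QQ_le_WW (TT_le ht))) (inv_mem hkz)
      obtain ⟨b2, a2, e2, h9⟩ := eq_of_comm (C := C) hd h5 h6
      rw [h9]; exact mem_TT_of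
    intro t
    constructor
    · exact key g1 b b' hb' h2 h3 t
    · intro ht
      have h5 := key g1⁻¹ b' b hb (by rw [← h2]; group) (inv_mem h3) _ ht
      have h6 : g1⁻¹ * (g1 * t * g1⁻¹) * g1⁻¹⁻¹ = t := by group
      rwa [h6] at h5
  have h5 : g = q * (q⁻¹ * g) := by group
  rw [h5]
  exact mul_mem hq h4

/-- `Z` as a subgroup of `C(Z)` -/
def ZW (C : Core8 G) : Subgroup (WW C) where
  carrier := {w | ∃ e, (w : G) = C.z e}
  mul_mem' := by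
    rintro a b ⟨e, he⟩ ⟨f, hf⟩
    exact ⟨e + f, by rw [Subgroup.coe_mul, he, hf, C.z_add]⟩
  one_mem' := ⟨0, by rw [C.z_zero]; rfl⟩
  inv_mem' := by
    rintro a ⟨e, he⟩
    exact ⟨e, by rw [Subgroup.coe_inv, he, C.z_inv]⟩

omit [Finite G] in
theorem normal_ZW : (ZW C).Normal := by
  constructor
  rintro n ⟨e, he⟩ g
  refine ⟨e, ?_⟩
  have h1 := g.2 e
  rw [Subgroup.coe_mul, Subgroup.coe_mul, Subgroup.coe_inv, he, h1, mul_inv_cancel_right]

theorem al_ne : K8.al ≠ 0 := by decide +kernel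
theorem al_ne' : 1 + K8.al ≠ 0 := by decide +kernel

omit [Finite G] in
theorem v_ne_z (e : K8) : C.v 1 ≠ C.z e := by
  intro h
  exact one_ne_zero (C.v_notin 1 (by rw [h]; exact C.z_mem e))

/-- `C(Z) = Q` -/
theorem cent_Z (hbad : Bad C) {g : G} (hg : g ∈ WW C) : g ∈ C.QQ := by
  have : Fact (Nat.Prime 2) := ⟨Nat.prime_two⟩
  have := normal_ZW (C := C)
  let W := ↥(WW C) ⧸ (ZW C)
  let π : ↥(WW C) →* W := QuotientGroup.mk' (ZW C)
  have hπ : Function.Surjective π := QuotientGroup.mk'_surjective _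
  let P : Sylow 2 W := ((QS hbad.norm).subtype (N := WW C) QQ_le_WW).mapSurjective hπ
  have hP : ∀ w : ↥(WW C), π w ∈ P ↔ (w : G) ∈ C.QQ := by
    intro w
    constructor
    · intro h
      have h1 : π w ∈ ((QS hbad.norm).subtype (N := WW C) QQ_le_WW : Subgroup (WW C)).map π := h
      obtain ⟨q, hq, h2⟩ := h1
      have h3 : (q : G) ∈ C.QQ := hq
      have h4 : q⁻¹ * w ∈ ZW C := QuotientGroup.eq.1 h2
      obtain ⟨e, he⟩ := h4
      have h5 : (w : G) = q * C.z e := by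
        rw [← he, Subgroup.coe_mul, Subgroup.coe_inv]; group
      rw [h5]
      exact mul_mem h3 (z_mem_QQ e)
    · intro h
      have h1 : π w ∈ ((QS hbad.norm).subtype (N := WW C) QQ_le_WW : Subgroup (WW C)).map π := ⟨w, h, rfl⟩
      exact h1
  -- the images of the `v b`
  let vv : K8 → ↥(WW C) := fun b => ⟨C.v b, fun e => C.v_z_comm b e⟩
  have hvv : ∀ b, vv b * vv b = 1 := fun b => Subtype.ext (C.v_sq b)
  have key : ∀ (b : K8), b ≠ 0 → ∀ w : ↥(WW C), π (w * vv b * w⁻¹) ∈ P → (w : G) ∈ C.QQ ∧ π (w * vv b * w⁻¹) = π (vv b) := by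
    intro b hb w hw
    rw [hP] at hw
    have h1 : (w : G) ∈ C.QQ := mem_QQ_of_conj hbad w.2 hb hw
    refine ⟨h1, ?_⟩
    obtain ⟨c, hc⟩ := h1
    refine (QuotientGroup.eq.2 ?_)
    refine ⟨c * b, ?_⟩
    have h2 := hc.2 b
    show ((w : G) * C.v b * (w : G)⁻¹)⁻¹ * C.v b = _
    rw [h2, mul_inv_rev, C.z_inv, C.v_inv, mul_assoc, C.v_sq, mul_one]
  have hcomm : ∀ (b : K8), b ≠ 0 → ∀ w : ↥(WW C), π (vv b) * π w = π w * π (vv b) → (w : G) ∈ C.QQ := by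
    intro b hb w hw
    refine (key b hb w ?_).1
    have h1 : π (w * vv b * w⁻¹) = π (vv b) := by
      rw [map_mul, map_mul, map_inv, ← hw, mul_inv_cancel_right]
    rw [h1, hP]
    exact TT_le (v_mem_TT b)
  have e10 : (1 : K8) ≠ 0 := one_ne_zero
  have hsq : ∀ b, π (vv b) * π (vv b) = 1 := fun b => by rw [← map_mul, hvv, map_one]
  have hne : π (vv 1) ≠ 1 := by
    intro h
    have h1 : vv 1 ∈ ZW C := (QuotientGroup.eq_one_iff _).1 h
    obtain ⟨e, he⟩ := h1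
    exact v_ne_z e he
  obtain ⟨N, hNn, hNo, hNc⟩ := Cfsg.Agent.S0215.result P (π (vv 1)) (by
      rw [orderOf_eq_prime_iff]
      exact ⟨by rw [pow_two, hsq], hne⟩) (by
      rw [hP]; exact TT_le (v_mem_TT _)) (by
      intro x hx
      obtain ⟨w, rfl⟩ := hπ x
      rw [← map_inv, ← map_mul, ← map_mul] at hx ⊢
      exact (key _ e10 w hx).2)
  have hfix : ∀ (b : K8), b ≠ 0 → ∀ n ∈ N, π (vv b) * n = n * π (vv b) → n = 1 := by
    intro b hb n hn hc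
    obtain ⟨w, rfl⟩ := hπ n
    have h1 := hcomm b hb w hc
    have h2 : π w ∈ P := (hP w).2 h1
    have h3 : orderOf (π w) ∣ Nat.card N := by
      have h4 := orderOf_dvd_natCard (⟨π w, hn⟩ : N)
      rwa [Subgroup.orderOf_mk] at h4
    obtain ⟨k, hk⟩ := P.2 ⟨π w, h2⟩
    have h4 : (π w) ^ 2 ^ k = 1 := congrArg Subtype.val hk
    have h5 := orderOf_dvd_of_pow_eq_one h4
    have h6 : Nat.Coprime (2 ^ k) (Nat.card N) := Nat.Coprime.pow_left k (Nat.coprime_two_left.2 hNo)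
    exact orderOf_eq_one_iff.1 (Nat.eq_one_of_dvd_coprimes h6 h5 h3)
  have hbot : N = ⊥ := by
    refine eq_bot_of_four N (u1 := π (vv 1)) (u2 := π (vv K8.al)) (hsq _) (hsq _) (hfix _ e10) (hfix _ al_ne) ?_
    intro n hn hc
    refine hfix (1 + K8.al) al_ne' n hn ?_
    have h1 : π (vv (1 + K8.al)) = π (vv 1) * π (vv K8.al) := by
      rw [← map_mul]
      congr 1
      apply Subtype.ext
      show C.v (1 + K8.al) = C.v 1 * C.v K8.al
      rw [← C.v_add]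
    rw [h1]; exact hc
  refine hcomm 1 e10 ⟨g, hg⟩ ?_
  have h1 := hNc (π ⟨g, hg⟩)
  rw [hbot, mem_bot] at h1
  calc π (vv 1) * π ⟨g, hg⟩ = (π (vv 1) * π ⟨g, hg⟩ * (π (vv 1))⁻¹ * (π ⟨g, hg⟩)⁻¹) * (π ⟨g, hg⟩ * π (vv 1)) := by group
    _ = _ := by rw [h1, one_mul]

theorem card_G' (hbad : Bad C) : Nat.card G = 455 * 449 * Nat.card (centralizer ({C.z 1} : Set G)) := by
  have e10 : (1 : K8) ≠ 0 := one_ne_zero
  rw [card_G (C := C) noV e10]
  have h1 : Nat.card {y : G // AS C 1 (C.z 1) y} = 0 := by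
    have : IsEmpty {y : G // AS C 1 (C.z 1) y} := ⟨fun y => gamma_zero hbad e10 y.2.1 ⟨1, by group⟩ y.2.2⟩
    exact Nat.card_of_isEmpty
  rw [h1, add_zero]

theorem card_odd_part (hbad : Bad C) : ∃ m, Odd m ∧ Nat.card (centralizer ({C.z 1} : Set G)) = 4096 * m := by
  have hle : C.QQ ≤ centralizer ({C.z 1} : Set G) := fun q hq => mem_centralizer_singleton_iff.2 (zcomm hq 1)
  have h1 : 4096 ∣ Nat.card (centralizer ({C.z 1} : Set G)) := by rw [← card_QQ C]; exact Subgroup.card_dvd_of_le hle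
  obtain ⟨m, hm⟩ := h1
  refine ⟨m, ?_, hm⟩
  rw [← Nat.not_even_iff_odd]
  intro he
  obtain ⟨k, hk⟩ := he.two_dvd
  have h2 : 2 ^ 13 ∣ Nat.card G := (Dvd.intro k (by rw [hm, hk]; ring)).trans (Subgroup.card_subgroup_dvd_card (centralizer ({C.z 1} : Set G)))
  have h3 := (Nat.prime_two.pow_dvd_iff_le_factorization Nat.card_pos.ne').1 h2
  rw [factorization_card hbad.norm] at h3
  omega

end Cfsg.Agent.Ru8.BadC
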