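import Cfsg.Agent.Ru8.SwapInv8

/-!
# `|R| = 8`, good case: a Sylow 2-subgroup centralises `Z` and `Z` is strongly closed in it
-/

set_option autoImplicit false

namespace Cfsg.Agent.Ru8

open Cfsg.Agent.RuB (K8)
open Cfsg.Agent
open Subgroup

namespace Core8

variable {G : Type*} [Group G] {C : Core8 G}

theorem normTT_pow {g : G} (hg : ∀ x, x ∈ C.TT ↔ g * x * g⁻¹ ∈ C.TT) (n : ℕ) :
    ∀ x, x ∈ C.TT ↔ g ^ n * x * (g ^ n)⁻¹ ∈ C.TT := by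
  induction n with
  | zero => intro x; simp
  | succ n ih =>
    intro x
    rw [ih x, hg, pow_succ']
    have : g * (g ^ n * x * (g ^ n)⁻¹) * g⁻¹ = g * g ^ n * x * (g * g ^ n)⁻¹ := by group
    rw [this]

/-- a 2-element normalising `T` lies in `Q` -/
theorem mem_QQ_of_two {g : G} (hg : ∀ x, x ∈ C.TT ↔ g * x * g⁻¹ ∈ C.TT) {n : ℕ} (h : g ^ 2 ^ n ∈ C.QQ) : g ∈ C.QQ := by
  induction n with
  | zero => rwa [pow_zero, pow_one] at h
  | succ n ih =>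
    apply ih
    apply mem_QQ_of_sq (normTT_pow hg _)
    rw [← pow_add]
    have : 2 ^ n + 2 ^ n = 2 ^ (n + 1) := by rw [pow_succ]; ring
    rw [this]
    exact h

theorem exists_two_pow {P : Sylow 2 G} {x : G} (hx : x ∈ P) : ∃ n : ℕ, x ^ 2 ^ n = 1 := by
  obtain ⟨n, hn⟩ := P.2 ⟨x, hx⟩
  exact ⟨n, congrArg Subtype.val hn⟩

theorem mem_QQ_of_Sylow {P : Sylow 2 G} {g : G} (hgP : g ∈ P) (hg : ∀ x, x ∈ C.TT ↔ g * x * g⁻¹ ∈ C.TT) : g ∈ C.QQ := by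
  obtain ⟨n, hn⟩ := exists_two_pow hgP
  exact mem_QQ_of_two hg (n := n) (by rw [hn]; exact one_mem _)

theorem mem_normalizer_QQ {g : G} : g ∈ normalizer (C.QQ : Set G) ↔ ∀ x, x ∈ C.QQ ↔ g * x * g⁻¹ ∈ C.QQ :=
  mem_normalizer_iff

/-- products of two elements of `N_P(Q) \ Q` lie in `Q` -/
theorem mul_mem_QQ (K : Coord8 C) {P : Sylow 2 G} {g h : G} (hgP : g ∈ P) (hhP : h ∈ P)
    (hg : ∀ x, x ∈ C.QQ ↔ g * x * g⁻¹ ∈ C.QQ) (hh : ∀ x, x ∈ C.QQ ↔ h * x * h⁻¹ ∈ C.QQ)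
    (hgn : g ∉ C.QQ) (hhn : h ∉ C.QQ) : g * h ∈ C.QQ := by
  have h1 : Swp K g := by
    rcases norm_TT_coord hg K with h1 | h1
    · exact absurd (mem_QQ_of_Sylow hgP h1) hgn
    · exact h1.2.2
  have h2 : Swp K h := by
    rcases norm_TT_coord hh K with h1 | h1
    · exact absurd (mem_QQ_of_Sylow hhP h1) hhn
    · exact h1.2.2
  exact mem_QQ_of_Sylow (mul_mem hgP hhP) (swp_mul K hh hg h2 h1)

theorem exists_SD' (K : Coord8 C) {P : Sylow 2 G} {g : G} (hgP : g ∈ P)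
    (hg : ∀ x, x ∈ C.QQ ↔ g * x * g⁻¹ ∈ C.QQ) (hgn : g ∉ C.QQ) : ∃ l, SD K g l :=
  exists_SD K hg (fun h => hgn (mem_QQ_of_Sylow hgP h)) (mul_mem_QQ K hgP hgP hg hg hgn hgn)

/-- `P` normalises `Q` -/
theorem le_norm_QQ [Finite G] (K : Coord8 C) (P : Sylow 2 G) (hP : C.QQ ≤ P) :
    ∀ g ∈ P, ∀ x, x ∈ C.QQ ↔ g * x * g⁻¹ ∈ C.QQ := by
  have : Fact (Nat.Prime 2) := ⟨Nat.prime_two⟩
  let N : Subgroup G := (P : Subgroup G) ⊓ normalizer (C.QQ : Set G)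
  have hNP : N ≤ P := inf_le_left
  have hQN : C.QQ ≤ N := le_inf hP le_normalizer
  have hNz : ∀ x ∈ N, ∀ e, x * C.z e = C.z e * x := by
    intro x hx e
    obtain ⟨hxP, hxN⟩ := mem_inf.1 hx
    by_cases hxQ : x ∈ C.QQ
    · exact zcomm hxQ e
    · obtain ⟨l, S⟩ := exists_SD' K hxP (mem_normalizer_QQ.1 hxN) hxQ
      exact S.zc e
  have hNeq : N = P := by
    by_contra hne
    have hlt : N < P := lt_of_le_of_ne hNP hne
    obtain ⟨g, hg, hgN⟩ := SetLike.exists_of_lt (SmallSimple.SylowMaxInter.lt_inf_normalizer P.2 hlt)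
    obtain ⟨hgP, hgn⟩ := mem_inf.1 hg
    rw [mem_normalizer_iff] at hgn
    apply hgN
    refine mem_inf.2 ⟨hgP, RuRed.mem_norm_of_conj_le (fun q hq => ?_)⟩
    by_contra ht
    set t := g * q * g⁻¹ with htdef
    have htN : t ∈ N := (hgn q).1 (hQN hq)
    obtain ⟨htP, htn⟩ := mem_inf.1 htN
    obtain ⟨l, S⟩ := exists_SD' K htP (mem_normalizer_QQ.1 htn) ht
    have hgin : ∀ x ∈ N, g⁻¹ * x * g ∈ N := by
      intro x hx
      rw [← SetLike.mem_coe, SetLike.mem_coe, hgn]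
      have : g * (g⁻¹ * x * g) * g⁻¹ = x := by group
      rwa [this]
    -- some `v b` comes from `Q`
    obtain ⟨b, hb, hbQ⟩ : ∃ b, b ≠ 0 ∧ g⁻¹ * C.v b * g ∈ C.QQ := by
      by_cases h1 : g⁻¹ * C.v 1 * g ∈ C.QQ
      · exact ⟨1, one_ne_zero, h1⟩
      by_cases h2 : g⁻¹ * C.v K8.al * g ∈ C.QQ
      · exact ⟨_, by decide +kernel, h2⟩
      refine ⟨1 + K8.al, by decide +kernel, ?_⟩
      have m1 := hgin _ (hQN (TT_le (v_mem_TT (C := C) 1)))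
      have m2 := hgin _ (hQN (TT_le (v_mem_TT (C := C) K8.al)))
      obtain ⟨p1, n1⟩ := mem_inf.1 m1
      obtain ⟨p2, n2⟩ := mem_inf.1 m2
      have h3 := mul_mem_QQ K p1 p2 (mem_normalizer_QQ.1 n1) (mem_normalizer_QQ.1 n2) h1 h2
      have e : g⁻¹ * C.v 1 * g * (g⁻¹ * C.v K8.al * g) = g⁻¹ * C.v (1 + K8.al) * g := by
        rw [C.v_add]; group
      rwa [e] at h3
    have hqu := K.comm hq hbQ
    set f := bf8 K.μ (K.π q) (K.π (g⁻¹ * C.v b * g))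
    -- `ζ`
    have hζN : g * C.z f * g⁻¹ ∈ N := (hgn _).1 (hQN (z_mem_QQ f))
    have hζc : ∀ x ∈ N, g * C.z f * g⁻¹ * x = x * (g * C.z f * g⁻¹) := by
      intro x hx
      have h1 := hNz _ (hgin x hx) f
      calc g * C.z f * g⁻¹ * x = g * (C.z f * (g⁻¹ * x * g)) * g⁻¹ := by group
        _ = g * (g⁻¹ * x * g * C.z f) * g⁻¹ := by rw [h1]
        _ = _ := by group
    have hζQ : g * C.z f * g⁻¹ ∈ C.QQ := by
      by_contra hζ
      obtain ⟨hp, hn⟩ := mem_inf.1 hζN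
      obtain ⟨l', S'⟩ := exists_SD' K hp (mem_normalizer_QQ.1 hn) hζ
      have h1 := S'.v 1
      rw [hζc _ (hQN (TT_le (v_mem_TT 1))), mul_inv_cancel_right, K.v] at h1
      exact one_ne_zero (congrArg (fun t => t.1) h1)
    obtain ⟨f', hf'⟩ := eq_z_of_central hζQ (fun y hy => hζc y (hQN hy))
    have h1 : t * C.v b * t⁻¹ = C.v b * C.z f' := by
      rw [← hf', mul_inv_eq_iff_eq_mul]
      calc t * C.v b = g * (q * (g⁻¹ * C.v b * g)) * g⁻¹ := by rw [htdef]; group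
        _ = g * (g⁻¹ * C.v b * g * q * C.z f) * g⁻¹ := by rw [hqu]
        _ = C.v b * (t * (g * C.z f * g⁻¹)) := by rw [htdef]; group
        _ = C.v b * ((g * C.z f * g⁻¹) * t) := by rw [hζc _ htN]
        _ = _ := by group
    have h2 := S.v b
    rw [h1, K.mul _ (TT_le (v_mem_TT b)) _ (z_mem_QQ _), K.v, K.z, add_zero] at h2
    exact hb (congrArg (fun t => t.1) h2)
  intro g hg
  rw [← mem_normalizer_QQ]
  have : g ∈ N := by rw [hNeq]; exact hg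
  exact (mem_inf.1 this).2

/-- the strongly closed situation -/
theorem exists_sc [Finite G] (K : Coord8 C) : ∃ P : Sylow 2 G, C.QQ ≤ P ∧ (∀ x ∈ P, ∀ b, x * C.z b = C.z b * x) ∧
    ∀ x ∈ P, ∀ g, x = g * C.z 1 * g⁻¹ → ∃ b, x = C.z b := by
  obtain ⟨P, hP⟩ := (two_QQ K).exists_le_sylow
  have hn := le_norm_QQ K P hP
  have hc : ∀ x ∈ P, ∀ b, x * C.z b = C.z b * x := by
    intro x hx b
    by_cases hxQ : x ∈ C.QQ
    · exact zcomm hxQ b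
    · obtain ⟨l, S⟩ := exists_SD' K hx (hn x hx) hxQ
      exact S.zc b
  have h2 : ∀ x ∈ P, ∀ y ∈ P, x ∉ C.QQ → y ∉ C.QQ → x * y ∈ C.QQ := fun x hx y hy hxQ hyQ =>
    mul_mem_QQ K hx hy (hn x hx) (hn y hy) hxQ hyQ
  refine ⟨P, hP, hc, fun y hy g hyg => ?_⟩
  by_cases hyQ : y ∈ C.QQ
  · exact fusion_QQ K P hc h2 hyg hyQ
  · obtain ⟨l, S⟩ := exists_SD' K hy (hn y hy) hyQ
    have hyy : y * y = 1 := by
      rw [hyg]
      calc g * C.z 1 * g⁻¹ * (g * C.z 1 * g⁻¹) = g * (C.z 1 * C.z 1) * g⁻¹ := by group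
        _ = 1 := by rw [C.z_sq]; group
    refine fusion K P hc h2 hyg (fun a => ⟨0, 0, ?_⟩)
    rw [C.v_zero, one_mul]
    exact (mul_inv_eq_iff_eq_mul.1 (S.comm_U hyy a)).symm

end Core8

end Cfsg.Agent.Ru8
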