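import Cfsg.Agent.Ru8.NormTT8

/-!
# `|R| = 8`: the normaliser of `T`

`N_G(T) ≤ N_G(Q)`, and `N_G(T) / Q` has odd order: `mem_QQ_of_sq`.
-/

set_option autoImplicit false

namespace Cfsg.Agent.Ru8

open Cfsg.Agent.RuB (K8)
open Cfsg.Agent

/-! ### additive maps of `K8` -/

/-- additive map from the images of `1, α, α²` -/
def ev (x y u z : K8) : K8 :=
  (if z.val.1.testBit 0 = true then x else 0) + (if z.val.1.testBit 1 = true then y else 0) +
    (if z.val.1.testBit 2 = true then u else 0)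

theorem K8_cases : ∀ z : K8, z = 0 ∨ z = 1 ∨ z = K8.al ∨ z = 1 + K8.al ∨ z = K8.al ^ 2 ∨ z = 1 + K8.al ^ 2 ∨
    z = K8.al + K8.al ^ 2 ∨ z = 1 + K8.al + K8.al ^ 2 := by decide +kernel

theorem ev_spec {r : K8 → K8} (hr : ∀ a b, r (a + b) = r a + r b) (z : K8) :
    r z = ev (r 1) (r K8.al) (r (K8.al ^ 2)) z := by
  have h0 : r 0 = 0 := by
    have := hr 0 0
    rw [add_zero] at this
    linear_combination -this
  have bits : ∀ z : K8, (z.val.1.testBit 0 = true ↔ (z = 1 ∨ z = 1 + K8.al ∨ z = 1 + K8.al ^ 2 ∨ z = 1 + K8.al + K8.al ^ 2)) ∧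
      (z.val.1.testBit 1 = true ↔ (z = K8.al ∨ z = 1 + K8.al ∨ z = K8.al + K8.al ^ 2 ∨ z = 1 + K8.al + K8.al ^ 2)) ∧
      (z.val.1.testBit 2 = true ↔ (z = K8.al ^ 2 ∨ z = 1 + K8.al ^ 2 ∨ z = K8.al + K8.al ^ 2 ∨ z = 1 + K8.al + K8.al ^ 2)) := by
    decide +kernel
  unfold ev
  rcases K8_cases z with h | h | h | h | h | h | h | h
  · subst h
    rw [if_neg (by decide +kernel), if_neg (by decide +kernel), if_neg (by decide +kernel), h0]; ring
  · subst h
    rw [if_pos (by decide +kernel), if_neg (by decide +kernel), if_neg (by decide +kernel)]; ring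
  · subst h
    rw [if_neg (by decide +kernel), if_pos (by decide +kernel), if_neg (by decide +kernel)]; ring
  · subst h
    rw [if_pos (by decide +kernel), if_pos (by decide +kernel), if_neg (by decide +kernel), hr]; ring
  · subst h
    rw [if_neg (by decide +kernel), if_neg (by decide +kernel), if_pos (by decide +kernel)]; ring
  · subst h
    rw [if_pos (by decide +kernel), if_neg (by decide +kernel), if_pos (by decide +kernel), hr]; ring
  · subst h
    rw [if_neg (by decide +kernel), if_pos (by decide +kernel), if_pos (by decide +kernel), hr]; ring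
  · subst h
    rw [if_pos (by decide +kernel), if_pos (by decide +kernel), if_pos (by decide +kernel), hr, hr]

theorem ev_id : ∀ b : K8, ev 1 K8.al (K8.al ^ 2) b = b := by decide +kernel

theorem ev_fin : ∀ x y u : K8, (x ≠ 0 ∧ u * x = y * y ∧ (y + x) * x = y * u ∧ 1 = ev x y u x ∧ K8.al = ev x y u y) →
    x = 1 ∧ y = K8.al ∧ u = K8.al ^ 2 := by decide +kernel

/-- a semilinear involution of `K8` is the identity -/
theorem semi_id {r : K8 → K8} (hr : ∀ a b, r (a + b) = r a + r b) (hrr : ∀ b, r (r b) = b)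
    (hm : ∀ b c, r (c * b) * r 1 = r c * r b) (b : K8) : r b = b := by
  have h1 : r (K8.al ^ 2) * r 1 = r K8.al * r K8.al := by
    rw [pow_two]; exact hm _ _
  have h2 : r (K8.al ^ 3) * r 1 = r K8.al * r (K8.al ^ 2) := by
    have e : K8.al ^ 3 = K8.al * K8.al ^ 2 := by ring
    rw [e]; exact hm _ _
  have hal3 : K8.al ^ 3 = K8.al + 1 := by decide +kernel
  rw [hal3, hr] at h2
  have hx0 : r 1 ≠ 0 := by
    intro h
    have h3 := hrr 1
    rw [h] at h3
    have h4 := hrr 0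
    rw [h3] at h4
    have h5 : r 0 = 0 := by
      have := hr 0 0
      rw [add_zero] at this
      linear_combination -this
    rw [h5] at h3
    exact zero_ne_one h3
  have e1 := ev_spec hr (r 1)
  have e2 := ev_spec hr (r K8.al)
  rw [hrr] at e1 e2
  obtain ⟨f1, f2, f3⟩ := ev_fin _ _ _ ⟨hx0, h1, h2, e1, e2⟩
  have e3 := ev_spec hr b
  rw [f1, f2, f3] at e3
  rw [e3]
  exact ev_id b

/-- the arithmetic of `N(T)` -/
theorem semi_pair {r φ : K8 → K8} (hr : ∀ a b, r (a + b) = r a + r b)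
    (hrr : ∀ b, r (r b) = b) (hφφ : ∀ b, φ (φ b) = b) (h : ∀ c, ∃ c', ∀ b, c' * φ b = r (c * b)) :
    (∀ b, r b = b) ∧ ∀ b, φ b = b := by
  have h0 : r 0 = 0 := by
    have := hr 0 0
    rw [add_zero] at this
    linear_combination -this
  have hx0 : r 1 ≠ 0 := by
    intro h
    have h3 := hrr 1
    rw [h, h0] at h3
    exact zero_ne_one h3
  obtain ⟨m, hm⟩ := h 1
  simp only [one_mul] at hm
  have hmul : ∀ b c, r (c * b) * r 1 = r c * r b := by
    intro b c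
    obtain ⟨c', hc'⟩ := h c
    have e1 := hc' b
    have e2 := hc' 1
    rw [mul_one] at e2
    rw [← e1, ← e2, ← hm b, ← hm 1]
    ring
  have hid := semi_id hr hrr hmul
  refine ⟨hid, fun b => ?_⟩
  have e1 : ∀ b, m * φ b = b := fun b => by rw [hm, hid]
  have e2 : m * (m * φ (φ b)) = φ (φ b) := by
    have h1 := e1 (φ b)
    have h2 := e1 b
    rw [h1, h2, hφφ]
  rw [hφφ] at e2
  by_cases hb : b = 0
  · subst hb
    have := e1 0
    have hm0 : m ≠ 0 := by
      rintro rfl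
      have := hm 1
      rw [zero_mul] at this
      exact hx0 this.symm
    rcases mul_eq_zero.1 this with h1 | h1
    · exact absurd h1 hm0
    · exact h1
  · have h3 : m * m = 1 := by
      have : m * m * b = 1 * b := by rw [one_mul]; linear_combination e2
      exact mul_right_cancel₀ hb this
    have fin : ∀ m : K8, m * m = 1 → m = 1 := by decide +kernel
    have h4 := fin m h3
    have h5 := e1 b
    rwa [h4, one_mul] at h5

namespace Core8

variable {G : Type*} [Group G] {C : Core8 G}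

theorem pow5_surj : ∀ e : K8, ∃ a : K8, a ^ 5 = e := by decide +kernel

/-- `x` centralises `Z` and fixes `v 1` modulo `Z` -/
theorem mem_QQ_of {x : G} (hZ : ∀ b, x * C.z b = C.z b * x)
    (h1 : ∃ e, x * C.v 1 * x⁻¹ = C.v 1 * C.z e) : x ∈ C.QQ := by
  obtain ⟨e, he⟩ := h1
  obtain ⟨q, hq⟩ := C.exists_act e
  have hqi := hq.inv
  have h2 : (q⁻¹ * x) * C.v 1 = C.v 1 * (q⁻¹ * x) := by
    have h3 := hqi.2 1
    rw [mul_one, inv_inv] at h3
    rw [← mul_inv_eq_iff_eq_mul]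
    calc q⁻¹ * x * C.v 1 * (q⁻¹ * x)⁻¹ = q⁻¹ * (x * C.v 1 * x⁻¹) * q := by group
      _ = (q⁻¹ * C.v 1 * q) * (q⁻¹ * C.z e * q) := by rw [he]; group
      _ = C.v 1 * C.z e * C.z e := by
          rw [h3]
          congr 1
          have := hqi.conj_z e
          rw [inv_inv] at this
          exact this
      _ = _ := by rw [mul_assoc, C.z_sq, mul_one]
  have h3 : ∀ c, (q⁻¹ * x) * C.z c = C.z c * (q⁻¹ * x) := by
    intro c
    calc q⁻¹ * x * C.z c = q⁻¹ * (x * C.z c) := by group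
      _ = (q⁻¹ * C.z c) * x := by rw [hZ]; group
      _ = _ := by rw [hqi.1]; group
  obtain ⟨b, a, f, h4⟩ := eq_of_comm (a := 1) one_ne_zero h2 h3
  have h5 : x = q * (C.v b * C.U a f) := by rw [← h4]; group
  rw [h5]
  exact mul_mem ⟨e, hq⟩ (TT_le mem_TT_of)

section normTT

variable {g : G} (hg : ∀ x, x ∈ C.TT ↔ g * x * g⁻¹ ∈ C.TT)

include hg

theorem normTT_inv : ∀ x, x ∈ C.TT ↔ g⁻¹ * x * g⁻¹⁻¹ ∈ C.TT := by
  intro x
  have h1 := hg (g⁻¹ * x * g)
  have h2 : g * (g⁻¹ * x * g) * g⁻¹ = x := by group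
  rw [h2] at h1
  rw [inv_inv]
  exact h1.symm

theorem normTT_z (e : K8) : ∃ e', g * C.z e * g⁻¹ = C.z e' := by
  obtain ⟨a, rfl⟩ := pow5_surj e
  obtain ⟨b', a', e', h⟩ := TT_eq ((hg _).1 (U_mem_TT (C := C) a 0))
  refine ⟨a' ^ 5, ?_⟩
  rw [← T_sq b' a' e', ← h, ← C.U_sq a 0]
  group

theorem normTT_v (b : K8) : ∃ b' e', g * C.v b * g⁻¹ = C.v b' * C.z e' := by
  obtain ⟨b', a', e', h⟩ := TT_eq ((hg _).1 (v_mem_TT (C := C) b))
  have h1 : g * C.v b * g⁻¹ * (g * C.v b * g⁻¹) = 1 := by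
    calc g * C.v b * g⁻¹ * (g * C.v b * g⁻¹) = g * (C.v b * C.v b) * g⁻¹ := by group
      _ = 1 := by rw [C.v_sq]; group
  rw [h, T_sq] at h1
  have h2 := pow5_eq_zero _ (C.z_eq_one h1)
  subst h2
  exact ⟨b', e', by rw [h, C.z_eq]⟩

/-- `N_G(T) ≤ N_G(Q)` -/
theorem normTT_QQ (x : G) (hx : x ∈ C.QQ) : g * x * g⁻¹ ∈ C.QQ := by
  have hgi := normTT_inv hg
  apply mem_QQ_of (C := C)
  · intro b
    obtain ⟨b', hb'⟩ := normTT_z hgi b
    rw [inv_inv] at hb'
    calc g * x * g⁻¹ * C.z b = g * (x * (g⁻¹ * C.z b * g)) * g⁻¹ := by group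
      _ = g * (g⁻¹ * C.z b * g * x) * g⁻¹ := by rw [hb', zcomm hx]
      _ = _ := by group
  · obtain ⟨b', e', h⟩ := normTT_v hgi 1
    rw [inv_inv] at h
    obtain ⟨c, hc⟩ := hx
    obtain ⟨e2, h2⟩ := normTT_z hg (c * b')
    refine ⟨e2, ?_⟩
    rw [← h2]
    have h3 : C.v 1 = g * (C.v b' * C.z e') * g⁻¹ := by rw [← h]; group
    calc g * x * g⁻¹ * C.v 1 * (g * x * g⁻¹)⁻¹ = g * (x * (g⁻¹ * C.v 1 * g) * x⁻¹) * g⁻¹ := by group
      _ = g * ((x * C.v b' * x⁻¹) * (x * C.z e' * x⁻¹)) * g⁻¹ := by rw [h]; group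
      _ = g * (C.v b' * (C.z (c * b') * C.z e')) * g⁻¹ := by rw [hc.2, hc.conj_z]; group
      _ = (g * (C.v b' * C.z e') * g⁻¹) * (g * C.z (c * b') * g⁻¹) := by rw [C.z_comm]; group
      _ = _ := by rw [← h3]

theorem norm_QQ_of_norm_TT (x : G) : x ∈ C.QQ ↔ g * x * g⁻¹ ∈ C.QQ := by
  constructor
  · exact normTT_QQ hg x
  · intro h
    have := normTT_QQ (normTT_inv hg) _ h
    have h2 : g⁻¹ * (g * x * g⁻¹) * g⁻¹⁻¹ = x := by group
    rwa [h2] at this

/-- `N_G(T) / Q` has odd order -/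
theorem mem_QQ_of_sq (hsq : g * g ∈ C.QQ) : g ∈ C.QQ := by
  have hr := normTT_z hg
  choose r hr using hr
  have hv := normTT_v hg
  choose φ ε hv using hv
  have hradd : ∀ a b, r (a + b) = r a + r b := by
    intro a b
    apply C.z_inj
    rw [← hr, C.z_add, C.z_add, ← hr, ← hr]; group
  obtain ⟨c0, hc0⟩ := hsq
  have hrr : ∀ b, r (r b) = b := by
    intro b
    apply C.z_inj
    rw [← hr, ← hr]
    have := hc0.conj_z b
    calc g * (g * C.z b * g⁻¹) * g⁻¹ = g * g * C.z b * (g * g)⁻¹ := by group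
      _ = _ := this
  have hφφ : ∀ b, φ (φ b) = b := by
    intro b
    have h1 : g * g * C.v b * (g * g)⁻¹ = C.v (φ (φ b)) * C.z (ε (φ b) + r (ε b)) := by
      calc g * g * C.v b * (g * g)⁻¹ = g * (g * C.v b * g⁻¹) * g⁻¹ := by group
        _ = (g * C.v (φ b) * g⁻¹) * (g * C.z (ε b) * g⁻¹) := by rw [hv]; group
        _ = _ := by rw [hv, hr, mul_assoc, C.z_add]
    rw [hc0.2] at h1
    exact (C.vl_inj (C.z_mem _) (C.z_mem _) h1).1.symm
  have hpair : ∀ c, ∃ c', ∀ b, c' * φ b = r (c * b) := by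
    intro c
    obtain ⟨w, hw⟩ := C.exists_act c
    obtain ⟨c', hc'⟩ := normTT_QQ hg w ⟨c, hw⟩
    refine ⟨c', fun b => ?_⟩
    have h1 : (g * w * g⁻¹) * (C.v (φ b) * C.z (ε b)) * (g * w * g⁻¹)⁻¹ = C.v (φ b) * C.z (ε b) * C.z (r (c * b)) := by
      rw [← hv, ← hr]
      calc (g * w * g⁻¹) * (g * C.v b * g⁻¹) * (g * w * g⁻¹)⁻¹ = g * (w * C.v b * w⁻¹) * g⁻¹ := by group
        _ = _ := by rw [hw.2]; group
    have h2 : (g * w * g⁻¹) * (C.v (φ b) * C.z (ε b)) * (g * w * g⁻¹)⁻¹ =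
        C.v (φ b) * C.z (c' * φ b) * C.z (ε b) := by
      calc (g * w * g⁻¹) * (C.v (φ b) * C.z (ε b)) * (g * w * g⁻¹)⁻¹ =
          ((g * w * g⁻¹) * C.v (φ b) * (g * w * g⁻¹)⁻¹) * ((g * w * g⁻¹) * C.z (ε b) * (g * w * g⁻¹)⁻¹) := by group
        _ = _ := by rw [hc'.2, hc'.conj_z]
    rw [h2, mul_assoc, mul_assoc, ← C.z_add, ← C.z_add] at h1
    have h3 := C.z_inj (mul_left_cancel h1)
    linear_combination h3
  obtain ⟨h1, h2⟩ := semi_pair hradd hrr hφφ hpair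
  refine mem_QQ_of (C := C) (fun b => ?_) ⟨ε 1, ?_⟩
  · have := hr b
    rw [h1, mul_inv_eq_iff_eq_mul] at this
    exact this
  · rw [hv, h2]

end normTT

end Core8

end Cfsg.Agent.Ru8
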