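import Cfsg.Agent.Ru8.Coord8

/-!
# `|R| = 8`: `N(Q) ≤ N(T)` unless the coordinates are `(ν, μ) = (0, 0)`
-/

set_option autoImplicit false

namespace Cfsg.Agent.Ru8

open Cfsg.Agent.RuB (K8)
open Cfsg.Agent

/-- uniqueness of the special three-space: hand computation -/
theorem plane_unique {ν μ : K8} {p r : K8 × K8 × K8} (hp : qf8 ν μ p = 0) (hr : qf8 ν μ r = 0)
    (hker : ∀ s, bf8 μ p s = 0 ↔ bf8 μ r s = 0) (hker' : ∀ s, bf8 μ (p + r) s = 0 → bf8 μ p s = 0) :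
    (p.2 = 0 ∧ r.2 = 0) ∨ (ν = 0 ∧ μ = 0 ∧ p.1 = 0 ∧ p.2.1 = 0 ∧ r.1 = 0 ∧ r.2.1 = 0) := by
  have key : ∀ t : K8 × K8 × K8, qf8 ν μ t = 0 → t.2.2 = 0 → t.2 = 0 := by
    intro t ht h0
    unfold qf8 at ht
    rw [h0] at ht
    have h1 : t.2.1 ^ 5 = 0 := by linear_combination ht
    exact Prod.ext (Core8.pow5_eq_zero _ h1) h0
  have hs : ∀ t : K8 × K8 × K8, bf8 μ t (1, 0, 0) = t.2.2 := by
    intro t
    unfold bf8
    ring
  by_cases hc : p.2.2 = 0
  · left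
    refine ⟨key p hp hc, key r hr ?_⟩
    rw [← hs, ← hker, hs, hc]
  · right
    have hr2 : r.2.2 ≠ 0 := by
      intro h0
      apply hc
      rw [← hs, hker, hs, h0]
    have hsum : p.2.2 + r.2.2 ≠ 0 := by
      intro h0
      apply hc
      rw [← hs]
      apply hker'
      rw [hs]
      exact h0
    obtain ⟨v1, a1, c1⟩ := p
    obtain ⟨v2, a2, c2⟩ := r
    simp only at hc hr2 hsum
    obtain ⟨l, rfl⟩ : ∃ l, c2 = l * c1 := ⟨c2 * c1⁻¹, by rw [inv_mul_cancel_right₀ hc]⟩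
    have hl0 : l ≠ 0 := by rintro rfl; exact hr2 (zero_mul _)
    have hl1 : l + 1 ≠ 0 := by
      intro h
      apply hsum
      linear_combination c1 * h
    -- the two kernels agree
    have hh : ∀ a c : K8, v2 * c + (a2 ^ 4 * a + a2 * a ^ 4) + μ * (a2 ^ 2 * c ^ 2 + (l * c1) ^ 2 * a ^ 2) =
        l * (v1 * c + (a1 ^ 4 * a + a1 * a ^ 4) + μ * (a1 ^ 2 * c ^ 2 + c1 ^ 2 * a ^ 2)) := by
      intro a c
      set F := v1 * c + (a1 ^ 4 * a + a1 * a ^ 4) + μ * (a1 ^ 2 * c ^ 2 + c1 ^ 2 * a ^ 2) with hF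
      have h1 : bf8 μ (v1, a1, c1) (F * c1⁻¹, a, c) = 0 := by
        unfold bf8
        simp only
        have h2 : F * c1⁻¹ * c1 = F := inv_mul_cancel_right₀ hc F
        rw [h2]
        linear_combination (-1 : K8) * hF + F * K8.two_eq
      rw [hker] at h1
      unfold bf8 at h1
      simp only at h1
      have h3 : F * c1⁻¹ * (l * c1) = l * F := by
        have : F * c1⁻¹ * (l * c1) = l * (F * c1⁻¹ * c1) := by ring
        rw [this, inv_mul_cancel_right₀ hc]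
      rw [h3] at h1
      linear_combination h1 - l * F * K8.two_eq
    have hal : K8.al ^ 2 + K8.al ≠ 0 := by decide +kernel
    have hal8 : K8.al ^ 8 = K8.al := by decide +kernel
    have fin : ∀ x y t : K8, x + y + t = 0 → K8.al * x + K8.al ^ 4 * y + K8.al ^ 2 * t = 0 →
        K8.al ^ 2 * x + K8.al * y + K8.al ^ 4 * t = 0 → x = 0 ∧ y = 0 ∧ t = 0 := by decide +kernel
    -- `c`-part
    have hlc : ∀ c : K8, (v2 + l * v1) * c + μ * (a2 ^ 2 + l * a1 ^ 2) * c ^ 2 = 0 := by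
      intro c
      linear_combination hh 0 c + l * (v1 * c + μ * a1 ^ 2 * c ^ 2) * K8.two_eq
    have hv : v2 + l * v1 = 0 := by
      have e1 := hlc 1
      have e2 := hlc K8.al
      have e3 : (K8.al ^ 2 + K8.al) * (v2 + l * v1) = 0 := by
        linear_combination K8.al ^ 2 * e1 + e2 - K8.al ^ 2 * (μ * (a2 ^ 2 + l * a1 ^ 2)) * K8.two_eq
      rcases mul_eq_zero.1 e3 with h1 | h1
      · exact absurd h1 hal
      · exact h1
    -- `a`-part
    have hla : ∀ t : K8, (a2 ^ 4 + l * a1 ^ 4) * t + (a2 + l * a1) * t ^ 4 + μ * ((l * c1) ^ 2 + l * c1 ^ 2) * t ^ 2 = 0 := by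
      intro t
      linear_combination hh t 0 + l * (a1 ^ 4 * t + a1 * t ^ 4 + μ * c1 ^ 2 * t ^ 2) * K8.two_eq
    obtain ⟨h1, h2, h3⟩ := fin (a2 ^ 4 + l * a1 ^ 4) (a2 + l * a1) (μ * ((l * c1) ^ 2 + l * c1 ^ 2))
      (by linear_combination hla 1) (by linear_combination hla K8.al)
      (by linear_combination hla (K8.al ^ 2) - (a2 + l * a1) * hal8)
    have hμ : μ = 0 := by
      have h4 : μ * (l * ((l + 1) * c1 ^ 2)) = 0 := by linear_combination h3
      rcases mul_eq_zero.1 h4 with h5 | h5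
      · exact h5
      · exact absurd h5 (mul_ne_zero hl0 (mul_ne_zero hl1 (pow_ne_zero _ hc)))
    have hl : ∀ l : K8, l ≠ 0 → l + 1 ≠ 0 → l ^ 4 + l ≠ 0 := by decide +kernel
    have ha1 : a1 = 0 := by
      have h4 : a2 = l * a1 := by linear_combination h2 - l * a1 * K8.two_eq
      have h5 : (l ^ 4 + l) * a1 ^ 4 = 0 := by
        rw [h4] at h1
        linear_combination h1
      rcases mul_eq_zero.1 h5 with h6 | h6
      · exact absurd h6 (hl l hl0 hl1)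
      · exact pow_eq_zero_iff (by norm_num) |>.1 h6
    subst ha1
    have ha2 : a2 = 0 := by linear_combination h2
    subst ha2 hμ
    have hq1 : ν + v1 = 0 := by
      unfold qf8 at hp
      simp only at hp
      have h4 : (ν + v1) * c1 = 0 := by linear_combination hp
      rcases mul_eq_zero.1 h4 with h5 | h5
      · exact h5
      · exact absurd h5 hc
    have hq2 : ν + v2 = 0 := by
      unfold qf8 at hr
      simp only at hr
      have h4 : (ν + v2) * (l * c1) = 0 := by linear_combination hr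
      rcases mul_eq_zero.1 h4 with h5 | h5
      · exact h5
      · exact absurd h5 hr2
    have hν : ν = 0 := by
      have h4 : (l + 1) * ν = 0 := by linear_combination l * hq1 + hq2 - hv
      rcases mul_eq_zero.1 h4 with h5 | h5
      · exact absurd h5 hl1
      · exact h5
    subst hν
    rw [zero_add] at hq1 hq2
    exact ⟨rfl, rfl, hq1, rfl, hq2, rfl⟩

namespace Core8

variable {G : Type*} [Group G] {C : Core8 G}

/-- an element of `Q` commuting with `v b`, `b ≠ 0`, lies in `T` -/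
theorem mem_TT_of_comm {x : G} (hx : x ∈ C.QQ) {b : K8} (hb : b ≠ 0) (h : x * C.v b = C.v b * x) : x ∈ C.TT := by
  obtain ⟨c, hc⟩ := hx
  have h1 := hc.2 b
  rw [h, mul_inv_cancel_right] at h1
  have h2 : C.z (c * b) = 1 := by
    exact (left_eq_mul.1 h1)
  have h3 := C.z_eq_one h2
  rcases mul_eq_zero.1 h3 with h4 | h4
  · rw [h4] at hc; exact hc
  · exact absurd h4 hb

theorem comm_v_of_mem_TT {x : G} (hx : x ∈ C.TT) (b : K8) : x * C.v b = C.v b * x := by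
  have h1 := hx.2 b
  rw [zero_mul, C.z_zero, mul_one] at h1
  exact mul_inv_eq_iff_eq_mul.1 h1

/-- an element of `Q` commuting with all of `Q` lies in `Z` -/
theorem eq_z_of_central {x : G} (hx : x ∈ C.QQ) (h : ∀ y ∈ C.QQ, x * y = y * x) : ∃ e, x = C.z e := by
  have hxT : x ∈ C.TT := mem_TT_of_comm hx (b := 1) one_ne_zero (h _ (TT_le (v_mem_TT _)))
  obtain ⟨b, a, e, rfl⟩ := TT_eq hxT
  have ha : a = 0 := by
    have key : ∀ c, a * c ^ 4 + a ^ 4 * c = 0 := by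
      intro c
      have h1 := h (C.U c 0) (TT_le (U_mem_TT c 0))
      have h2 : C.U a e * C.U c 0 * (C.U a e)⁻¹ = C.U c 0 := by
        rw [mul_inv_eq_iff_eq_mul]
        have h3 : C.v b * (C.U a e * C.U c 0) = C.v b * (C.U c 0 * C.U a e) := by
          rw [← mul_assoc, h1, ← mul_assoc, ← mul_assoc, C.v_U_comm]
        exact mul_left_cancel h3
      rw [C.U_conj] at h2
      have h4 := (C.U_inj h2).2
      linear_combination h4
    have fin : ∀ a : K8, a * 1 ^ 4 + a ^ 4 * 1 = 0 → a * K8.al ^ 4 + a ^ 4 * K8.al = 0 → a = 0 := by decide +kernel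
    exact fin a (key 1) (key K8.al)
  subst ha
  obtain ⟨w, hw⟩ := C.exists_act 1
  have h1 := h w ⟨1, hw⟩
  have h2 : w * C.v b * w⁻¹ = C.v b := by
    rw [mul_inv_eq_iff_eq_mul]
    have h3 : C.v b * w * C.U 0 e = w * C.v b * C.U 0 e := by
      rw [← C.z_eq, mul_assoc, hw.1, ← mul_assoc, C.z_eq, h1, mul_assoc]
    exact (mul_right_cancel h3).symm
  rw [hw.2] at h2
  have h3 : C.z (1 * b) = 1 := mul_eq_left.1 h2
  have h4 := C.z_eq_one h3
  rw [one_mul] at h4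
  subst h4
  exact ⟨e, by rw [C.v_zero, one_mul, C.z_eq]⟩

variable {g : G} (hg : ∀ x, x ∈ C.QQ ↔ g * x * g⁻¹ ∈ C.QQ)

include hg

theorem conj_z_of_norm (e : K8) : ∃ e', g * C.z e * g⁻¹ = C.z e' := by
  refine eq_z_of_central ((hg _).1 (z_mem_QQ e)) (fun y hy => ?_)
  have hy' : g⁻¹ * y * g ∈ C.QQ := by
    rw [hg]
    have : g * (g⁻¹ * y * g) * g⁻¹ = y := by group
    rwa [this]
  have h1 := zcomm hy' e
  calc g * C.z e * g⁻¹ * y = g * (C.z e * (g⁻¹ * y * g)) * g⁻¹ := by group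
    _ = g * (g⁻¹ * y * g * C.z e) * g⁻¹ := by rw [h1]
    _ = _ := by group

theorem norm_inv : ∀ x, x ∈ C.QQ ↔ g⁻¹ * x * g⁻¹⁻¹ ∈ C.QQ := by
  intro x
  have h1 := hg (g⁻¹ * x * g)
  have h2 : g * (g⁻¹ * x * g) * g⁻¹ = x := by group
  rw [h2] at h1
  rw [inv_inv]
  exact h1.symm

/-- enough: `v 1` goes to `E` -/
theorem norm_TT_of {b : K8} {e : K8} (h : g * C.v 1 * g⁻¹ = C.v b * C.z e) (x : G) :
    x ∈ C.TT ↔ g * x * g⁻¹ ∈ C.TT := by
  have hb : b ≠ 0 := by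
    rintro rfl
    rw [C.v_zero, one_mul] at h
    obtain ⟨e', he'⟩ := conj_z_of_norm (norm_inv hg) e
    rw [inv_inv, ← h] at he'
    have h1 : C.v 1 = C.z e' := by rw [← he']; group
    have h2 := C.v_notin 1 (by rw [h1]; exact C.z_mem _)
    exact one_ne_zero h2
  constructor
  · intro hx
    have h1 := comm_v_of_mem_TT hx 1
    refine mem_TT_of_comm ((hg _).1 (TT_le hx)) hb ?_
    have h2 : g * x * g⁻¹ * (C.v b * C.z e) = C.v b * C.z e * (g * x * g⁻¹) := by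
      rw [← h]
      calc g * x * g⁻¹ * (g * C.v 1 * g⁻¹) = g * (x * C.v 1) * g⁻¹ := by group
        _ = g * (C.v 1 * x) * g⁻¹ := by rw [h1]
        _ = _ := by group
    have h3 := zcomm ((hg _).1 (TT_le hx)) e
    have h4 : g * x * g⁻¹ * C.v b * C.z e = C.v b * (g * x * g⁻¹) * C.z e := by
      rw [mul_assoc (C.v b), h3, ← mul_assoc (C.v b), ← h2, mul_assoc]
    exact mul_right_cancel h4
  · intro hx
    have hxQ : x ∈ C.QQ := (hg _).2 (TT_le hx)
    refine mem_TT_of_comm hxQ (b := 1) one_ne_zero ?_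
    have h1 := comm_v_of_mem_TT hx b
    have h2 : g * x * g⁻¹ * (C.v b * C.z e) = C.v b * C.z e * (g * x * g⁻¹) := by
      rw [← mul_assoc, h1, mul_assoc, hx.1 e, ← mul_assoc]
    rw [← h] at h2
    calc x * C.v 1 = g⁻¹ * (g * x * g⁻¹ * (g * C.v 1 * g⁻¹)) * g := by group
      _ = g⁻¹ * (g * C.v 1 * g⁻¹ * (g * x * g⁻¹)) * g := by rw [h2]
      _ = _ := by group

/-- the good case -/
theorem norm_TT_coord (K : Coord8 C) : (∀ x, x ∈ C.TT ↔ g * x * g⁻¹ ∈ C.TT) ∨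
    (K.ν = 0 ∧ K.μ = 0 ∧ ∀ b, (K.π (g * C.v b * g⁻¹)).1 = 0 ∧ (K.π (g * C.v b * g⁻¹)).2.1 = 0) := by
  have hgv : ∀ b, g * C.v b * g⁻¹ ∈ C.QQ := fun b => (hg _).1 (TT_le (v_mem_TT b))
  have hq : ∀ b, qf8 K.ν K.μ (K.π (g * C.v b * g⁻¹)) = 0 := by
    intro b
    have h1 := K.sq _ (hgv b)
    have h2 : g * C.v b * g⁻¹ * (g * C.v b * g⁻¹) = 1 := by
      calc g * C.v b * g⁻¹ * (g * C.v b * g⁻¹) = g * (C.v b * C.v b) * g⁻¹ := by group
        _ = 1 := by rw [C.v_sq]; group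
    rw [h2] at h1
    exact C.z_eq_one h1.symm
  -- kernels
  have hker : ∀ b, b ≠ 0 → ∀ y ∈ C.QQ, (bf8 K.μ (K.π (g * C.v b * g⁻¹)) (K.π y) = 0 ↔ g⁻¹ * y * g ∈ C.TT) := by
    intro b hb y hy
    have hy' : g⁻¹ * y * g ∈ C.QQ := by
      have := (norm_inv hg y).1 hy
      rwa [inv_inv] at this
    have h1 := K.comm (hgv b) hy
    constructor
    · intro h0
      rw [h0, C.z_zero, mul_one] at h1
      refine mem_TT_of_comm hy' hb ?_
      calc g⁻¹ * y * g * C.v b = g⁻¹ * (y * (g * C.v b * g⁻¹)) * g := by group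
        _ = g⁻¹ * (g * C.v b * g⁻¹ * y) * g := by rw [h1]
        _ = _ := by group
    · intro h0
      have h2 := comm_v_of_mem_TT h0 b
      have h3 : g * C.v b * g⁻¹ * y = y * (g * C.v b * g⁻¹) := by
        calc g * C.v b * g⁻¹ * y = g * (C.v b * (g⁻¹ * y * g)) * g⁻¹ := by group
          _ = g * (g⁻¹ * y * g * C.v b) * g⁻¹ := by rw [h2]
          _ = _ := by group
      rw [h3] at h1
      exact C.z_eq_one (left_eq_mul.1 h1)
  have hsum : ∀ b b', K.π (g * C.v b * g⁻¹) + K.π (g * C.v b' * g⁻¹) = K.π (g * C.v (b + b') * g⁻¹) := by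
    intro b b'
    rw [← K.mul _ (hgv _) _ (hgv _)]
    congr 1
    rw [C.v_add]; group
  have hpair : ∀ b b', b ≠ 0 → b' ≠ 0 → b + b' ≠ 0 → ((K.π (g * C.v b * g⁻¹)).2 = 0 ∧ (K.π (g * C.v b' * g⁻¹)).2 = 0) ∨
      (K.ν = 0 ∧ K.μ = 0 ∧ (K.π (g * C.v b * g⁻¹)).1 = 0 ∧ (K.π (g * C.v b * g⁻¹)).2.1 = 0 ∧
        (K.π (g * C.v b' * g⁻¹)).1 = 0 ∧ (K.π (g * C.v b' * g⁻¹)).2.1 = 0) := by
    intro b b' hb hb' hbb
    refine plane_unique (hq _) (hq _) ?_ ?_
    · intro s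
      obtain ⟨y, hy, rfl⟩ := K.surj s
      rw [hker _ hb y hy, hker _ hb' y hy]
    · intro s
      obtain ⟨y, hy, rfl⟩ := K.surj s
      rw [hsum, hker _ hbb y hy, hker _ hb y hy]
      exact id
  by_cases h0 : (K.π (g * C.v 1 * g⁻¹)).2 = 0
  · left
    have h1 : (K.π (g * C.v 1 * g⁻¹)) = K.π (C.v (K.π (g * C.v 1 * g⁻¹)).1) := by
      rw [K.v]
      exact Prod.ext rfl h0
    obtain ⟨e, he⟩ := K.eq_mul_z (hgv _) (TT_le (v_mem_TT _)) h1
    exact norm_TT_of hg he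
  · right
    have h2 : ∀ b, b ≠ 0 → 1 + b ≠ 0 → (K.ν = 0 ∧ K.μ = 0 ∧ (K.π (g * C.v 1 * g⁻¹)).1 = 0 ∧ (K.π (g * C.v 1 * g⁻¹)).2.1 = 0 ∧
        (K.π (g * C.v b * g⁻¹)).1 = 0 ∧ (K.π (g * C.v b * g⁻¹)).2.1 = 0) := by
      intro b hb hb1
      rcases hpair 1 b one_ne_zero hb hb1 with h3 | h3
      · exact absurd h3.1 h0
      · exact h3
    have h3 := h2 K8.al (by decide +kernel) (by decide +kernel)
    refine ⟨h3.1, h3.2.1, fun b => ?_⟩
    by_cases hb : b = 0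
    · subst hb
      rw [C.v_zero, mul_one, mul_inv_cancel, K.one]
      exact ⟨rfl, rfl⟩
    · by_cases hb1 : 1 + b = 0
      · have : b = 1 := by linear_combination hb1 - K8.two_eq
        subst this
        exact ⟨h3.2.2.1, h3.2.2.2.1⟩
      · have h4 := h2 b hb hb1
        exact ⟨h4.2.2.2.2.1, h4.2.2.2.2.2⟩

end Core8

end Cfsg.Agent.Ru8
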