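import Cfsg.Agent.Ru8.NormTQ8
import Cfsg.Agent.Ru8.Count8
import Cfsg.Agent.RuRed.PairBasic
import Cfsg.Agent.SmallSimple.SylowMaxInter

/-!
# `|R| = 8`: strongly closed centre (tools)
-/

set_option autoImplicit false

namespace Cfsg.Agent.Ru8

open Cfsg.Agent.RuB (K8)
open Cfsg.Agent
open Subgroup

namespace Core8

variable {G : Type*} [Group G] {C : Core8 G}

/-! ### orders -/

theorem card_QQ (K : Coord8 C) : Nat.card C.QQ = 4096 := by
  have h := K.surj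
  choose s hs hπ using h
  have e : Nat.card ((K8 × K8 × K8) × K8) = 4096 := by
    rw [Nat.card_prod, Nat.card_prod, Nat.card_prod, K8.natCard]
  rw [← e]
  symm
  refine Nat.card_congr (Equiv.ofBijective (fun p : (K8 × K8 × K8) × K8 =>
    (⟨s p.1 * C.z p.2, mul_mem (hs _) (z_mem_QQ _)⟩ : C.QQ)) ⟨?_, ?_⟩)
  · rintro ⟨p, e⟩ ⟨r, f⟩ h
    have h1 : s p * C.z e = s r * C.z f := congrArg Subtype.val h
    have h2 : p = r := by
      have h3 := congrArg K.π h1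
      rw [K.mul _ (hs _) _ (z_mem_QQ _), K.mul _ (hs _) _ (z_mem_QQ _), K.z, K.z, add_zero, add_zero, hπ, hπ] at h3
      exact h3
    subst h2
    have h3 := C.z_inj (mul_left_cancel h1)
    rw [h3]
  · rintro ⟨x, hx⟩
    obtain ⟨e, he⟩ := K.eq_mul_z hx (hs (K.π x)) (hπ _).symm
    exact ⟨(K.π x, e), Subtype.ext he.symm⟩

theorem pow_four_QQ (K : Coord8 C) {x : G} (hx : x ∈ C.QQ) : x ^ 2 ^ 2 = 1 := by
  have h := K.sq x hx
  have e : x ^ 2 ^ 2 = (x * x) * (x * x) := by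
    rw [show (2 : ℕ) ^ 2 = 2 * 2 from rfl, pow_mul, pow_two, pow_two]
  rw [e, h, C.z_sq]

theorem two_QQ (K : Coord8 C) : IsPGroup 2 C.QQ := by
  rintro ⟨x, hx⟩
  exact ⟨2, Subtype.ext (pow_four_QQ K hx)⟩

/-- `V × L` -/
def VL (C : Core8 G) : Subgroup G where
  carrier := {x | ∃ b, ∃ l ∈ C.L, x = C.v b * l}
  mul_mem' := by
    rintro _ _ ⟨b, l, hl, rfl⟩ ⟨c, m, hm, rfl⟩
    refine ⟨b + c, l * m, mul_mem hl hm, ?_⟩
    rw [C.v_add]
    have := C.v_comm c l hl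
    calc C.v b * l * (C.v c * m) = C.v b * (l * C.v c) * m := by group
      _ = C.v b * (C.v c * l) * m := by rw [this]
      _ = _ := by group
  one_mem' := ⟨0, 1, one_mem _, by rw [C.v_zero, one_mul]⟩
  inv_mem' := by
    rintro _ ⟨b, l, hl, rfl⟩
    refine ⟨b, l⁻¹, inv_mem hl, ?_⟩
    rw [mul_inv_rev, C.v_inv, C.v_comm b _ (inv_mem hl)]

theorem card_VL : Nat.card C.VL = 232960 := by
  have e : Nat.card (K8 × C.L) = 232960 := by
    rw [Nat.card_prod, K8.natCard, Count8.card_L]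
  rw [← e]
  symm
  refine Nat.card_congr (Equiv.ofBijective (fun p : K8 × C.L =>
    (⟨C.v p.1 * p.2, ⟨p.1, p.2, p.2.2, rfl⟩⟩ : C.VL)) ⟨?_, ?_⟩)
  · rintro ⟨b, l⟩ ⟨c, m⟩ h
    have h1 : C.v b * l = C.v c * m := congrArg Subtype.val h
    obtain ⟨h2, h3⟩ := C.vl_inj l.2 m.2 h1
    exact Prod.ext h2 (Subtype.ext h3)
  · rintro ⟨x, b, l, hl, rfl⟩
    exact ⟨(b, ⟨l, hl⟩), rfl⟩

/-- no element of `Z` is conjugate to an element of `V` -/
theorem not_conj_v (K : Coord8 C) {e b : K8} (hb : b ≠ 0) (g : G) : g * C.z e * g⁻¹ ≠ C.v b := by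
  intro h
  let f : C.QQ →* G := (MulAut.conj g).toMonoidHom.comp C.QQ.subtype
  have hf : ∀ x : C.QQ, f x = g * x * g⁻¹ := fun x => rfl
  have hinj : Function.Injective f := by
    intro x y hxy
    rw [hf, hf] at hxy
    exact Subtype.ext (mul_left_cancel (mul_right_cancel hxy))
  have h1 : f.range ≤ C.VL := by
    rintro _ ⟨⟨x, hx⟩, rfl⟩
    rw [hf]
    refine Count8.cent_two hb (n := 2) ?_ ?_
    · show (g * x * g⁻¹) ^ 2 ^ 2 = 1
      rw [conj_pow, pow_four_QQ K hx]; group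
    · show g * x * g⁻¹ * C.v b = C.v b * (g * x * g⁻¹)
      have h2 := zcomm hx e
      rw [← h]
      calc g * x * g⁻¹ * (g * C.z e * g⁻¹) = g * (x * C.z e) * g⁻¹ := by group
        _ = g * (C.z e * x) * g⁻¹ := by rw [h2]
        _ = _ := by group
  have h2 := card_dvd_of_le h1
  have h3 : Nat.card f.range = 4096 := by
    rw [← card_QQ K]
    exact (Nat.card_congr (MonoidHom.ofInjective hinj).toEquiv).symm
  rw [h3, card_VL] at h2
  exact absurd h2 (by norm_num)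

/-- involutions of `E \ Z` are not conjugate into `Z` -/
theorem not_conj_vz (K : Coord8 C) {e e' b : K8} (hb : b ≠ 0) (g : G) : g * C.z e * g⁻¹ ≠ C.v b * C.z e' := by
  intro h
  obtain ⟨w, hw⟩ := C.exists_act (e' * b⁻¹)
  have h1 := hw.2 b
  rw [inv_mul_cancel_right₀ hb] at h1
  apply not_conj_v K hb (w⁻¹ * g) (e := e)
  calc w⁻¹ * g * C.z e * (w⁻¹ * g)⁻¹ = w⁻¹ * (g * C.z e * g⁻¹) * w := by group
    _ = w⁻¹ * (w * C.v b * w⁻¹) * w := by rw [h, h1]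
    _ = C.v b := by group

theorem noV (K : Coord8 C) : Count8.NoV C := by
  intro g b h
  by_cases hb : b = 0
  · subst hb
    rw [C.v_zero] at h
    have h1 : C.z 1 = 1 := by
      calc C.z 1 = g⁻¹ * (g * C.z 1 * g⁻¹) * g := by group
        _ = 1 := by rw [h]; group
    exact one_ne_zero (C.z_eq_one h1)
  · exact not_conj_v K hb g h

/-! ### the fusion lemma -/

theorem span5 : ∀ a b : K8, a ≠ 0 → b ≠ 0 → a ≠ b → ∀ e : K8, e = 0 ∨ e = a ^ 5 ∨ e = b ^ 5 ∨ e = (a + b) ^ 5 ∨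
    e = a ^ 5 + b ^ 5 ∨ e = a ^ 5 + (a + b) ^ 5 ∨ e = b ^ 5 + (a + b) ^ 5 ∨ e = a ^ 5 + b ^ 5 + (a + b) ^ 5 := by
  decide +kernel

theorem fusion [Finite G] (K : Coord8 C) (P : Sylow 2 G)
    (hc : ∀ x ∈ P, ∀ b, x * C.z b = C.z b * x)
    (h2 : ∀ x ∈ P, ∀ y ∈ P, x ∉ C.QQ → y ∉ C.QQ → x * y ∈ C.QQ) {g y : G} (hy : y = g * C.z 1 * g⁻¹)
    (hx : ∀ a, ∃ b e, C.v b * C.U a e * y = y * (C.v b * C.U a e)) : ∃ e, y = C.z e := by
  have : Fact (Nat.Prime 2) := ⟨Nat.prime_two⟩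
  -- the group `D`
  let D : Subgroup G := C.QQ ⊓ centralizer {y}
  have hD : ∀ x, x ∈ D ↔ x ∈ C.QQ ∧ x * y = y * x := by
    intro x
    rw [mem_inf, mem_centralizer_singleton_iff]
  have hD2 : IsPGroup 2 D := (two_QQ K).to_le inf_le_left
  let R : Subgroup G := (P : Subgroup G).map (MulAut.conj g).toMonoidHom
  have hR : ∀ x, x ∈ R ↔ g⁻¹ * x * g ∈ P := by
    intro x
    constructor
    · rintro ⟨a, ha, rfl⟩
      have : g⁻¹ * (MulAut.conj g).toMonoidHom a * g = a := by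
        show g⁻¹ * (g * a * g⁻¹) * g = a
        group
      rw [this]; exact ha
    · intro h
      refine ⟨g⁻¹ * x * g, h, ?_⟩
      show g * (g⁻¹ * x * g) * g⁻¹ = x
      group
  have hR2 : IsPGroup 2 R := P.2.map _
  have hRle : R ≤ centralizer {y} := by
    intro x hx
    rw [hR] at hx
    rw [mem_centralizer_singleton_iff, hy]
    have h3 := hc _ hx 1
    calc x * (g * C.z 1 * g⁻¹) = g * (g⁻¹ * x * g * C.z 1) * g⁻¹ := by group
      _ = g * (C.z 1 * (g⁻¹ * x * g)) * g⁻¹ := by rw [h3]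
      _ = _ := by group
  have hRmax : ∀ T : Subgroup G, IsPGroup 2 T → T ≤ centralizer {y} → R ≤ T → T = R := by
    intro T hT _ hRT
    have h4 : (P : Subgroup G) ≤ T.map (MulAut.conj g⁻¹).toMonoidHom := by
      intro x hx
      refine ⟨g * x * g⁻¹, hRT ((hR _).2 ?_), ?_⟩
      · have : g⁻¹ * (g * x * g⁻¹) * g = x := by group
        rw [this]; exact hx
      · show g⁻¹ * (g * x * g⁻¹) * g⁻¹⁻¹ = x
        group
    have h5 := P.3 (hT.map _) h4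
    apply le_antisymm _ hRT
    intro x hx
    rw [hR]
    have h6 : g⁻¹ * x * g ∈ T.map (MulAut.conj g⁻¹).toMonoidHom := by
      refine ⟨x, hx, ?_⟩
      show g⁻¹ * x * g⁻¹⁻¹ = _
      group
    rw [h5] at h6
    exact h6
  obtain ⟨d, hd, hdD⟩ := RuRed.conj_into hR2 hRle hRmax hD2 inf_le_right
  rw [mem_centralizer_singleton_iff] at hd
  -- `m = g⁻¹ d`
  set m := g⁻¹ * d with hm
  have hmD : ∀ x ∈ D, m * x * m⁻¹ ∈ P := by
    intro x hx
    have h3 := (hR _).1 (hdD x hx)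
    have e : m * x * m⁻¹ = g⁻¹ * (d * x * d⁻¹) * g := by rw [hm]; group
    rw [e]; exact h3
  have hmy : m * y * m⁻¹ = C.z 1 := by
    have h3 : d * y * d⁻¹ = y := by rw [hd]; group
    calc m * y * m⁻¹ = g⁻¹ * (d * y * d⁻¹) * g := by rw [hm]; group
      _ = C.z 1 := by rw [h3, hy]; group
  -- the set `A`
  let A : K8 → Prop := fun a => ∃ b e, C.v b * C.U a e ∈ D ∧ m * (C.v b * C.U a e) * m⁻¹ ∈ C.QQ
  have hxD : ∀ a, ∃ b e, C.v b * C.U a e ∈ D := by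
    intro a
    obtain ⟨b, e, h⟩ := hx a
    exact ⟨b, e, (hD _).2 ⟨TT_le mem_TT_of, h⟩⟩
  have hA2 : ∀ a b, ¬ A a → ¬ A b → A (a + b) := by
    intro a b ha hb
    obtain ⟨b1, e1, h1⟩ := hxD a
    obtain ⟨b2, e3, h3⟩ := hxD b
    have h4 : m * (C.v b1 * C.U a e1) * m⁻¹ ∉ C.QQ := fun h => ha ⟨b1, e1, h1, h⟩
    have h5 : m * (C.v b2 * C.U b e3) * m⁻¹ ∉ C.QQ := fun h => hb ⟨b2, e3, h3, h⟩
    have h6 := h2 _ (hmD _ h1) _ (hmD _ h3) h4 h5
    refine ⟨b1 + b2, e1 + e3 + a * b ^ 4, ?_, ?_⟩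
    · rw [← T_mul]; exact mul_mem h1 h3
    · rw [← T_mul]
      have e : m * (C.v b1 * C.U a e1 * (C.v b2 * C.U b e3)) * m⁻¹ =
        (m * (C.v b1 * C.U a e1) * m⁻¹) * (m * (C.v b2 * C.U b e3) * m⁻¹) := by group
      rw [e]; exact h6
  have hA : ∃ a b, a ≠ 0 ∧ b ≠ 0 ∧ a ≠ b ∧ A a ∧ A b := by
    have n1 : (1 : K8) ≠ 0 := one_ne_zero
    have n2 : K8.al ≠ 0 := by decide +kernel
    have n3 : K8.al ^ 2 ≠ 0 := by decide +kernel
    have n12 : (1 : K8) + K8.al ≠ 0 := by decide +kernel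
    have n23 : K8.al + K8.al ^ 2 ≠ 0 := by decide +kernel
    have n13 : 1 + K8.al ^ 2 ≠ 0 := by decide +kernel
    by_cases h1 : A 1
    · by_cases h3 : A K8.al
      · exact ⟨_, _, n1, n2, by decide +kernel, h1, h3⟩
      · by_cases h4 : A (K8.al ^ 2)
        · exact ⟨_, _, n1, n3, by decide +kernel, h1, h4⟩
        · exact ⟨_, _, n1, n23, by decide +kernel, h1, hA2 _ _ h3 h4⟩
    · by_cases h3 : A K8.al
      · by_cases h4 : A (K8.al ^ 2)
        · exact ⟨_, _, n2, n3, by decide +kernel, h3, h4⟩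
        · exact ⟨_, _, n2, n13, by decide +kernel, h3, hA2 _ _ h1 h4⟩
      · by_cases h4 : A (K8.al ^ 2)
        · exact ⟨_, _, n12, n3, by decide +kernel, hA2 _ _ h1 h3, h4⟩
        · exact ⟨_, _, n12, n13, by decide +kernel, hA2 _ _ h1 h3, hA2 _ _ h1 h4⟩
  -- the set `B`
  let B : K8 → Prop := fun e => ∃ f, m * C.z e * m⁻¹ = C.z f
  have hBadd : ∀ a b, B a → B b → B (a + b) := by
    rintro a b ⟨f, hf⟩ ⟨f', hf'⟩
    refine ⟨f + f', ?_⟩
    rw [C.z_add, C.z_add, ← hf, ← hf']; group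
  have hAB : ∀ a, A a → B (a ^ 5) := by
    rintro a ⟨b, e, -, h4⟩
    have h5 := K.sq _ h4
    have e1 : m * (C.v b * C.U a e) * m⁻¹ * (m * (C.v b * C.U a e) * m⁻¹) =
      m * (C.v b * C.U a e * (C.v b * C.U a e)) * m⁻¹ := by group
    rw [e1, T_sq] at h5
    exact ⟨_, h5⟩
  obtain ⟨a, b, ha0, hb0, hab, hAa, hAb⟩ := hA
  have hBall : ∀ e, B e := by
    have h3 := hAB _ hAa
    have h4 := hAB _ hAb
    have h5 : B ((a + b) ^ 5) := by
      apply hAB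
      obtain ⟨b1, e1, h5, h6⟩ := hAa
      obtain ⟨b2, e3, h7, h8⟩ := hAb
      refine ⟨b1 + b2, e1 + e3 + a * b ^ 4, ?_, ?_⟩
      · rw [← T_mul]; exact mul_mem h5 h7
      · rw [← T_mul]
        have e : m * (C.v b1 * C.U a e1 * (C.v b2 * C.U b e3)) * m⁻¹ =
          (m * (C.v b1 * C.U a e1) * m⁻¹) * (m * (C.v b2 * C.U b e3) * m⁻¹) := by group
        rw [e]; exact mul_mem h6 h8
    intro e
    rcases span5 a b ha0 hb0 hab e with h | h | h | h | h | h | h | h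
    · rw [h]; exact ⟨0, by rw [C.z_zero]; group⟩
    · rw [h]; exact h3
    · rw [h]; exact h4
    · rw [h]; exact h5
    · rw [h]; exact hBadd _ _ h3 h4
    · rw [h]; exact hBadd _ _ h3 h5
    · rw [h]; exact hBadd _ _ h4 h5
    · rw [h]; exact hBadd _ _ (hBadd _ _ h3 h4) h5
  choose r hr using hBall
  have hinj : Function.Injective r := by
    intro e f h
    have h3 := hr e
    rw [h, ← hr f] at h3
    exact C.z_inj (mul_left_cancel (mul_right_cancel h3))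
  obtain ⟨e, he⟩ := (Finite.injective_iff_surjective.1 hinj) 1
  refine ⟨e, ?_⟩
  have h3 := hr e
  rw [he, ← hmy] at h3
  exact (mul_left_cancel (mul_right_cancel h3)).symm

/-- elements of `Q` conjugate to `z 1` lie in `Z` -/
theorem fusion_QQ [Finite G] (K : Coord8 C) (P : Sylow 2 G)
    (hc : ∀ x ∈ P, ∀ b, x * C.z b = C.z b * x)
    (h2 : ∀ x ∈ P, ∀ y ∈ P, x ∉ C.QQ → y ∉ C.QQ → x * y ∈ C.QQ) {g y : G} (hy : y = g * C.z 1 * g⁻¹)
    (hyQ : y ∈ C.QQ) : ∃ e, y = C.z e := by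
  by_cases h0 : (K.π y).2.2 = 0
  · have hyT := (K.mem_TT_iff hyQ).2 h0
    obtain ⟨b, a, e, hbae⟩ := TT_eq hyT
    have hyy : y * y = 1 := by
      rw [hy]
      calc g * C.z 1 * g⁻¹ * (g * C.z 1 * g⁻¹) = g * (C.z 1 * C.z 1) * g⁻¹ := by group
        _ = 1 := by rw [C.z_sq]; group
    rw [hbae, T_sq] at hyy
    have ha := pow5_eq_zero _ (C.z_eq_one hyy)
    subst ha
    by_cases hb : b = 0
    · subst hb
      exact ⟨e, by rw [hbae, C.v_zero, one_mul, C.z_eq]⟩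
    · exfalso
      rw [hy, ← C.z_eq] at hbae
      exact not_conj_vz K hb g hbae
  · refine fusion K P hc h2 hy (fun a => ?_)
    -- solve for `b`
    generalize hp : K.π y = p at h0
    obtain ⟨b0, a0, c0⟩ := p
    simp only at h0
    refine ⟨((a0 ^ 4 * a + a0 * a ^ 4) + K.μ * (c0 ^ 2 * a ^ 2)) * c0⁻¹, 0, ?_⟩
    rw [K.comm (TT_le mem_TT_of) hyQ, K.vU, hp]
    have h3 : bf8 K.μ (((a0 ^ 4 * a + a0 * a ^ 4) + K.μ * (c0 ^ 2 * a ^ 2)) * c0⁻¹, a, 0) (b0, a0, c0) = 0 := by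
      unfold bf8
      simp only
      rw [inv_mul_cancel_right₀ h0]
      linear_combination ((a0 ^ 4 * a + a0 * a ^ 4) + K.μ * (c0 ^ 2 * a ^ 2)) * K8.two_eq
    rw [h3, C.z_zero, mul_one]

end Core8

end Cfsg.Agent.Ru8
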