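import Cfsg.Agent.Ru8.Sc8

/-!
# `|R| = 8`, good case: elements swapping `V` and the third axis
-/

set_option autoImplicit false

namespace Cfsg.Agent.Ru8

open Cfsg.Agent.RuB (K8)
open Cfsg.Agent
open Subgroup

namespace Core8

variable {G : Type*} [Group G] {C : Core8 G}

/-- swapping elements -/
def Swp (K : Coord8 C) (g : G) : Prop :=
  ∀ b, (K.π (g * C.v b * g⁻¹)).1 = 0 ∧ (K.π (g * C.v b * g⁻¹)).2.1 = 0

section one

variable (K : Coord8 C) {g : G} (hg : ∀ x, x ∈ C.QQ ↔ g * x * g⁻¹ ∈ C.QQ)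

include hg

theorem swp_ne (hs : Swp K g) {b : K8} (hb : b ≠ 0) : (K.π (g * C.v b * g⁻¹)).2.2 ≠ 0 := by
  intro h
  have h1 : K.π (g * C.v b * g⁻¹) = 0 := Prod.ext (hs b).1 (Prod.ext (hs b).2 h)
  obtain ⟨e, he⟩ := K.ker _ ((hg _).1 (TT_le (v_mem_TT b))) h1
  obtain ⟨e', he'⟩ := conj_z_of_norm (norm_inv hg) e
  rw [inv_inv, ← he] at he'
  have h2 : C.v b = C.z e' := by rw [← he']; group
  exact hb (C.v_notin b (by rw [h2]; exact C.z_mem _))

theorem not_norm_of_swp (hs : Swp K g) : ¬ ∀ x, x ∈ C.TT ↔ g * x * g⁻¹ ∈ C.TT := by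
  intro h
  have h1 := (h _).1 (v_mem_TT 1)
  rw [K.mem_TT_iff ((hg _).1 (TT_le (v_mem_TT 1)))] at h1
  exact swp_ne K hg hs one_ne_zero h1

theorem swp_inv (hs : Swp K g) : Swp K g⁻¹ := by
  rcases norm_TT_coord (norm_inv hg) K with h | h
  · exfalso
    apply not_norm_of_swp K hg hs
    have := normTT_inv h
    rwa [inv_inv] at this
  · exact h.2.2

theorem swp_add (b b' : K8) : K.π (g * C.v (b + b') * g⁻¹) = K.π (g * C.v b * g⁻¹) + K.π (g * C.v b' * g⁻¹) := by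
  rw [← K.mul _ ((hg _).1 (TT_le (v_mem_TT b))) _ ((hg _).1 (TT_le (v_mem_TT b')))]
  congr 1
  rw [C.v_add]; group

theorem swp_surj (hs : Swp K g) (c : K8) : ∃ b, K.π (g * C.v b * g⁻¹) = (0, 0, c) := by
  have hinj : Function.Injective (fun b => (K.π (g * C.v b * g⁻¹)).2.2) := by
    intro b b' h
    by_contra hne
    have h1 : b + b' ≠ 0 := fun h0 => hne (add_eq_zero8 h0)
    apply swp_ne K hg hs h1
    rw [swp_add K hg]
    show (K.π (g * C.v b * g⁻¹)).2.2 + (K.π (g * C.v b' * g⁻¹)).2.2 = 0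
    have h2 : (K.π (g * C.v b * g⁻¹)).2.2 = (K.π (g * C.v b' * g⁻¹)).2.2 := h
    rw [h2, K8.add_self]
  obtain ⟨b, hb⟩ := (Finite.injective_iff_surjective.1 hinj) c
  exact ⟨b, Prod.ext (hs b).1 (Prod.ext (hs b).2 hb)⟩

/-- elements with coordinates `(0, 0, c)` go to `E` -/
theorem swp_c (hs : Swp K g) {x : G} (hx : x ∈ C.QQ) (h : (K.π x).1 = 0 ∧ (K.π x).2.1 = 0) :
    ∃ b e, g * x * g⁻¹ = C.v b * C.z e := by
  obtain ⟨b, hb⟩ := swp_surj K (norm_inv hg) (swp_inv K hg hs) (K.π x).2.2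
  rw [inv_inv] at hb
  have hb' : g⁻¹ * C.v b * g ∈ C.QQ := by
    have := (norm_inv hg _).1 (TT_le (v_mem_TT (C := C) b))
    rwa [inv_inv] at this
  obtain ⟨e, he⟩ := K.eq_mul_z hx hb' (by rw [hb]; exact Prod.ext h.1 (Prod.ext h.2 rfl))
  obtain ⟨e', he'⟩ := conj_z_of_norm hg e
  refine ⟨b, e', ?_⟩
  rw [he, ← he']; group

theorem swp_mul {h : G} (hh : ∀ x, x ∈ C.QQ ↔ h * x * h⁻¹ ∈ C.QQ) (hs : Swp K g) (hs' : Swp K h) :
    ∀ x, x ∈ C.TT ↔ (h * g) * x * (h * g)⁻¹ ∈ C.TT := by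
  obtain ⟨b, e, hbe⟩ := swp_c K hh hs' ((hg _).1 (TT_le (v_mem_TT 1))) (hs 1)
  refine norm_TT_of (fun x => ?_) (b := b) (e := e) ?_
  · rw [hg x, hh]
    have : h * (g * x * g⁻¹) * h⁻¹ = h * g * x * (h * g)⁻¹ := by group
    rw [this]
  · rw [← hbe]; group

end one

/-- the normal form of a swapping element -/
structure SD (K : Coord8 C) (g : G) (l : K8) : Prop where
  ν : K.ν = 0
  μ : K.μ = 0
  norm : ∀ x, x ∈ C.QQ ↔ g * x * g⁻¹ ∈ C.QQ
  z : ∀ e, g * C.z e * g⁻¹ = C.z e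
  l0 : l ≠ 0
  pi : ∀ x ∈ C.QQ, K.π (g * x * g⁻¹) = ((K.π x).2.2 * l⁻¹, (K.π x).2.1, l * (K.π x).1)

theorem exists_SD (K : Coord8 C) {g : G} (hg : ∀ x, x ∈ C.QQ ↔ g * x * g⁻¹ ∈ C.QQ)
    (hn : ¬ ∀ x, x ∈ C.TT ↔ g * x * g⁻¹ ∈ C.TT) (hsq : g * g ∈ C.QQ) : ∃ l, SD K g l := by
  obtain ⟨hν, hμ, hs⟩ : K.ν = 0 ∧ K.μ = 0 ∧ Swp K g := by
    rcases norm_TT_coord hg K with h | h
    · exact absurd h hn
    · exact h
  have hr := conj_z_of_norm hg
  choose r hr using hr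
  have hv : ∀ b, K.π (g * C.v b * g⁻¹) = (0, 0, (K.π (g * C.v b * g⁻¹)).2.2) := fun b =>
    Prod.ext (hs b).1 (Prod.ext (hs b).2 rfl)
  set s : K8 → K8 := fun b => (K.π (g * C.v b * g⁻¹)).2.2 with hsdef
  have hvQ : ∀ b, C.v b ∈ C.QQ := fun b => TT_le (v_mem_TT b)
  have hw := fun c : K8 => K.surj (0, 0, c)
  choose w hwQ hwπ using hw
  have ht : ∀ c, ∃ b e, g * w c * g⁻¹ = C.v b * C.z e := fun c =>
    swp_c K hg hs (hwQ c) (by rw [hwπ]; exact ⟨rfl, rfl⟩)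
  choose t ε ht using ht
  have htπ : ∀ c, K.π (g * w c * g⁻¹) = (t c, 0, 0) := by
    intro c
    rw [ht, K.mul _ (hvQ _) _ (z_mem_QQ _), K.v, K.z, add_zero]
  obtain ⟨c0, hc0⟩ := id hsq
  have hrr : ∀ b, r (r b) = b := by
    intro b
    apply C.z_inj
    rw [← hr, ← hr]
    have := hc0.conj_z b
    calc g * (g * C.z b * g⁻¹) * g⁻¹ = g * g * C.z b * (g * g)⁻¹ := by group
      _ = _ := this
  have hradd : ∀ a b, r (a + b) = r a + r b := by
    intro a b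
    apply C.z_inj
    rw [← hr, C.z_add, C.z_add, ← hr, ← hr]; group
  have hts : ∀ b, t (s b) = b := by
    intro b
    obtain ⟨e, he⟩ := K.eq_mul_z ((hg _).1 (hvQ b)) (hwQ (s b)) (by rw [hwπ]; exact hv b)
    have h1 : g * (g * C.v b * g⁻¹) * g⁻¹ = C.v b * C.z (c0 * b) := by
      rw [← hc0.2]; group
    rw [he] at h1
    have h2 : g * (w (s b) * C.z e) * g⁻¹ = C.v (t (s b)) * C.z (ε (s b) + r e) := by
      calc g * (w (s b) * C.z e) * g⁻¹ = (g * w (s b) * g⁻¹) * (g * C.z e * g⁻¹) := by group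
        _ = _ := by rw [ht, hr, mul_assoc, C.z_add]
    rw [h2] at h1
    exact (C.vl_inj (C.z_mem _) (C.z_mem _) h1).1
  have hrst : ∀ b c, r (b * c) = s b * t c := by
    intro b c
    have h1 := K.comm (hvQ b) (hwQ c)
    rw [K.v, hwπ] at h1
    have e1 : bf8 K.μ (b, 0, 0) (0, 0, c) = b * c := by
      unfold bf8; simp only; ring
    rw [e1] at h1
    have h2 := K.comm ((hg _).1 (hvQ b)) ((hg _).1 (hwQ c))
    rw [hv, htπ] at h2
    have e2 : bf8 K.μ (0, 0, s b) (t c, 0, 0) = s b * t c := by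
      unfold bf8; simp only; ring
    have e3 : bf8 K.μ (0, 0, (K.π (g * C.v b * g⁻¹)).2.2) (t c, 0, 0) = s b * t c := e2
    rw [e3] at h2
    have h3 : g * C.v b * g⁻¹ * (g * w c * g⁻¹) = g * w c * g⁻¹ * (g * C.v b * g⁻¹) * C.z (r (b * c)) := by
      rw [← hr]
      calc g * C.v b * g⁻¹ * (g * w c * g⁻¹) = g * (C.v b * w c) * g⁻¹ := by group
        _ = g * (w c * C.v b * C.z (b * c)) * g⁻¹ := by rw [h1]
        _ = _ := by group
    rw [h2] at h3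
    exact (C.z_inj (mul_left_cancel h3)).symm
  have hid : ∀ b, r b = b := semi_id hradd hrr (by
    intro b c
    have e1 := hrst c b
    have e2 := hrst c 1
    have e3 := hrst 1 b
    have e4 := hrst 1 1
    rw [mul_one] at e2 e4
    rw [one_mul] at e3
    rw [e1, e2, e3, e4]; ring)
  have hz : ∀ e, g * C.z e * g⁻¹ = C.z e := fun e => by rw [hr, hid]
  have h11 : s 1 * t 1 = 1 := by
    have := hrst 1 1
    rw [mul_one, hid] at this
    exact this.symm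
  have hl0 : s 1 ≠ 0 := by
    intro h
    rw [h, zero_mul] at h11
    exact zero_ne_one h11
  have hsl : ∀ b, s b = s 1 * b := by
    intro b
    have h1 := hrst b 1
    rw [mul_one, hid] at h1
    calc s b = (s 1 * t 1) * s b := by rw [h11, one_mul]
      _ = s 1 * (s b * t 1) := by ring
      _ = s 1 * b := by rw [← h1]
  have htl : ∀ c, t c = c * (s 1)⁻¹ := by
    intro c
    have h1 := hrst 1 c
    rw [one_mul, hid] at h1
    rw [eq_mul_inv_iff_mul_eq₀ hl0, mul_comm]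
    exact h1.symm
  -- the action on `S`
  have hUQ : ∀ a, C.U a 0 ∈ C.QQ := fun a => TT_le (U_mem_TT a 0)
  have hU : ∀ a, K.π (g * C.U a 0 * g⁻¹) = (0, a, 0) := by
    intro a
    have hx := (hg _).1 (hUQ a)
    have h1 := K.comm hx ((hg _).1 (hvQ 1))
    have h2 : g * C.U a 0 * g⁻¹ * (g * C.v 1 * g⁻¹) = g * C.v 1 * g⁻¹ * (g * C.U a 0 * g⁻¹) := by
      have h3 := C.v_U_comm 1 a 0
      calc g * C.U a 0 * g⁻¹ * (g * C.v 1 * g⁻¹) = g * (C.U a 0 * C.v 1) * g⁻¹ := by group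
        _ = g * (C.v 1 * C.U a 0) * g⁻¹ := by rw [h3]
        _ = _ := by group
    rw [h2, hv] at h1
    have h3 := C.z_eq_one (left_eq_mul.1 h1)
    have h4 := K.comm hx ((hg _).1 (hwQ 1))
    have h5 : g * C.U a 0 * g⁻¹ * (g * w 1 * g⁻¹) = g * w 1 * g⁻¹ * (g * C.U a 0 * g⁻¹) := by
      have h6 := K.comm (hUQ a) (hwQ 1)
      rw [K.U, hwπ, hμ] at h6
      have e1 : bf8 0 (0, a, 0) (0, 0, 1) = 0 := by
        unfold bf8; simp only; ring
      rw [e1, C.z_zero, mul_one] at h6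
      calc g * C.U a 0 * g⁻¹ * (g * w 1 * g⁻¹) = g * (C.U a 0 * w 1) * g⁻¹ := by group
        _ = g * (w 1 * C.U a 0) * g⁻¹ := by rw [h6]
        _ = _ := by group
    rw [h5, htπ] at h4
    have h6 := C.z_eq_one (left_eq_mul.1 h4)
    have h7 := K.sq _ hx
    have h8 : g * C.U a 0 * g⁻¹ * (g * C.U a 0 * g⁻¹) = C.z (a ^ 5) := by
      calc g * C.U a 0 * g⁻¹ * (g * C.U a 0 * g⁻¹) = g * (C.U a 0 * C.U a 0) * g⁻¹ := by group
        _ = _ := by rw [C.U_sq, hz]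
    rw [h8] at h7
    have h9 := C.z_inj h7
    generalize K.π (g * C.U a 0 * g⁻¹) = p at h3 h6 h9
    obtain ⟨b', a', c'⟩ := p
    unfold bf8 at h3 h6
    unfold qf8 at h9
    simp only at h3 h6 h9
    have h10 : b' = 0 := by
      have : b' * s 1 = 0 := by
        rw [hμ] at h3
        linear_combination h3
      rcases mul_eq_zero.1 this with h | h
      · exact h
      · exact absurd h hl0
    have ht1 : t 1 ≠ 0 := by
      intro h
      rw [h, mul_zero] at h11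
      exact zero_ne_one h11
    have h12 : c' = 0 := by
      have : t 1 * c' = 0 := by
        rw [hμ] at h6
        linear_combination h6
      rcases mul_eq_zero.1 this with h | h
      · exact absurd h ht1
      · exact h
    subst h10 h12
    have h13 : a' = a := by
      apply pow5_inj
      linear_combination -h9
    rw [h13]
  refine ⟨s 1, hν, hμ, hg, hz, hl0, fun x hx => ?_⟩
  generalize hp : K.π x = p
  obtain ⟨b, a, c⟩ := p
  have h1 : K.π (C.v b * C.U a 0 * w c) = (b, a, c) := by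
    rw [K.mul _ (mul_mem (hvQ b) (hUQ a)) _ (hwQ c), K.vU, hwπ]
    refine Prod.ext ?_ (Prod.ext ?_ ?_)
    · show b + 0 = b
      rw [add_zero]
    · show a + 0 = a
      rw [add_zero]
    · show 0 + c = c
      rw [zero_add]
  obtain ⟨e, he⟩ := K.eq_mul_z hx (mul_mem (mul_mem (hvQ b) (hUQ a)) (hwQ c)) (hp.trans h1.symm)
  have h2 : g * x * g⁻¹ = (g * C.v b * g⁻¹) * (g * C.U a 0 * g⁻¹) * (g * w c * g⁻¹) * C.z e := by
    calc g * x * g⁻¹ = (g * C.v b * g⁻¹) * (g * C.U a 0 * g⁻¹) * (g * w c * g⁻¹) * (g * C.z e * g⁻¹) := by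
          rw [he]; group
      _ = _ := by rw [hz e]
  rw [h2, K.mul _ (mul_mem (mul_mem ((hg _).1 (hvQ b)) ((hg _).1 (hUQ a))) ((hg _).1 (hwQ c))) _ (z_mem_QQ e),
    K.mul _ (mul_mem ((hg _).1 (hvQ b)) ((hg _).1 (hUQ a))) _ ((hg _).1 (hwQ c)),
    K.mul _ ((hg _).1 (hvQ b)) _ ((hg _).1 (hUQ a)), hU, htπ, K.z, hv, htl, add_zero]
  refine Prod.ext ?_ (Prod.ext ?_ ?_)
  · show 0 + 0 + c * (s 1)⁻¹ = c * (s 1)⁻¹
    rw [add_zero, zero_add]
  · show 0 + a + 0 = a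
    rw [add_zero, zero_add]
  · show s b + 0 + 0 = s 1 * b
    rw [add_zero, add_zero, hsl]

namespace SD

variable {K : Coord8 C} {g : G} {l : K8} (S : SD K g l)

include S

theorem zc (e : K8) : g * C.z e = C.z e * g := mul_inv_eq_iff_eq_mul.1 (S.z e)

theorem v (b : K8) : K.π (g * C.v b * g⁻¹) = (0, 0, l * b) := by
  rw [S.pi _ (TT_le (v_mem_TT b)), K.v]
  simp

theorem U (a : K8) : ∃ f, g * C.U a 0 * g⁻¹ = C.U a f := by
  have h1 : K.π (g * C.U a 0 * g⁻¹) = (0, a, 0) := by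
    rw [S.pi _ (TT_le (U_mem_TT a 0)), K.U]
    simp
  obtain ⟨e, he⟩ := K.eq_mul_z ((S.norm _).1 (TT_le (U_mem_TT a 0))) (TT_le (U_mem_TT a 0)) (h1.trans (K.U a 0).symm)
  exact ⟨0 + e, by rw [he, C.U_mul_z]⟩

theorem notin : g ∉ C.QQ := by
  intro h
  have h1 := S.v 1
  obtain ⟨c, hc⟩ := h
  rw [hc.2, K.mul _ (TT_le (v_mem_TT 1)) _ (z_mem_QQ _), K.v, K.z, add_zero] at h1
  exact one_ne_zero (congrArg (fun t => t.1) h1)

end SD

end Core8

end Cfsg.Agent.Ru8
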