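import Cfsg.Agent.Ru8.Swap8

/-!
# `|R| = 8`, good case: swapping involutions centralise `S`
-/

set_option autoImplicit false

namespace Cfsg.Agent.Ru8

open Cfsg.Agent.RuB (K8)
open Cfsg.Agent
open Subgroup

namespace Core8

variable {G : Type*} [Group G] {C : Core8 G}

theorem delta_fin : ∀ x y u m : K8, (x + y) + (m ^ 4 * K8.al ^ 3 + m * (K8.al ^ 3) ^ 4) = x * K8.al →
    (u + y) + (m ^ 4 * K8.al ^ 4 + m * (K8.al ^ 4) ^ 4) = y * K8.al →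
    ((x + y) + u) + (m ^ 4 * K8.al ^ 5 + m * (K8.al ^ 5) ^ 4) = u * K8.al →
    ∃ γ : K8, x = γ ^ 4 * 1 + γ * 1 ^ 4 ∧ y = γ ^ 4 * K8.al + γ * K8.al ^ 4 ∧
      u = γ ^ 4 * K8.al ^ 2 + γ * (K8.al ^ 2) ^ 4 ∧ m = γ + γ * K8.al ^ 3 := by decide +kernel

theorem SD.comm_U {K : Coord8 C} {y : G} {l : K8} (S : SD K y l) (hyy : y * y = 1) (a : K8) :
    y * C.U a 0 * y⁻¹ = C.U a 0 := by
  have hyi : y⁻¹ = y := inv_eq_of_mul_eq_one_left hyy
  have hUQ : ∀ a e, C.U a e ∈ C.QQ := fun a e => TT_le (U_mem_TT a e)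
  have hU := S.U
  choose δ hδ using hU
  have hδadd : ∀ a b, δ (a + b) = δ a + δ b := by
    intro a b
    have h1 : C.U a 0 * C.U b 0 = C.U (a + b) 0 * C.z (a * b ^ 4) := by
      rw [C.U_mul, C.U_mul_z, zero_add]
    have h2 : (y * C.U a 0 * y⁻¹) * (y * C.U b 0 * y⁻¹) = (y * C.U (a + b) 0 * y⁻¹) * (y * C.z (a * b ^ 4) * y⁻¹) := by
      calc (y * C.U a 0 * y⁻¹) * (y * C.U b 0 * y⁻¹) = y * (C.U a 0 * C.U b 0) * y⁻¹ := by group
        _ = _ := by rw [h1]; group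
    rw [hδ, hδ, hδ, S.z, C.U_mul, C.U_mul_z] at h2
    have h3 := (C.U_inj h2).2
    linear_combination -h3
  -- the element `g1`
  set k : K8ˣ := kap with hk
  have hkv : (k : K8) = K8.al := kap_val
  set d := C.dk k with hd
  set g1 := d * (y * d * y⁻¹) with hg1
  have hdQ : ∀ x, x ∈ C.QQ ↔ d * x * d⁻¹ ∈ C.QQ := by
    intro x
    constructor
    · exact fun h => cj_mem h k
    · intro h
      have h1 := cj_mem h k⁻¹
      unfold cj at h1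
      rw [← dk_inv, inv_inv, ← hd] at h1
      have h2 : d⁻¹ * (d * x * d⁻¹) * d = x := by group
      rwa [h2] at h1
  have hdz : ∀ e, d * C.z e * d⁻¹ = C.z (e * K8.al ^ 4) := by
    intro e
    have := C.dk_z k e
    rwa [hkv] at this
  have hdπ : ∀ x ∈ C.QQ, K.π (d * x * d⁻¹) = ((K.π x).1, (K.π x).2.1 * K8.al ^ 5, (K.π x).2.2 * K8.al ^ 4) := by
    intro x hx
    have := K.dk k x hx
    rwa [hkv] at this
  have conj4 : ∀ x, g1 * x * g1⁻¹ = d * (y * (d * (y * x * y⁻¹) * d⁻¹) * y⁻¹) * d⁻¹ := by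
    intro x
    rw [hg1]
    calc d * (y * d * y⁻¹) * x * (d * (y * d * y⁻¹))⁻¹ = d * (y * (d * (y⁻¹ * x * y) * d⁻¹) * y⁻¹) * d⁻¹ := by group
      _ = _ := by rw [hyi]
  have hg1Q : ∀ x, x ∈ C.QQ ↔ g1 * x * g1⁻¹ ∈ C.QQ := by
    intro x
    rw [conj4, ← hdQ, ← S.norm, ← hdQ, ← S.norm]
  have al8 : K8.al ^ 8 = K8.al := by decide +kernel
  have hg1z : ∀ e, g1 * C.z e * g1⁻¹ = C.z (e * K8.al) := by
    intro e
    rw [conj4, S.z, hdz, S.z, hdz]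
    congr 1
    rw [mul_assoc, ← pow_add, al8]
  have al10 : K8.al ^ 10 = K8.al ^ 3 := by decide +kernel
  have hg1π : ∀ x ∈ C.QQ, K.π (g1 * x * g1⁻¹) = ((K.π x).1 * K8.al ^ 4, (K.π x).2.1 * K8.al ^ 3, (K.π x).2.2 * K8.al ^ 4) := by
    intro x hx
    have q1 := (S.norm _).1 hx
    have q2 := (hdQ _).1 q1
    have q3 := (S.norm _).1 q2
    rw [conj4, hdπ _ q3, S.pi _ q2, hdπ _ q1, S.pi _ hx]
    refine Prod.ext ?_ (Prod.ext ?_ ?_)
    · show l * (K.π x).1 * K8.al ^ 4 * l⁻¹ = _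
      have := S.l0
      field_simp
    · show (K.π x).2.1 * K8.al ^ 5 * K8.al ^ 5 = _
      rw [mul_assoc, ← pow_add, al10]
    · show l * ((K.π x).2.2 * l⁻¹) * K8.al ^ 4 = _
      have := S.l0
      field_simp
  -- the commutator
  set cc := y⁻¹ * (g1 * y * g1⁻¹) with hcc
  have hg1y : y * g1 * y⁻¹ = (y * d * y⁻¹) * d := by
    rw [hg1]
    calc y * (d * (y * d * y⁻¹)) * y⁻¹ = (y * d * y) * d * (y⁻¹ * y⁻¹) := by group
      _ = (y * d * y⁻¹) * d := by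
        rw [hyi, hyy, mul_one]
  have hconj : ∀ x, cc * (g1 * x * g1⁻¹) * cc⁻¹ = y * (g1 * (y * x * y⁻¹) * g1⁻¹) * y⁻¹ := by
    intro x
    rw [hcc]
    calc y⁻¹ * (g1 * y * g1⁻¹) * (g1 * x * g1⁻¹) * (y⁻¹ * (g1 * y * g1⁻¹))⁻¹ =
        y⁻¹ * (g1 * (y * x * y⁻¹) * g1⁻¹) * y := by group
      _ = _ := by rw [hyi]
  have hccQ : cc ∈ C.QQ := by
    refine mem_QQ_of (C := C) (fun b => ?_) ?_
    · have hal : K8.al ≠ 0 := by decide +kernel
      have h1 := hconj (C.z (b * K8.al⁻¹))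
      rw [hg1z, S.z, hg1z, S.z, inv_mul_cancel_right₀ hal] at h1
      exact mul_inv_eq_iff_eq_mul.1 h1
    · have hx : g1⁻¹ * C.v 1 * g1 ∈ C.QQ := by
        rw [hg1Q]
        have : g1 * (g1⁻¹ * C.v 1 * g1) * g1⁻¹ = C.v 1 := by group
        rw [this]
        exact TT_le (v_mem_TT 1)
      have h1 := hconj (g1⁻¹ * C.v 1 * g1)
      have e1 : g1 * (g1⁻¹ * C.v 1 * g1) * g1⁻¹ = C.v 1 := by group
      have q1 := (S.norm _).1 hx
      have q2 := (hg1Q _).1 q1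
      have q3 := (S.norm _).1 q2
      have h2 : K.π (cc * C.v 1 * cc⁻¹) = K.π (C.v 1) := by
        rw [e1] at h1
        rw [h1, S.pi _ q2, hg1π _ q1, S.pi _ hx]
        have h3 := hg1π _ hx
        rw [e1] at h3
        rw [h3]
        have := S.l0
        refine Prod.ext ?_ (Prod.ext ?_ ?_)
        · show l * (K.π (g1⁻¹ * C.v 1 * g1)).1 * K8.al ^ 4 * l⁻¹ = (K.π (g1⁻¹ * C.v 1 * g1)).1 * K8.al ^ 4
          field_simp
        · rfl
        · show l * ((K.π (g1⁻¹ * C.v 1 * g1)).2.2 * l⁻¹ * K8.al ^ 4) = (K.π (g1⁻¹ * C.v 1 * g1)).2.2 * K8.al ^ 4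
          field_simp
      have q4 : cc * C.v 1 * cc⁻¹ ∈ C.QQ := by
        rw [e1] at h1
        rw [h1]; exact q3
      exact K.eq_mul_z q4 (TT_le (v_mem_TT 1)) h2
  have hg1yy : g1 * y * g1⁻¹ = y * cc := by rw [hcc]; group
  -- `g1 U_a g1⁻¹`
  have hε : ∀ a, ∃ e, g1 * C.U a 0 * g1⁻¹ = C.U (a * K8.al ^ 3) e := by
    intro a
    have h1 := hg1π _ (hUQ a 0)
    rw [K.U] at h1
    obtain ⟨e, he⟩ := K.eq_mul_z ((hg1Q _).1 (hUQ a 0)) (hUQ (a * K8.al ^ 3) 0) (by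
      rw [h1, K.U]
      simp)
    exact ⟨0 + e, by rw [he, C.U_mul_z]⟩
  choose ε hε using hε
  have hyU : ∀ a e, y * C.U a e * y⁻¹ = C.U a (δ a + e) := by
    intro a e
    calc y * C.U a e * y⁻¹ = (y * C.U a 0 * y⁻¹) * (y * C.z e * y⁻¹) := by rw [C.U_eq a e]; group
      _ = _ := by rw [hδ, S.z, C.U_mul_z]
  have hccU : ∀ a e, cc * C.U a e * cc⁻¹ = C.U a (e + ((K.π cc).2.1 ^ 4 * a + (K.π cc).2.1 * a ^ 4)) := by
    intro a e
    have h1 := K.comm hccQ (hUQ a e)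
    rw [K.U, S.μ] at h1
    have e1 : bf8 0 (K.π cc) (0, a, 0) = (K.π cc).2.1 ^ 4 * a + (K.π cc).2.1 * a ^ 4 := by
      unfold bf8; simp only; ring
    rw [e1] at h1
    have h2 := zcomm hccQ ((K.π cc).2.1 ^ 4 * a + (K.π cc).2.1 * a ^ 4)
    rw [h1, mul_assoc (C.U a e), h2, ← mul_assoc, mul_inv_cancel_right, C.U_mul_z]
  set m := (K.π cc).2.1 with hm
  have key : ∀ a, δ (a * K8.al ^ 3) + (m ^ 4 * (a * K8.al ^ 3) + m * (a * K8.al ^ 3) ^ 4) = δ a * K8.al := by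
    intro a
    have h1 : g1 * (y * C.U a 0 * y⁻¹) * g1⁻¹ = (g1 * y * g1⁻¹) * (g1 * C.U a 0 * g1⁻¹) * (g1 * y * g1⁻¹)⁻¹ := by group
    have h2 : g1 * C.U a (δ a) * g1⁻¹ = (g1 * C.U a 0 * g1⁻¹) * (g1 * C.z (δ a) * g1⁻¹) := by
      rw [C.U_eq a (δ a)]; group
    rw [hδ, h2, hg1yy, hε, hg1z, C.U_mul_z] at h1
    have h3 : y * cc * C.U (a * K8.al ^ 3) (ε a) * (y * cc)⁻¹ =
        y * (cc * C.U (a * K8.al ^ 3) (ε a) * cc⁻¹) * y⁻¹ := by group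
    rw [h3, hccU, hyU] at h1
    have h4 := (C.U_inj h1).2
    linear_combination -h4
  have al3 : K8.al ^ 3 = 1 + K8.al := by decide +kernel
  have al4 : K8.al ^ 4 = K8.al ^ 2 + K8.al := by decide +kernel
  have al5 : K8.al ^ 5 = 1 + K8.al + K8.al ^ 2 := by decide +kernel
  have k1 := key 1
  have k2 := key K8.al
  have k3 := key (K8.al ^ 2)
  have e1 : (1 : K8) * K8.al ^ 3 = K8.al ^ 3 := one_mul _
  have e2 : K8.al * K8.al ^ 3 = K8.al ^ 4 := by ring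
  have e3 : K8.al ^ 2 * K8.al ^ 3 = K8.al ^ 5 := by ring
  have d1 : δ (K8.al ^ 3) = δ 1 + δ K8.al := by rw [al3, hδadd]
  have d2 : δ (K8.al ^ 4) = δ (K8.al ^ 2) + δ K8.al := by rw [al4, hδadd]
  have d3 : δ (K8.al ^ 5) = δ 1 + δ K8.al + δ (K8.al ^ 2) := by rw [al5, hδadd, hδadd]
  rw [e1, d1] at k1
  rw [e2, d2] at k2
  rw [e3, d3] at k3
  obtain ⟨γ, g1', g2', g3', g4'⟩ := delta_fin _ _ _ _ k1 k2 k3
  have hδγ : ∀ a, δ a = γ ^ 4 * a + γ * a ^ 4 := by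
    intro a
    have h1 := ev_spec (r := fun a => δ a + (γ ^ 4 * a + γ * a ^ 4)) (by
      intro a b
      show δ (a + b) + _ = _
      rw [hδadd]
      linear_combination (γ * (2 * a ^ 3 * b + 3 * a ^ 2 * b ^ 2 + 2 * a * b ^ 3)) * K8.two_eq) a
    have h2 : δ 1 + (γ ^ 4 * 1 + γ * 1 ^ 4) = 0 := by
      rw [← g1']; exact K8.add_self _
    have h3 : δ K8.al + (γ ^ 4 * K8.al + γ * K8.al ^ 4) = 0 := by
      rw [← g2']; exact K8.add_self _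
    have h4 : δ (K8.al ^ 2) + (γ ^ 4 * K8.al ^ 2 + γ * (K8.al ^ 2) ^ 4) = 0 := by
      rw [← g3']; exact K8.add_self _
    simp only [h2, h3, h4] at h1
    have h5 : ev 0 0 0 a = 0 := by
      unfold ev; simp
    rw [h5] at h1
    have h6 : δ a + (γ ^ 4 * a + γ * a ^ 4) = 0 := h1
    exact add_eq_zero8 h6
  -- `τ1`
  set t1 := y * C.U γ 0 with ht1
  have ht1z : ∀ e, t1 * C.z e = C.z e * t1 := by
    intro e
    rw [ht1, mul_assoc, C.U_z_comm, ← mul_assoc, S.zc, mul_assoc]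
  have ht1sq : t1 * t1 = C.z (γ ^ 5) := by
    have h1 : t1 * t1 = (y * C.U γ 0 * y⁻¹) * C.U γ 0 := by
      rw [ht1, hyi]; group
    rw [h1, hδ, C.U_mul, hδγ, C.z_eq, K8.add_self]
    congr 1
    linear_combination γ ^ 5 * K8.two_eq
  set x := (C.U γ 0)⁻¹ * cc * C.U (γ * K8.al ^ 3) (ε γ) with hx
  have hxQ : x ∈ C.QQ := mul_mem (mul_mem (inv_mem (hUQ _ _)) hccQ) (hUQ _ _)
  have hg1t : g1 * t1 * g1⁻¹ = t1 * x := by
    calc g1 * t1 * g1⁻¹ = (g1 * y * g1⁻¹) * (g1 * C.U γ 0 * g1⁻¹) := by rw [ht1]; group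
      _ = y * cc * C.U (γ * K8.al ^ 3) (ε γ) := by rw [hg1yy, hε]
      _ = t1 * x := by rw [ht1, hx]; group
  have hxπ : K.π x = ((K.π cc).1, 0, (K.π cc).2.2) := by
    rw [hx, K.mul _ (mul_mem (inv_mem (hUQ _ _)) hccQ) _ (hUQ _ _), K.mul _ (inv_mem (hUQ _ _)) _ hccQ,
      K.inv (hUQ _ _), K.U, K.U]
    refine Prod.ext ?_ (Prod.ext ?_ ?_)
    · show 0 + (K.π cc).1 + 0 = _
      rw [add_zero, zero_add]
    · show γ + (K.π cc).2.1 + γ * K8.al ^ 3 = 0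
      rw [← hm, g4']
      linear_combination (γ + γ * K8.al ^ 3) * K8.two_eq
    · show 0 + (K.π cc).2.2 + 0 = _
      rw [add_zero, zero_add]
  -- the square of `t1 x`
  have hsq2 : (t1⁻¹ * x * t1) * x = C.z (γ ^ 5 + γ ^ 5 * K8.al) := by
    have h1 : (t1 * x) * (t1 * x) = C.z (γ ^ 5 * K8.al) := by
      rw [← hg1t, ← hg1z, ← ht1sq]; group
    have h2 : (t1 * x) * (t1 * x) = (t1 * t1) * ((t1⁻¹ * x * t1) * x) := by group
    rw [h2, ht1sq] at h1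
    calc (t1⁻¹ * x * t1) * x = C.z (γ ^ 5) * (C.z (γ ^ 5) * ((t1⁻¹ * x * t1) * x)) := by
          rw [← mul_assoc (C.z (γ ^ 5)) (C.z (γ ^ 5)), C.z_sq, one_mul]
      _ = _ := by rw [h1, C.z_add]
  have ht1π : ∀ x ∈ C.QQ, t1⁻¹ * x * t1 ∈ C.QQ ∧
      K.π (t1⁻¹ * x * t1) = ((K.π x).2.2 * l⁻¹, (K.π x).2.1, l * (K.π x).1) := by
    intro x hx
    have h1 : t1⁻¹ * x * t1 = (C.U γ 0)⁻¹ * (y * x * y⁻¹) * C.U γ 0 := by
      rw [ht1]
      calc (y * C.U γ 0)⁻¹ * x * (y * C.U γ 0) = (C.U γ 0)⁻¹ * (y⁻¹ * x * y) * C.U γ 0 := by group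
        _ = _ := by rw [hyi]
    have q1 := (S.norm _).1 hx
    refine ⟨?_, ?_⟩
    · rw [h1]
      exact mul_mem (mul_mem (inv_mem (hUQ _ _)) q1) (hUQ _ _)
    · rw [h1, K.mul _ (mul_mem (inv_mem (hUQ _ _)) q1) _ (hUQ _ _), K.mul _ (inv_mem (hUQ _ _)) _ q1,
        K.inv (hUQ _ _), S.pi _ hx, K.U]
      refine Prod.ext ?_ (Prod.ext ?_ ?_)
      · show 0 + (K.π x).2.2 * l⁻¹ + 0 = _
        rw [add_zero, zero_add]
      · show γ + (K.π x).2.1 + γ = _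
        linear_combination γ * K8.two_eq
      · show 0 + l * (K.π x).1 + 0 = _
        rw [add_zero, zero_add]
  have hγ : γ = 0 := by
    obtain ⟨hq, hπ⟩ := ht1π x hxQ
    -- coordinates of `x`
    have h1 := congrArg K.π hsq2
    rw [K.mul _ hq _ hxQ, hπ, K.z, hxπ] at h1
    have h2 : l * (K.π cc).1 + (K.π cc).2.2 = 0 := congrArg (fun t => t.2.2) h1
    have h3 := add_eq_zero8 h2
    -- `x = v X z`
    obtain ⟨hXQ, hXπ⟩ := ht1π _ (TT_le (v_mem_TT (C := C) (K.π cc).1))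
    set X := t1⁻¹ * C.v (K.π cc).1 * t1 with hX
    rw [K.v] at hXπ
    have h4 : K.π (C.v (K.π cc).1 * X) = K.π x := by
      rw [K.mul _ (TT_le (v_mem_TT _)) _ hXQ, K.v, hXπ, hxπ]
      refine Prod.ext ?_ (Prod.ext ?_ ?_)
      · show (K.π cc).1 + 0 * l⁻¹ = _
        rw [zero_mul, add_zero]
      · show (0 : K8) + 0 = 0
        rw [add_zero]
      · show 0 + l * (K.π cc).1 = (K.π cc).2.2
        rw [zero_add, h3]
    obtain ⟨e, he⟩ := K.eq_mul_z hxQ (mul_mem (TT_le (v_mem_TT _)) hXQ) h4.symm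
    have hXX : X * X = 1 := by
      rw [hX]
      calc t1⁻¹ * C.v (K.π cc).1 * t1 * (t1⁻¹ * C.v (K.π cc).1 * t1) =
          t1⁻¹ * (C.v (K.π cc).1 * C.v (K.π cc).1) * t1 := by group
        _ = 1 := by rw [C.v_sq]; group
    have hX2 : t1⁻¹ * X * t1 = C.v (K.π cc).1 := by
      have h5 : t1⁻¹ * X * t1 = (t1 * t1)⁻¹ * C.v (K.π cc).1 * (t1 * t1) := by rw [hX]; group
      rw [h5, ht1sq, mul_assoc, C.v_z_comm, ← mul_assoc, inv_mul_cancel, one_mul]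
    have h5 : t1⁻¹ * x * t1 = X * C.v (K.π cc).1 * C.z e := by
      rw [he]
      calc t1⁻¹ * (C.v (K.π cc).1 * X * C.z e) * t1 = (t1⁻¹ * C.v (K.π cc).1 * t1) * (t1⁻¹ * X * t1) * (t1⁻¹ * (C.z e * t1)) := by group
        _ = X * C.v (K.π cc).1 * (t1⁻¹ * (C.z e * t1)) := by rw [hX2]
        _ = _ := by rw [← ht1z e]; group
    rw [h5, he] at hsq2
    have h6 : X * C.v (K.π cc).1 * C.z e * (C.v (K.π cc).1 * X * C.z e) = 1 := by
      have h7 := zcomm hXQ e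
      calc X * C.v (K.π cc).1 * C.z e * (C.v (K.π cc).1 * X * C.z e) =
          X * C.v (K.π cc).1 * (C.z e * C.v (K.π cc).1) * (X * C.z e) := by group
        _ = X * C.v (K.π cc).1 * (C.v (K.π cc).1 * C.z e) * (C.z e * X) := by rw [← C.v_z_comm, h7]
        _ = X * (C.v (K.π cc).1 * C.v (K.π cc).1) * (C.z e * C.z e) * X := by group
        _ = 1 := by rw [C.v_sq, C.z_sq, mul_one, mul_one, hXX]
    rw [h6] at hsq2
    have h7 := C.z_eq_one hsq2.symm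
    have h8 : γ ^ 5 * (1 + K8.al) = 0 := by linear_combination h7
    rcases mul_eq_zero.1 h8 with h | h
    · exact pow5_eq_zero _ h
    · exact absurd h (by decide +kernel)
  rw [hδ, hδγ, hγ]
  congr 1
  ring

end Core8

end Cfsg.Agent.Ru8
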